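import Mathlib
import Cfsg.Agent.Lib.Helper41.PsDefs

/-!
# Ps hive (S4321, helper41), leaf PS9 `ps_sylow_cent` (helper95)

If a Sylow `q`-subgroup centralizes `x` then `q` does not divide the class size of `x`.
-/

set_option autoImplicit false

namespace Cfsg.Agent.Lib.Helper41.Ps

open Subgroup
open Cfsg.Agent.Lib.Helper22.Cg

universe u

/-- PS9. if a Sylow `p`-subgroup centralizes `x` then `p ∤ cs x`; more generally for a prime `q`. -/
theorem ps_sylow_cent {G : Type u} [Group G] [Finite G] (q : ℕ) [Fact q.Prime] (Q : Sylow q G)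
    (x : G) (h : ∀ y ∈ Q, x * y = y * x) : ¬ q ∣ cs x := by
  have hle : (Q : Subgroup G) ≤ centralizer ({x} : Set G) := by
    intro y hy
    rw [mem_centralizer_iff]
    intro z hz
    rw [Set.mem_singleton_iff] at hz
    subst hz
    exact h y hy
  have hdvd : cs x ∣ (Q : Subgroup G).index := Subgroup.index_dvd_of_le hle
  intro hq
  exact Q.not_dvd_index (hq.trans hdvd)

end Cfsg.Agent.Lib.Helper41.Ps
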