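import Mathlib
import Cfsg.Agent.Lib.Helper22.CgDefs

/-!
# Cg hive (S4257, helper22), leaf CG3b (helper95)

For finite `G`, membership in the right stabilizer `rstab x` of the class of `x` needs only one
inclusion: right multiplication by `n` is injective on the (finite) class, hence bijective.
-/

set_option autoImplicit false

namespace Cfsg.Agent.Lib.Helper22.Cg

open Subgroup

universe u

/-- CG3b. membership in `rstab x` for finite `G` needs only one inclusion. -/
theorem cg3b {G : Type u} [Group G] [Finite G] (x n : G)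
    (h : ∀ k : G, ∃ k' : G, (k * x * k⁻¹) * n = k' * x * k'⁻¹) : n ∈ rstab x := by
  refine ⟨h, ?_⟩
  -- the class of `x`
  let S : Set G := Set.range (fun k : G => k * x * k⁻¹)
  have hS : ∀ y : S, (y : G) * n ∈ S := by
    rintro ⟨y, k, rfl⟩
    obtain ⟨k', hk'⟩ := h k
    exact ⟨k', hk'.symm⟩
  let f : S → S := fun y => ⟨(y : G) * n, hS y⟩
  have hinj : Function.Injective f := by
    intro a b hab
    have h1 : (a : G) * n = (b : G) * n := congrArg Subtype.val hab
    exact Subtype.ext (mul_right_cancel h1)
  have hsurj : Function.Surjective f := Finite.surjective_of_injective hinj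
  intro k
  obtain ⟨⟨y, k', hy⟩, hyk⟩ := hsurj ⟨k * x * k⁻¹, k, rfl⟩
  have h2 : y * n = k * x * k⁻¹ := congrArg Subtype.val hyk
  refine ⟨k', ?_⟩
  rw [← h2, mul_inv_cancel_right]
  exact hy.symm

end Cfsg.Agent.Lib.Helper22.Cg
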