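import Mathlib
import Cfsg.Prelude.Def_FusionSystem
import Cfsg.Agent.Lib.Helper85.Saturated

set_option autoImplicit false

/-! A criterion for the fusion system of a finite group on a Sylow subgroup to be simple: no proper
non-trivial strongly closed subgroup, and the Sylow subgroup controls its own automisers. -/

namespace Cfsg.Agent.Lib.Helper95.Fusion

open Cfsg Cfsg.FusionSystem

variable {G : Type*} [Group G]

theorem conjHom_apply (P : Subgroup G) (g : G) (x : P) : conjHom P g x = g * (x : G) * g⁻¹ := rfl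

/-- every automorphism of `S` in the fusion system of `G` is induced by an element of `S`, provided
this holds for the elements of `G` normalising `S` -/
theorem autGroup_conj (S : Subgroup G)
    (hB : ∀ g : G, (∀ x ∈ S, g * x * g⁻¹ ∈ S) →
      ∃ s ∈ S, ∀ x ∈ S, g * x * g⁻¹ = s * x * s⁻¹)
    (α : MulAut S) (hα : α ∈ (groupFusionSystem S).autGroup S) :
    ∃ s ∈ S, ∀ x : S, ((α x : S) : G) = s * (x : G) * s⁻¹ := by
  unfold FusionSystem.autGroup at hα
  induction hα using Subgroup.closure_induction with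
  | mem α hα =>
    obtain ⟨-, hval, g, hg⟩ := hα
    have hnorm : ∀ x ∈ S, g * x * g⁻¹ ∈ S := by
      intro x hx
      have h1 := hg ⟨x, hx⟩
      have h2 := hval ⟨x, hx⟩
      rw [h1] at h2
      exact h2
    obtain ⟨s, hs, hsx⟩ := hB g hnorm
    refine ⟨s, hs, fun x => ?_⟩
    have h1 := hg x
    have h2 : (S.subtype.comp α.toMonoidHom) x = ((α x : S) : G) := rfl
    rw [← h2, h1]
    exact hsx x x.2
  | one =>
    exact ⟨1, S.one_mem, fun x => by simp⟩
  | mul α β _ _ ihα ihβ =>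
    obtain ⟨s, hs, hsx⟩ := ihα
    obtain ⟨t, ht, htx⟩ := ihβ
    refine ⟨s * t, S.mul_mem hs ht, fun x => ?_⟩
    rw [MulAut.mul_apply, hsx, htx]
    group
  | inv α _ ih =>
    obtain ⟨s, hs, hsx⟩ := ih
    refine ⟨s⁻¹, S.inv_mem hs, fun x => ?_⟩
    have h1 := hsx (α⁻¹ x)
    rw [MulAut.apply_inv_self] at h1
    rw [h1]
    group

/-- the criterion -/
theorem isSimple_of [Finite G] {p : ℕ} [Fact p.Prime] (S : Sylow p G)
    (hS : (S : Subgroup G) ≠ ⊥)
    (hA : ∀ T : Subgroup G, T ≤ (S : Subgroup G) → T ≠ ⊥ →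
      (∀ x ∈ T, ∀ g : G, g * x * g⁻¹ ∈ (S : Subgroup G) → g * x * g⁻¹ ∈ T) →
      T = (S : Subgroup G))
    (hB : ∀ g : G, (∀ x ∈ (S : Subgroup G), g * x * g⁻¹ ∈ (S : Subgroup G)) →
      ∃ s ∈ (S : Subgroup G), ∀ x ∈ (S : Subgroup G), g * x * g⁻¹ = s * x * s⁻¹) :
    (groupFusionSystem (S : Subgroup G)).IsSimple p := by
  refine ⟨Cfsg.Agent.Lib.Helper85.groupFusionSystem_isSaturated S, hS, ?_⟩
  intro T E hE
  obtain ⟨⟨-, -, hsub, hsc, -, hfrat⟩, -⟩ := hE
  by_cases hT : T = ⊥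
  · exact Or.inl hT
  · right
    have hTS : T = (S : Subgroup G) := by
      apply hA T hsc.1 hT
      intro x hx g hg
      have hR : Subgroup.zpowers x ≤ T := by
        rw [Subgroup.zpowers_le]
        exact hx
      have hφ : conjHom (Subgroup.zpowers x) g ∈
          (groupFusionSystem (S : Subgroup G)).Hom (Subgroup.zpowers x) := by
        refine ⟨hR.trans hsc.1, ?_, g, fun y => rfl⟩
        rintro ⟨y, k, rfl⟩
        rw [conjHom_apply]
        have : g * x ^ k * g⁻¹ = (g * x * g⁻¹) ^ k := by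
          rw [conj_zpow]
        show g * x ^ k * g⁻¹ ∈ (S : Subgroup G)
        rw [this]
        exact Subgroup.zpow_mem _ hg k
      exact hsc.2 _ hR _ hφ ⟨x, Subgroup.mem_zpowers x⟩
    subst hTS
    refine ⟨rfl, fun P => Set.Subset.antisymm (hsub P) ?_⟩
    intro φ hφ
    have hP : P ≤ (S : Subgroup G) := hφ.1
    obtain ⟨α, hα, φ₀, hφ₀, hfac⟩ := hfrat P hP φ hφ
    obtain ⟨s, hs, hsx⟩ := autGroup_conj (S : Subgroup G) hB α hα
    have hval : ∀ x : P, φ₀ x ∈ (S : Subgroup G) := (E.le_of_mem hφ₀).2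
    have hc := E.comp_mem hφ₀ (E.conj_mem (le_refl _) hs) hval
    have heq : φ = (conjHom (S : Subgroup G) s).comp (φ₀.codRestrict (S : Subgroup G) hval) := by
      apply MonoidHom.ext
      intro x
      rw [hfac x (hval x), hsx]
      rfl
    rw [heq]
    exact hc

/-- the criterion for a self-normalising Sylow subgroup -/
theorem isSimple_of_selfNormalizing [Finite G] {p : ℕ} [Fact p.Prime] (S : Sylow p G)
    (hS : (S : Subgroup G) ≠ ⊥)
    (hA : ∀ T : Subgroup G, T ≤ (S : Subgroup G) → T ≠ ⊥ →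
      (∀ x ∈ T, ∀ g : G, g * x * g⁻¹ ∈ (S : Subgroup G) → g * x * g⁻¹ ∈ T) →
      T = (S : Subgroup G))
    (hB : ∀ g : G, (∀ x ∈ (S : Subgroup G), g * x * g⁻¹ ∈ (S : Subgroup G)) →
      g ∈ (S : Subgroup G)) :
    (groupFusionSystem (S : Subgroup G)).IsSimple p :=
  isSimple_of S hS hA (fun g hg => ⟨g, hB g hg, fun _ _ => rfl⟩)

end Cfsg.Agent.Lib.Helper95.Fusion
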