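import Mathlib
import Cfsg.Agent.Lib.Helper95.FusionSimple

set_option autoImplicit false

/-! Transport of the two hypotheses of `Fusion.isSimple_of_selfNormalizing` along conjugation, so
that it is enough to check them for ONE Sylow `p`-subgroup. -/

namespace Cfsg.Agent.Lib.Helper95.Fusion

open Cfsg Cfsg.FusionSystem
open scoped Pointwise

variable {G : Type*} [Group G]

/-- (A): the subgroup `S` has no proper non-trivial strongly closed subgroup -/
def PropA (S : Subgroup G) : Prop :=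
  ∀ T : Subgroup G, T ≤ S → T ≠ ⊥ →
    (∀ x ∈ T, ∀ g : G, g * x * g⁻¹ ∈ S → g * x * g⁻¹ ∈ T) → T = S

/-- (B): the subgroup `S` is its own normaliser -/
def PropB (S : Subgroup G) : Prop :=
  ∀ g : G, (∀ x ∈ S, g * x * g⁻¹ ∈ S) → g ∈ S

theorem mem_conj_smul_iff (k : G) (S : Subgroup G) (x : G) :
    x ∈ MulAut.conj k • S ↔ k⁻¹ * x * k ∈ S := by
  rw [Subgroup.mem_pointwise_smul_iff_inv_smul_mem]
  simp [MulAut.smul_def]

theorem propA_conj {S : Subgroup G} (k : G) (h : PropA S) : PropA (MulAut.conj k • S) := by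
  intro T hT hne hsc
  have key : MulAut.conj k⁻¹ • T = S := by
    apply h
    · intro x hx
      rw [mem_conj_smul_iff] at hx
      have h1 := hT hx
      rw [mem_conj_smul_iff] at h1
      simpa [mul_assoc] using h1
    · intro hbot
      apply hne
      rw [eq_bot_iff]
      intro x hx
      have h1 : k⁻¹ * x * k ∈ MulAut.conj k⁻¹ • T := by
        rw [mem_conj_smul_iff]
        simpa [mul_assoc] using hx
      rw [hbot, Subgroup.mem_bot] at h1
      rw [Subgroup.mem_bot]
      have h2 : x = k * (k⁻¹ * x * k) * k⁻¹ := by group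
      rw [h2, h1]
      group
    · intro x hx g hg
      rw [mem_conj_smul_iff] at hx ⊢
      have h1 : k * g * k⁻¹ * (k⁻¹⁻¹ * x * k⁻¹) * (k * g * k⁻¹)⁻¹ ∈ T := by
        apply hsc _ hx
        rw [mem_conj_smul_iff]
        have h2 : k⁻¹ * (k * g * k⁻¹ * (k⁻¹⁻¹ * x * k⁻¹) * (k * g * k⁻¹)⁻¹) * k = g * x * g⁻¹ := by
          group
        rw [h2]
        exact hg
      have h3 : k⁻¹⁻¹ * (g * x * g⁻¹) * k⁻¹ =
          k * g * k⁻¹ * (k⁻¹⁻¹ * x * k⁻¹) * (k * g * k⁻¹)⁻¹ := by group
      rw [h3]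
      exact h1
  rw [← key]
  ext x
  rw [mem_conj_smul_iff, mem_conj_smul_iff]
  have h2 : k⁻¹⁻¹ * (k⁻¹ * x * k) * k⁻¹ = x := by group
  rw [h2]

theorem propB_conj {S : Subgroup G} (k : G) (h : PropB S) : PropB (MulAut.conj k • S) := by
  intro g hg
  rw [mem_conj_smul_iff]
  apply h
  intro x hx
  have h1 : k * x * k⁻¹ ∈ MulAut.conj k • S := by
    rw [mem_conj_smul_iff]
    have h2 : k⁻¹ * (k * x * k⁻¹) * k = x := by group
    rw [h2]
    exact hx
  have h3 := hg _ h1
  rw [mem_conj_smul_iff] at h3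
  have h4 : k⁻¹ * (g * (k * x * k⁻¹) * g⁻¹) * k = k⁻¹ * g * k * x * (k⁻¹ * g * k)⁻¹ := by group
  rw [h4] at h3
  exact h3

/-- the fusion system of `G` on every Sylow `p`-subgroup is simple as soon as (A) and (B) hold for
one Sylow `p`-subgroup `S0 ≠ ⊥` -/
theorem isSimple_of_one [Finite G] {p : ℕ} [Fact p.Prime] (S0 : Sylow p G)
    (hS : (S0 : Subgroup G) ≠ ⊥) (hA : PropA (S0 : Subgroup G)) (hB : PropB (S0 : Subgroup G))
    (S : Sylow p G) : (groupFusionSystem (S : Subgroup G)).IsSimple p := by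
  obtain ⟨k, rfl⟩ := MulAction.exists_smul_eq G S0 S
  have hcoe : ((k • S0 : Sylow p G) : Subgroup G) = MulAut.conj k • (S0 : Subgroup G) := rfl
  apply isSimple_of_selfNormalizing
  · rw [hcoe]
    intro hbot
    apply hS
    rw [eq_bot_iff]
    intro x hx
    have h1 : k * x * k⁻¹ ∈ MulAut.conj k • (S0 : Subgroup G) := by
      rw [mem_conj_smul_iff]
      have h2 : k⁻¹ * (k * x * k⁻¹) * k = x := by group
      rw [h2]
      exact hx
    rw [hbot, Subgroup.mem_bot] at h1
    rw [Subgroup.mem_bot]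
    have h2 : x = k⁻¹ * (k * x * k⁻¹) * k := by group
    rw [h2, h1]
    group
  · rw [hcoe]
    exact propA_conj k hA
  · rw [hcoe]
    exact propB_conj k hB

/-- the same, for a subgroup `S0` given with its order: `|G| = p ^ n * m` with `p ∤ m`,
`|S0| = p ^ n`, `n ≠ 0` -/
theorem isSimple_of_card [Finite G] {p : ℕ} [Fact p.Prime] (S0 : Subgroup G) {n m : ℕ}
    (hG : Nat.card G = p ^ n * m) (hm : ¬ p ∣ m) (hn : n ≠ 0) (hS0 : Nat.card S0 = p ^ n)
    (hA : PropA S0) (hB : PropB S0)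
    (S : Sylow p G) : (groupFusionSystem (S : Subgroup G)).IsSimple p := by
  have hp : p.Prime := Fact.out
  have hm0 : m ≠ 0 := by
    rintro rfl
    exact hm (dvd_zero p)
  have hfac : (Nat.card G).factorization p = n := by
    rw [hG, Nat.factorization_mul (pow_ne_zero _ hp.ne_zero) hm0, hp.factorization_pow]
    simp [Nat.factorization_eq_zero_of_not_dvd hm]
  have hc : Nat.card S0 = p ^ (Nat.card G).factorization p := by rw [hfac, hS0]
  have hcoe : ((Sylow.ofCard S0 hc : Sylow p G) : Subgroup G) = S0 := rfl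
  apply isSimple_of_one (Sylow.ofCard S0 hc)
  · rw [hcoe]
    intro hbot
    rw [hbot, Subgroup.card_bot] at hS0
    have : 1 < p ^ n := Nat.one_lt_pow hn hp.one_lt
    omega
  · rw [hcoe]
    exact hA
  · rw [hcoe]
    exact hB

end Cfsg.Agent.Lib.Helper95.Fusion
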