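import Mathlib
import Cfsg.Prelude.Def_Transfer
import Cfsg.Agent.Lib.Helper33.NormalPComp
import Cfsg.Agent.Lib.Helper16.GagDefs

/-!
# S4840 hive, leaf GAG-A (helper95)

`A` a normal `p'`-subgroup with `Γ ⧸ A` abelian: `Γ` has a normal `p`-complement and abelian Sylow
`p`-subgroups.
-/

set_option autoImplicit false

namespace Cfsg.Agent.Lib.Helper16.Gag

universe u

/-- images in `Γ ⧸ A` commute -/
theorem gaga_commute {Γ : Type u} [Group Γ] (A : Subgroup Γ) [A.Normal]
    (hab : ∀ g k : Γ, g * k * g⁻¹ * k⁻¹ ∈ A) (g h : Γ) :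
    Commute (QuotientGroup.mk g : Γ ⧸ A) (QuotientGroup.mk h) := by
  show (QuotientGroup.mk g : Γ ⧸ A) * QuotientGroup.mk h = QuotientGroup.mk h * QuotientGroup.mk g
  rw [← QuotientGroup.mk_mul, ← QuotientGroup.mk_mul, QuotientGroup.eq]
  have h1 := hab h⁻¹ g⁻¹
  have h2 : (g * h)⁻¹ * (h * g) = h⁻¹ * g⁻¹ * h⁻¹⁻¹ * g⁻¹⁻¹ := by group
  rw [h2]
  exact h1

/-- the subgroup of elements whose `m`-th power lies in `A` -/
def gaga_K {Γ : Type u} [Group Γ] (A : Subgroup Γ) [A.Normal]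
    (hab : ∀ g k : Γ, g * k * g⁻¹ * k⁻¹ ∈ A) (m : ℕ) : Subgroup Γ where
  carrier := {g | g ^ m ∈ A}
  one_mem' := by
    show (1 : Γ) ^ m ∈ A
    rw [one_pow]; exact A.one_mem
  mul_mem' := by
    intro a b ha hb
    show (a * b) ^ m ∈ A
    have ha' : ((QuotientGroup.mk a : Γ ⧸ A)) ^ m = 1 := by
      rw [← QuotientGroup.mk_pow]; exact (QuotientGroup.eq_one_iff _).mpr ha
    have hb' : ((QuotientGroup.mk b : Γ ⧸ A)) ^ m = 1 := by
      rw [← QuotientGroup.mk_pow]; exact (QuotientGroup.eq_one_iff _).mpr hb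
    rw [← QuotientGroup.eq_one_iff, QuotientGroup.mk_pow, QuotientGroup.mk_mul,
      (gaga_commute A hab a b).mul_pow, ha', hb', one_mul]
  inv_mem' := by
    intro a ha
    show (a⁻¹) ^ m ∈ A
    rw [inv_pow]
    exact A.inv_mem ha

theorem gaga_mem_K {Γ : Type u} [Group Γ] (A : Subgroup Γ) [A.Normal]
    (hab : ∀ g k : Γ, g * k * g⁻¹ * k⁻¹ ∈ A) (m : ℕ) (g : Γ) :
    g ∈ gaga_K A hab m ↔ g ^ m ∈ A := Iff.rfl

/-- GAG-A. -/
theorem abq (p : ℕ) [Fact p.Prime] {Γ : Type u} [Group Γ] [Finite Γ] (A : Subgroup Γ) [A.Normal]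
    (hA : (Nat.card A).Coprime p) (hab : ∀ g k : Γ, g * k * g⁻¹ * k⁻¹ ∈ A) :
    Cfsg.HasNormalPComplement p Γ ∧ ∀ Q : Sylow p Γ, IsMulCommutative (Q : Subgroup Γ) := by
  have hp : p.Prime := Fact.out
  constructor
  · -- the `p'`-elements are exactly the elements whose `m`-th power lies in `A`
    have hpos : Nat.card Γ ≠ 0 := Nat.card_pos.ne'
    obtain ⟨e, m, hm, hem⟩ := Nat.exists_eq_pow_mul_and_not_dvd hpos p hp.ne_one
    have hmcop : m.Coprime p := ((Nat.Prime.coprime_iff_not_dvd hp).mpr hm).symm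
    apply Cfsg.Agent.Lib.Helper33.hasNormalPComplement_of_coprime_elements (gaga_K A hab m)
    intro x
    rw [gaga_mem_K]
    constructor
    · intro hx
      have h1 : (x ^ m) ^ Nat.card A = 1 := by
        have := pow_card_eq_one' (G := A) (x := ⟨x ^ m, hx⟩)
        exact congrArg Subtype.val this
      rw [← pow_mul] at h1
      have h2 : orderOf x ∣ m * Nat.card A := orderOf_dvd_of_pow_eq_one h1
      exact Nat.Coprime.coprime_dvd_left h2 (Nat.Coprime.mul_left hmcop hA)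
    · intro hx
      have h1 : orderOf x ∣ p ^ e * m := by rw [← hem]; exact orderOf_dvd_natCard x
      have h2 : orderOf x ∣ m :=
        (Nat.Coprime.dvd_mul_left (Nat.Coprime.pow_right e hx)).mp h1
      rw [orderOf_dvd_iff_pow_eq_one.mp h2]
      exact A.one_mem
  · intro Q
    refine ⟨⟨?_⟩⟩
    rintro ⟨x, hx⟩ ⟨y, hy⟩
    apply Subtype.ext
    show x * y = y * x
    have hc : x * y * x⁻¹ * y⁻¹ ∈ A := hab x y
    have hcQ : x * y * x⁻¹ * y⁻¹ ∈ (Q : Subgroup Γ) :=
      Subgroup.mul_mem _ (Subgroup.mul_mem _ (Subgroup.mul_mem _ hx hy) (Subgroup.inv_mem _ hx))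
        (Subgroup.inv_mem _ hy)
    -- order of the commutator divides `|A|` and is a power of `p`
    have h1 : orderOf (x * y * x⁻¹ * y⁻¹) ∣ Nat.card A := by
      have := orderOf_dvd_natCard (⟨x * y * x⁻¹ * y⁻¹, hc⟩ : A)
      rwa [← Subgroup.orderOf_coe] at this
    obtain ⟨k, hk⟩ := (IsPGroup.iff_orderOf.mp Q.isPGroup') ⟨x * y * x⁻¹ * y⁻¹, hcQ⟩
    have h2 : orderOf (x * y * x⁻¹ * y⁻¹) = p ^ k := by
      rw [← hk]; exact (Subgroup.orderOf_mk _ hcQ).symm
    have h3 : (orderOf (x * y * x⁻¹ * y⁻¹)).Coprime (p ^ k) :=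
      Nat.Coprime.coprime_dvd_left h1 (Nat.Coprime.pow_right k hA)
    rw [h2] at h3
    have h4 : p ^ k = 1 := (Nat.coprime_self _).mp h3
    rw [h4, orderOf_eq_one_iff] at h2
    calc x * y = (x * y * x⁻¹ * y⁻¹) * (y * x) := by group
      _ = y * x := by rw [h2, one_mul]

/-! ## S4561 hive (second `Gag` hive), leaf GAG-A (`kk_embed`, Kaloujnine–Krasner for a cyclic
quotient).  Kept in this file, next to the S4840 leaf above, because both hives import
`Cfsg.Agent.Lib.Helper95.GagA`. -/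

section kk

universe v
open scoped IsMulCommutative

/-- a transversal -/
noncomputable def gagA_t {G : Type u} [Group G] {p : ℕ} (π : G →* Multiplicative (ZMod p))
    (hπ : Function.Surjective π) (i : ZMod p) : G :=
  Function.surjInv hπ (Multiplicative.ofAdd i)

theorem gagA_pi_t {G : Type u} [Group G] {p : ℕ} (π : G →* Multiplicative (ZMod p))
    (hπ : Function.Surjective π) (i : ZMod p) : π (gagA_t π hπ i) = Multiplicative.ofAdd i :=
  Function.surjInv_eq hπ _

theorem gagA_mem {G : Type u} [Group G] {p : ℕ} (π : G →* Multiplicative (ZMod p))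
    (hπ : Function.Surjective π) (g : G) (i : ZMod p) :
    (gagA_t π hπ i)⁻¹ * g * gagA_t π hπ (i - Multiplicative.toAdd (π g)) ∈ π.ker := by
  rw [MonoidHom.mem_ker, map_mul, map_mul, map_inv, gagA_pi_t, gagA_pi_t]
  apply Multiplicative.toAdd.injective
  simp only [toAdd_mul, toAdd_inv, toAdd_ofAdd, toAdd_one]
  abel

/-- the Kaloujnine–Krasner map -/
noncomputable def gagA_f {G : Type u} [Group G] {p : ℕ} (π : G →* Multiplicative (ZMod p))
    (hπ : Function.Surjective π) : G →* Wr π.ker p :=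
  MonoidHom.mk' (fun g => ⟨fun i => ⟨(gagA_t π hπ i)⁻¹ * g *
      gagA_t π hπ (i - Multiplicative.toAdd (π g)), gagA_mem π hπ g i⟩,
      Multiplicative.toAdd (π g)⟩) (by
    intro g h
    apply Wr.ext
    · funext i
      apply Subtype.ext
      simp only [Wr.mul_f, Subgroup.coe_mul, map_mul, toAdd_mul, sub_add_eq_sub_sub]
      group
    · simp only [Wr.mul_a, map_mul, toAdd_mul])

theorem gagA_f_apply_a {G : Type u} [Group G] {p : ℕ} (π : G →* Multiplicative (ZMod p))
    (hπ : Function.Surjective π) (g : G) : (gagA_f π hπ g).a = Multiplicative.toAdd (π g) := rfl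

theorem gagA_f_apply_f {G : Type u} [Group G] {p : ℕ} (π : G →* Multiplicative (ZMod p))
    (hπ : Function.Surjective π) (g : G) (i : ZMod p) :
    (((gagA_f π hπ g).f i : π.ker) : G) = (gagA_t π hπ i)⁻¹ * g *
      gagA_t π hπ (i - Multiplicative.toAdd (π g)) := rfl

/-- A (Kaloujnine–Krasner for a cyclic quotient) -/
theorem kk_embed {G : Type u} [Group G] {p : ℕ} (π : G →* Multiplicative (ZMod p))
    (hπ : Function.Surjective π) : ∃ f : G →* Wr π.ker p, Function.Injective f := by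
  refine ⟨gagA_f π hπ, ?_⟩
  intro g h hgh
  have ha : Multiplicative.toAdd (π g) = Multiplicative.toAdd (π h) := by
    rw [← gagA_f_apply_a π hπ g, ← gagA_f_apply_a π hπ h, hgh]
  have hf : (((gagA_f π hπ g).f 0 : π.ker) : G) = (((gagA_f π hπ h).f 0 : π.ker) : G) := by
    rw [hgh]
  rw [gagA_f_apply_f, gagA_f_apply_f, ha] at hf
  exact mul_left_cancel (mul_right_cancel hf)

end kk

end Cfsg.Agent.Lib.Helper16.Gag
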