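import Mathlib
import Cfsg.Agent.Lib.Helper16.GagDefs

/-! # Gag hive (S4561, helper16): leaf GAG-T2 (`Tw.comm_mem_Mker`) -/

set_option autoImplicit false
universe u v

namespace Cfsg.Agent.Lib.Helper16.Gag
open scoped IsMulCommutative

theorem gagT2_comm_eq {H : Type u} [Group H] {p : ℕ} (z : Tw H p) (hz : z ∈ Tw.Zhat H p)
    (g : Tw H p) :
    g * z * g⁻¹ * z⁻¹ = ⟨fun i => z.f (i - g.a) * (z.f i)⁻¹, 0, 0, 0⟩ := by
  obtain ⟨hza, hzb, hzf⟩ := hz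
  apply Tw.ext
  · funext i
    show g.f i * z.f (i - g.a) * (g.f (i - (g.a + z.a) + g.a))⁻¹ *
      (z.f (i - (g.a + z.a + -g.a) + z.a))⁻¹ = z.f (i - g.a) * (z.f i)⁻¹
    rw [hza]
    have e1 : i - (g.a + 0) + g.a = i := by ring
    have e2 : i - (g.a + 0 + -g.a) + 0 = i := by ring
    rw [e1, e2, (Subgroup.mem_center_iff.mp (hzf (i - g.a))) (g.f i), mul_inv_cancel_right]
  · show g.a + z.a + -g.a + -z.a = 0
    ring
  · show g.b + z.b + -g.b + -z.b = 0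
    ring
  · show g.c + z.c + g.a * z.b + (-g.c + g.a * g.b) + (g.a + z.a) * -g.b + (-z.c + z.a * z.b) +
      (g.a + z.a + -g.a) * -z.b = 0
    rw [hza, hzb]
    ring

theorem gagT2_phi_eq_one {H : Type u} [Group H] {p : ℕ} [NeZero p]
    (ι : Multiplicative (ZMod p) →* Subgroup.center H) (w : Tw H p) (h : w ∈ Tw.Zhat H p)
    (ζ : ZMod p → Subgroup.center H) (a : ZMod p)
    (hw : ∀ i, w.f i = (ζ (i - a) : H) * ((ζ i : H))⁻¹) (hc : w.c = 0) :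
    Tw.phi ι ⟨w, h⟩ = 1 := by
  rw [Tw.phi_apply]
  have h1 : ∀ i : ZMod p, (⟨(⟨w, h⟩ : Tw.Zhat H p).1.f i, (⟨w, h⟩ : Tw.Zhat H p).2.2.2 i⟩ :
      Subgroup.center H) = ζ (i - a) * (ζ i)⁻¹ := by
    intro i
    apply Subtype.ext
    rw [Subgroup.coe_mul, Subgroup.coe_inv]
    exact hw i
  rw [Finset.prod_congr rfl (fun i _ => h1 i), Finset.prod_mul_distrib, Finset.prod_inv_distrib]
  have h2 : ∏ i : ZMod p, ζ (i - a) = ∏ i : ZMod p, ζ i :=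
    Equiv.prod_comp (Equiv.subRight a) ζ
  have h3 : (⟨w, h⟩ : Tw.Zhat H p).1.c = 0 := hc
  rw [h2, mul_inv_cancel, h3, ofAdd_zero, map_one, mul_one]

/-- T2 -/
theorem Tw.comm_mem_Mker {H : Type u} [Group H] {p : ℕ} [NeZero p]
    (ι : Multiplicative (ZMod p) →* Subgroup.center H) (z : Tw H p) (hz : z ∈ Tw.Zhat H p)
    (g : Tw H p) : g * z * g⁻¹ * z⁻¹ ∈ Tw.Mker ι := by
  rw [Tw.mem_Mker, gagT2_comm_eq z hz g]
  have hzf := hz.2.2
  refine ⟨⟨rfl, rfl, fun i => mul_mem (hzf _) (inv_mem (hzf _))⟩, ?_⟩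
  exact gagT2_phi_eq_one ι _ _ (fun i => ⟨z.f i, hzf i⟩) g.a (fun i => rfl) rfl

end Cfsg.Agent.Lib.Helper16.Gag
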