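import Mathlib
import Cfsg.Agent.Lib.Helper16.GagDefs

/-! # Gag hive (S4561, helper16): leaf GAG-T3 (`Tw.phi_surjective`) -/

set_option autoImplicit false
universe u v

namespace Cfsg.Agent.Lib.Helper16.Gag
open scoped IsMulCommutative

theorem gagT3_mem {H : Type u} [Group H] {p : ℕ} (z : Subgroup.center H) :
    (⟨Pi.mulSingle 0 (z : H), 0, 0, 0⟩ : Tw H p) ∈ Tw.Zhat H p := by
  refine ⟨rfl, rfl, fun i => ?_⟩
  show (Pi.mulSingle (0 : ZMod p) (z : H) : ZMod p → H) i ∈ Subgroup.center H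
  by_cases hi : i = 0
  · rw [hi, Pi.mulSingle_eq_same]
    exact z.2
  · rw [Pi.mulSingle_eq_of_ne hi]
    exact Subgroup.one_mem _

/-- T3 -/
theorem Tw.phi_surjective {H : Type u} [Group H] {p : ℕ} [NeZero p]
    (ι : Multiplicative (ZMod p) →* Subgroup.center H) : Function.Surjective (Tw.phi ι) := by
  intro z
  refine ⟨⟨⟨Pi.mulSingle 0 (z : H), 0, 0, 0⟩, gagT3_mem z⟩, ?_⟩
  rw [Tw.phi_apply]
  have h1 : ∏ i : ZMod p, (⟨(⟨⟨Pi.mulSingle 0 (z : H), 0, 0, 0⟩, gagT3_mem z⟩ : Tw.Zhat H p).1.f i,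
      (⟨⟨Pi.mulSingle 0 (z : H), 0, 0, 0⟩, gagT3_mem z⟩ : Tw.Zhat H p).2.2.2 i⟩ :
        Subgroup.center H) = z := by
    rw [Finset.prod_eq_single (0 : ZMod p)]
    · apply Subtype.ext
      show (Pi.mulSingle (0 : ZMod p) (z : H) : ZMod p → H) 0 = (z : H)
      rw [Pi.mulSingle_eq_same]
    · intro i _ hi
      apply Subtype.ext
      show (Pi.mulSingle (0 : ZMod p) (z : H) : ZMod p → H) i = 1
      rw [Pi.mulSingle_eq_of_ne hi]
    · intro h
      exact absurd (Finset.mem_univ _) h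
  rw [h1]
  show z * ι (Multiplicative.ofAdd (0 : ZMod p)) = z
  rw [ofAdd_zero, map_one, mul_one]

end Cfsg.Agent.Lib.Helper16.Gag
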