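import Mathlib
import Cfsg.Prelude.Def_Solvable
import Cfsg.Agent.Lib.Helper22.Fitting
import Cfsg.Agent.Lib.Helper16.GagDefs

/-!
# S4840 hive, leaf GAG-GR1 (helper95)

In the Gagola situation `O_p(G) = C_G(N)`.
-/

set_option autoImplicit false
set_option linter.style.haveILetI false

namespace Cfsg.Agent.Lib.Helper16.Gag

universe u

variable {G : Type u} [Group G] [Finite G]

/-- GAG-GR1. -/
theorem pCore_eq_centralizer (p : ℕ) [Fact p.Prime] (N : Subgroup G) [N.Normal] (hN1 : N ≠ ⊥)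
    (hmin : ∀ K : Subgroup G, K.Normal → K ≠ ⊥ → N ≤ K) (hNp : IsPGroup p N)
    (hcent : ∀ x ∈ N, x ≠ 1 → ∃ P : Sylow p G, Subgroup.centralizer ({x} : Set G) = P) :
    Cfsg.pCore p G = Subgroup.centralizer (N : Set G) := by
  apply le_antisymm
  · -- `U = O_p(G)` centralizes `N` because `N ≤ Z(U)`
    haveI hUn : (Cfsg.pCore p G).Normal := Cfsg.Agent.Lib.Helper22.pCore_normal' p G
    have hUp : IsPGroup p (Cfsg.pCore p G) := Cfsg.Agent.Lib.Helper22.pCore_isPGroup' p G
    have hNU : N ≤ Cfsg.pCore p G := Cfsg.Agent.Lib.Helper22.le_pCore' inferInstance hNp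
    haveI hUnt : Nontrivial (Cfsg.pCore p G) := by
      obtain ⟨x, hx⟩ := (Subgroup.ne_bot_iff_exists_ne_one (H := N)).mp hN1
      exact ⟨⟨⟨(x : G), hNU x.2⟩, 1, fun h => hx (Subtype.ext (congrArg (fun y : ↥(Cfsg.pCore p G) => (y : G)) h))⟩⟩
    haveI hZnt : Nontrivial (Subgroup.center (Cfsg.pCore p G)) := hUp.center_nontrivial
    have hZn : ((Subgroup.center (Cfsg.pCore p G)).map (Cfsg.pCore p G).subtype).Normal :=
      inferInstance
    have hZ1 : (Subgroup.center (Cfsg.pCore p G)).map (Cfsg.pCore p G).subtype ≠ ⊥ := by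
      intro h
      rw [Subgroup.map_eq_bot_iff_of_injective _ (Subgroup.subtype_injective _)] at h
      exact (Subgroup.nontrivial_iff_ne_bot _).mp hZnt h
    have hNZ := hmin _ hZn hZ1
    intro g hg
    rw [Subgroup.mem_centralizer_iff]
    intro n hn
    obtain ⟨z, hz, rfl⟩ := hNZ hn
    have := Subgroup.mem_center_iff.mp hz ⟨g, hg⟩
    exact (congrArg Subtype.val this).symm
  · -- `C_G(N)` is a normal `p`-subgroup
    apply Cfsg.Agent.Lib.Helper22.le_pCore' inferInstance
    obtain ⟨x, hx⟩ := (Subgroup.ne_bot_iff_exists_ne_one (H := N)).mp hN1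
    have hx1 : (x : G) ≠ 1 := fun h => hx (Subtype.ext h)
    obtain ⟨P, hP⟩ := hcent (x : G) x.2 hx1
    have hle : Subgroup.centralizer (N : Set G) ≤ (P : Subgroup G) := by
      rw [← hP]
      exact Subgroup.centralizer_le (by simp)
    exact P.isPGroup'.to_le hle

end Cfsg.Agent.Lib.Helper16.Gag
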