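import Mathlib
import Cfsg.Prelude.Def_Solvable
import Cfsg.Prelude.Def_CaseTheorems
import Cfsg.Agent.Lib.Helper16.GagDefs

/-!
# S4840 hive, leaf GAG-GR3 (helper95)

In the Gagola situation `G ⧸ O_p(G)` acts on `N` by conjugation and satisfies `TLHyp`.
-/

set_option autoImplicit false
set_option linter.style.haveILetI false

namespace Cfsg.Agent.Lib.Helper16.Gag

universe u

variable {G : Type u} [Group G] [Finite G]

/-- the conjugation action of `G ⧸ C_G(N)` on `N` -/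
noncomputable def gaggr3_phi (p : ℕ) (N : Subgroup G) [N.Normal]
    (hcore : Cfsg.pCore p G = Subgroup.centralizer (N : Set G)) :
    (G ⧸ Cfsg.pCore p G) →* MulAut ↥N :=
  QuotientGroup.lift (Cfsg.pCore p G) (MulAut.conjNormal (H := N)) (by
    intro g hg
    rw [hcore, Subgroup.mem_centralizer_iff] at hg
    rw [MonoidHom.mem_ker]
    ext n
    rw [MulAut.conjNormal_apply, MulAut.one_apply]
    rw [← hg (n : G) n.2, mul_inv_cancel_right])

theorem gaggr3_phi_mk (p : ℕ) (N : Subgroup G) [N.Normal]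
    (hcore : Cfsg.pCore p G = Subgroup.centralizer (N : Set G)) (g : G) (n : N) :
    ((gaggr3_phi p N hcore (QuotientGroup.mk g) n : N) : G) = g * n * g⁻¹ := by
  unfold gaggr3_phi
  rw [QuotientGroup.lift_mk, MulAut.conjNormal_apply]

/-- GAG-GR3. -/
theorem tlHyp_of_gagola (p : ℕ) [Fact p.Prime] (N : Subgroup G) [N.Normal] (hN1 : N ≠ ⊥)
    (hcomm : ∀ a b : N, a * b = b * a) (hexp : ∀ a : N, a ^ p = 1)
    (hconj : ∀ x ∈ N, ∀ y ∈ N, x ≠ 1 → y ≠ 1 → ∃ g : G, g * x * g⁻¹ = y)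
    (hcent : ∀ x ∈ N, x ≠ 1 → ∃ P : Sylow p G, Subgroup.centralizer ({x} : Set G) = P)
    (hcore : Cfsg.pCore p G = Subgroup.centralizer (N : Set G)) :
    ∃ φ : (G ⧸ Cfsg.pCore p G) →* MulAut ↥N, TLHyp p φ := by
  refine ⟨gaggr3_phi p N hcore, ?_⟩
  refine ⟨hcomm, hexp, (Subgroup.nontrivial_iff_ne_bot N).mpr hN1, ?_, ?_, ?_⟩
  · -- injective
    rw [injective_iff_map_eq_one]
    intro q hq
    obtain ⟨g, rfl⟩ := QuotientGroup.mk_surjective q
    rw [QuotientGroup.eq_one_iff, hcore, Subgroup.mem_centralizer_iff]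
    intro n hn
    have h1 := gaggr3_phi_mk p N hcore g ⟨n, hn⟩
    rw [hq, MulAut.one_apply] at h1
    have h2 : n = g * n * g⁻¹ := h1
    calc n * g = g * n * g⁻¹ * g := by rw [← h2]
      _ = g * n := by group
  · -- transitive
    intro a b ha hb
    have ha1 : (a : G) ≠ 1 := fun h => ha (Subtype.ext h)
    have hb1 : (b : G) ≠ 1 := fun h => hb (Subtype.ext h)
    obtain ⟨g, hg⟩ := hconj (a : G) a.2 (b : G) b.2 ha1 hb1
    refine ⟨QuotientGroup.mk g, ?_⟩
    apply Subtype.ext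
    rw [gaggr3_phi_mk, hg]
  · -- stabilizers are `p`-groups
    intro a ha q hq
    obtain ⟨g, rfl⟩ := QuotientGroup.mk_surjective q
    have ha1 : (a : G) ≠ 1 := fun h => ha (Subtype.ext h)
    obtain ⟨P, hP⟩ := hcent (a : G) a.2 ha1
    have h1 := gaggr3_phi_mk p N hcore g a
    rw [hq] at h1
    have hgP : g ∈ (P : Subgroup G) := by
      rw [← hP, Subgroup.mem_centralizer_iff]
      intro x hx
      rw [Set.mem_singleton_iff] at hx
      subst hx
      calc (a : G) * g = g * a * g⁻¹ * g := by rw [← h1]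
        _ = g * a := by group
    obtain ⟨k, hk⟩ := P.isPGroup' ⟨g, hgP⟩
    refine ⟨k, ?_⟩
    have hk' : g ^ p ^ k = 1 := congrArg Subtype.val hk
    rw [← QuotientGroup.mk_pow, hk', QuotientGroup.mk_one]

end Cfsg.Agent.Lib.Helper16.Gag
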