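import Mathlib
import Cfsg.Agent.Lib.Helper16.PSLDefs
import Cfsg.Prelude.Def_CaseTheorems
import Cfsg.Agent.Lib.Helper63.HHDual
import Cfsg.Agent.Lib.Helper47.FrakL1

/-!
# S4472 hive (PSL), leaf G1c : `pElement_centralizer_mem_pCore`
-/

set_option autoImplicit false

namespace Cfsg.Agent.Lib.Helper16.PSL

open Cfsg

universe u

/-- LEAF G1c.  Hall–Higman (dual 1.2.3, `Helper63.HH.centralizer_pPrimeCore_le` in
`G ⧸ O_p(G)`): a `p`-element centralizing a complement `Q` of `O_p(G)` in `O_{p,p'}(G)` lies in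
`O_p(G)`. -/
theorem pElement_centralizer_mem_pCore {G : Type u} [Group G] [Finite G] (p : ℕ) [Fact p.Prime]
    (hsolv : IsPSolvable p G) (Q : Subgroup G)
    (hQ : pCore p G ⊔ Q =
      (pPrimeCore p (G ⧸ pCore p G)).comap (QuotientGroup.mk' (pCore p G)))
    (y : G) (hy : ∃ k : ℕ, y ^ p ^ k = 1) (hyQ : y ∈ Subgroup.centralizer (Q : Set G)) :
    y ∈ pCore p G := by
  classical
  have hπs : Function.Surjective (QuotientGroup.mk' (pCore p G)) :=
    QuotientGroup.mk'_surjective (pCore p G)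
  -- the quotient is `p`-solvable with trivial `O_p`
  have hsolvq : IsPSolvable p (G ⧸ pCore p G) :=
    Cfsg.Agent.Lib.Helper76.isPSolvable_quotient (pCore p G) hsolv
  have hOq : pCore p (G ⧸ pCore p G) = ⊥ :=
    Cfsg.Agent.Lib.Helper47.pCore_quotient_pCore_eq_bot p
  have hdual := Cfsg.Agent.Lib.Helper63.HH.centralizer_pPrimeCore_le hsolvq hOq
  -- the image of `y` centralizes `O_{p'}(G/N)`
  have hycen : (QuotientGroup.mk' (pCore p G)) y ∈
      Subgroup.centralizer (pPrimeCore p (G ⧸ pCore p G) : Set (G ⧸ pCore p G)) := by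
    rw [Subgroup.mem_centralizer_iff]
    intro x hx
    obtain ⟨g, rfl⟩ := hπs x
    have hg : g ∈ pCore p G ⊔ Q := by
      rw [hQ]; exact hx
    have hg' : g ∈ ((pCore p G ⊔ Q : Subgroup G) : Set G) := hg
    rw [Subgroup.normal_mul] at hg'
    obtain ⟨n, hn, q, hq, rfl⟩ := Set.mem_mul.1 hg'
    have hn1 : (QuotientGroup.mk' (pCore p G)) n = 1 := by
      rw [QuotientGroup.mk'_apply]
      exact (QuotientGroup.eq_one_iff n).2 hn
    have hcomm : q * y = y * q := (Subgroup.mem_centralizer_iff.1 hyQ) q hq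
    rw [map_mul, hn1, one_mul, ← map_mul, ← map_mul, hcomm]
  have hymem : (QuotientGroup.mk' (pCore p G)) y ∈ pPrimeCore p (G ⧸ pCore p G) := hdual hycen
  -- a `p`-element of a `p'`-group is trivial
  obtain ⟨k, hk⟩ := hy
  have hcop : (Nat.card (pPrimeCore p (G ⧸ pCore p G))).Coprime p :=
    Cfsg.Agent.Lib.Helper55.pPrimeCore_card_coprime p
  have h1 : orderOf ((QuotientGroup.mk' (pCore p G)) y) ∣ p ^ k := by
    apply orderOf_dvd_of_pow_eq_one
    rw [← map_pow, hk, map_one]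
  have h2 : orderOf ((QuotientGroup.mk' (pCore p G)) y) ∣
      Nat.card (pPrimeCore p (G ⧸ pCore p G)) := by
    have := orderOf_dvd_natCard (⟨_, hymem⟩ : pPrimeCore p (G ⧸ pCore p G))
    rwa [Subgroup.orderOf_mk] at this
  have h3 : orderOf ((QuotientGroup.mk' (pCore p G)) y) = 1 :=
    Nat.eq_one_of_dvd_coprimes (Nat.Coprime.pow_right k hcop) h2 h1
  have h4 : (QuotientGroup.mk' (pCore p G)) y = 1 := orderOf_eq_one_iff.1 h3
  rw [QuotientGroup.mk'_apply] at h4
  exact (QuotientGroup.eq_one_iff y).1 h4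

end Cfsg.Agent.Lib.Helper16.PSL
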