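import Mathlib
import Cfsg.Agent.Lib.Helper41.StnDefs
import Cfsg.Agent.Lib.Helper13.Stn_WDISJ
import Cfsg.Agent.Lib.Helper25.Stn_WONE
import Cfsg.Agent.Lib.Helper25.Stn_WPAIR

/-! # Stn hive (S2401, helper41): leaf STN-W-ALL (`ww_conj_xx`) -/

set_option autoImplicit false

namespace Cfsg.Agent.Lib.Helper41.Stn

open Matrix

variable {K : Type*} [Field K] {n : ℕ}

theorem wall_mu_left (i j : Fin n) (t : K) : mu i j t i = -t⁻¹ := by
  unfold mu
  rw [if_pos rfl]

theorem wall_mu_right {i j : Fin n} (hij : i ≠ j) (t : K) : mu i j t j = t := by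
  unfold mu
  rw [if_neg hij.symm, if_pos rfl]

theorem wall_mu_other {i j k : Fin n} (hki : k ≠ i) (hkj : k ≠ j) (t : K) : mu i j t k = 1 := by
  unfold mu
  rw [if_neg hki, if_neg hkj]

/-- STN-W-ALL: uniform statement. -/
theorem ww_conj_xx (hn : 3 ≤ n) {i j : Fin n} (hij : i ≠ j) {t : K} (ht : t ≠ 0) {k l : Fin n}
    (hkl : k ≠ l) (u : K) :
    ww i j t * xx k l u * (ww i j t)⁻¹ =
      xx (Equiv.swap i j k) (Equiv.swap i j l) (mu i j t k / mu i j t l * u) := by
  by_cases hki : k = i
  · subst hki
    by_cases hlj : l = j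
    · subst hlj
      rw [Equiv.swap_apply_left, Equiv.swap_apply_right, wall_mu_left, wall_mu_right hij,
        (ww_conj_xx_pair hn hij ht u).1]
      congr 1
      field_simp
    · have hli : l ≠ k := hkl.symm
      rw [Equiv.swap_apply_left, Equiv.swap_apply_of_ne_of_ne hli hlj, wall_mu_left,
        wall_mu_other hli hlj, (ww_conj_xx_one hij hli hlj ht u).1, div_one]
  · by_cases hkj : k = j
    · subst hkj
      by_cases hli : l = i
      · subst hli
        rw [Equiv.swap_apply_left, Equiv.swap_apply_right, wall_mu_left, wall_mu_right hij,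
          (ww_conj_xx_pair hn hij ht u).2]
        congr 1
        field_simp
      · have hlj : l ≠ k := hkl.symm
        rw [Equiv.swap_apply_right, Equiv.swap_apply_of_ne_of_ne hli hlj, wall_mu_right hij,
          wall_mu_other hli hlj, (ww_conj_xx_one hij hli hlj ht u).2.1, div_one]
    · by_cases hli : l = i
      · subst hli
        rw [Equiv.swap_apply_of_ne_of_ne hki hkj, Equiv.swap_apply_left, wall_mu_left,
          wall_mu_other hki hkj, (ww_conj_xx_one hij hki hkj ht u).2.2.1]
        congr 1
        field_simp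
      · by_cases hlj : l = j
        · subst hlj
          rw [Equiv.swap_apply_of_ne_of_ne hki hkj, Equiv.swap_apply_right, wall_mu_right hij,
            wall_mu_other hki hkj, (ww_conj_xx_one hij hki hkj ht u).2.2.2]
          congr 1
          field_simp
        · rw [Equiv.swap_apply_of_ne_of_ne hki hkj, Equiv.swap_apply_of_ne_of_ne hli hlj,
            wall_mu_other hki hkj, wall_mu_other hli hlj, ww_conj_xx_disj hki hkj hli hlj, div_one,
            one_mul]

end Cfsg.Agent.Lib.Helper41.Stn
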