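import Cfsg.Agent.Lib.Helper21.Lq.Defs
import Cfsg.Agent.Lib.Helper13.SpParabolic

set_option autoImplicit false

/-! # `Lq` hive (S2333), leaf C-ZG: the transvection subgroups `Zgrp e` -/

namespace Cfsg.Agent.Lib.Helper21.Lq

open Module Cfsg.Agent.Lib.Helper6.Ls Cfsg.Agent.Lib.Helper13

section concrete

variable {F : Type*} [Field F] [Fintype F]

theorem lqczg_ext {m : ℕ} {g h : Spg F m}
    (H : ∀ x : Vec F m, Matrix.mulVec (g : Matrix (Fin m ⊕ Fin m) (Fin m ⊕ Fin m) F) x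
      = Matrix.mulVec (h : Matrix (Fin m ⊕ Fin m) (Fin m ⊕ Fin m) F) x) : g = h := by
  apply Subtype.ext
  rw [Matrix.ext_iff_mulVec]
  exact H

theorem lqczg_mulVec {m : ℕ} (e : Vec F m) (c : F) (x : Vec F m) :
    Matrix.mulVec ((sympTransvElt m e c : Spg F m) : Matrix (Fin m ⊕ Fin m) (Fin m ⊕ Fin m) F) x
      = x + (c * Cfsg.sympForm m F x e) • e := by
  rw [coe_sympTransvElt, sympTransvection_mulVec]

theorem lqczg_mul_mulVec {m : ℕ} (g h : Spg F m) (x : Vec F m) :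
    Matrix.mulVec ((g * h : Spg F m) : Matrix (Fin m ⊕ Fin m) (Fin m ⊕ Fin m) F) x
      = Matrix.mulVec (g : Matrix (Fin m ⊕ Fin m) (Fin m ⊕ Fin m) F)
        (Matrix.mulVec (h : Matrix (Fin m ⊕ Fin m) (Fin m ⊕ Fin m) F) x) := by
  rw [Matrix.mulVec_mulVec]
  rfl

theorem lqczg_add {m : ℕ} (e : Vec F m) (c c' : F) :
    sympTransvElt m e c * sympTransvElt m e c' = sympTransvElt m e (c + c') := by
  apply lqczg_ext
  intro x
  rw [lqczg_mul_mulVec, lqczg_mulVec, lqczg_mulVec, lqczg_mulVec, sympForm_add_left,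
    sympForm_smul_left, sympForm_self, mul_zero, add_zero, add_assoc, ← add_smul]
  congr 2
  ring

theorem lqczg_zero {m : ℕ} (e : Vec F m) : sympTransvElt m e (0 : F) = 1 := by
  apply lqczg_ext
  intro x
  rw [lqczg_mulVec, zero_mul, zero_smul, add_zero]
  show x = Matrix.mulVec (1 : Matrix (Fin m ⊕ Fin m) (Fin m ⊕ Fin m) F) x
  rw [Matrix.one_mulVec]

theorem lqczg_inv {m : ℕ} (e : Vec F m) (c : F) :
    (sympTransvElt m e c)⁻¹ = sympTransvElt m e (-c) := by
  apply inv_eq_of_mul_eq_one_right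
  rw [lqczg_add, add_neg_cancel, lqczg_zero]

theorem lqczg_zero_vec {m : ℕ} (c : F) : sympTransvElt m (0 : Vec F m) c = 1 := by
  apply lqczg_ext
  intro x
  rw [lqczg_mulVec, smul_zero, add_zero]
  show x = Matrix.mulVec (1 : Matrix (Fin m ⊕ Fin m) (Fin m ⊕ Fin m) F) x
  rw [Matrix.one_mulVec]

theorem lqczg_comm {m : ℕ} (e u : Vec F m) (heu : Cfsg.sympForm m F e u = 0) (c c' : F) :
    sympTransvElt m e c * sympTransvElt m u c' = sympTransvElt m u c' * sympTransvElt m e c := by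
  have hue : Cfsg.sympForm m F u e = 0 := by rw [sympForm_swap, heu, neg_zero]
  apply lqczg_ext
  intro x
  rw [lqczg_mul_mulVec, lqczg_mul_mulVec, lqczg_mulVec, lqczg_mulVec, lqczg_mulVec, lqczg_mulVec,
    sympForm_add_left, sympForm_add_left, sympForm_smul_left, sympForm_smul_left, hue, heu,
    mul_zero, mul_zero, add_zero, add_zero]
  abel

theorem lqczg_smul {m : ℕ} (e : Vec F m) (l c : F) :
    sympTransvElt m (l • e) c = sympTransvElt m e (c * l ^ 2) := by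
  apply lqczg_ext
  intro x
  rw [lqczg_mulVec, lqczg_mulVec, sympForm_smul_right, smul_smul]
  congr 2
  ring

/-- C-ZG (1) -/
theorem mem_Zgrp_iff {m : ℕ} (e : Vec F m) (g : Spg F m) :
    g ∈ Zgrp e ↔ ∃ c : F, g = sympTransvElt m e c := by
  constructor
  · intro hg
    unfold Zgrp at hg
    induction hg using Subgroup.closure_induction with
    | mem x hx => exact hx
    | one => exact ⟨0, (lqczg_zero e).symm⟩
    | mul x y _ _ hx hy =>
      obtain ⟨c, rfl⟩ := hx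
      obtain ⟨c', rfl⟩ := hy
      exact ⟨c + c', lqczg_add e c c'⟩
    | inv x _ hx =>
      obtain ⟨c, rfl⟩ := hx
      exact ⟨-c, lqczg_inv e c⟩
  · intro h
    exact Subgroup.subset_closure h

/-- C-ZG (2) -/
theorem Zgrp_zero {m : ℕ} : Zgrp (0 : Vec F m) = ⊥ := by
  unfold Zgrp
  rw [Subgroup.closure_eq_bot_iff]
  rintro g ⟨c, rfl⟩
  exact lqczg_zero_vec c

/-- C-ZG (3): root subgroups with orthogonal centres commute. -/
theorem Zgrp_commute {m : ℕ} (e u : Vec F m) (heu : Cfsg.sympForm m F e u = 0) :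
    ∀ a ∈ Zgrp e, ∀ b ∈ Zgrp u, a * b = b * a := by
  intro a ha b hb
  obtain ⟨c, rfl⟩ := (mem_Zgrp_iff e a).mp ha
  obtain ⟨c', rfl⟩ := (mem_Zgrp_iff u b).mp hb
  exact lqczg_comm e u heu c c'

/-- C-ZG (4) -/
theorem Zgrp_smul {m : ℕ} (e : Vec F m) (l : F) (hl : l ≠ 0) : Zgrp (l • e) = Zgrp e := by
  have hl2 : l ^ 2 ≠ 0 := pow_ne_zero _ hl
  apply le_antisymm
  · unfold Zgrp
    rw [Subgroup.closure_le]
    rintro g ⟨c, rfl⟩
    apply Subgroup.subset_closure
    exact ⟨c * l ^ 2, lqczg_smul e l c⟩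
  · unfold Zgrp
    rw [Subgroup.closure_le]
    rintro g ⟨c, rfl⟩
    apply Subgroup.subset_closure
    refine ⟨c / l ^ 2, ?_⟩
    rw [lqczg_smul, div_mul_cancel₀ _ hl2]

end concrete

end Cfsg.Agent.Lib.Helper21.Lq
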