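import Cfsg.Agent.Lib.Helper21.Lq.Defs
import Cfsg.Agent.Lib.Helper13.SpParabolic
import Cfsg.Agent.Lib.Helper95.LqCZG

set_option autoImplicit false

/-! # `Lq` hive (S2333), leaf C-FIXA: `planeGrp e1 e2 e3` is abelian -/

namespace Cfsg.Agent.Lib.Helper21.Lq

open Module Cfsg.Agent.Lib.Helper6.Ls Cfsg.Agent.Lib.Helper13

section concrete

variable {F : Type*} [Field F] [Fintype F]

/-- a subgroup generated by pairwise commuting elements is commutative -/
theorem lqcfixa_closure_comm {G : Type*} [Group G] (S : Set G)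
    (hS : ∀ a ∈ S, ∀ b ∈ S, a * b = b * a) :
    ∀ a ∈ Subgroup.closure S, ∀ b ∈ Subgroup.closure S, a * b = b * a := by
  have h1 : ∀ s ∈ S, ∀ b ∈ Subgroup.closure S, Commute s b := by
    intro s hs b hb
    induction hb using Subgroup.closure_induction with
    | mem x hx => exact hS s hs x hx
    | one => exact Commute.one_right s
    | mul x y _ _ hx hy => exact hx.mul_right hy
    | inv x _ hx => exact hx.inv_right
  intro a ha b hb
  have h2 : Commute a b := by
    induction ha using Subgroup.closure_induction with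
    | mem x hx => exact h1 x hx b hb
    | one => exact Commute.one_left b
    | mul x y _ _ hx hy => exact hx.mul_left hy
    | inv x _ hx => exact hx.inv_left
  exact h2

theorem lqcfixa_form_plane {m : ℕ} (e1 e2 e3 : Vec F m) (h12 : Cfsg.sympForm m F e1 e2 = 0)
    (h13 : Cfsg.sympForm m F e1 e3 = 0) (h23 : Cfsg.sympForm m F e2 e3 = 0) (v v' : F × F × F) :
    Cfsg.sympForm m F (v.1 • e1 + v.2.1 • e2 + v.2.2 • e3) (v'.1 • e1 + v'.2.1 • e2 + v'.2.2 • e3)
      = 0 := by
  have h21 : Cfsg.sympForm m F e2 e1 = 0 := by rw [sympForm_swap, h12, neg_zero]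
  have h31 : Cfsg.sympForm m F e3 e1 = 0 := by rw [sympForm_swap, h13, neg_zero]
  have h32 : Cfsg.sympForm m F e3 e2 = 0 := by rw [sympForm_swap, h23, neg_zero]
  simp only [sympForm_add_left, sympForm_add_right, sympForm_smul_left, sympForm_smul_right,
    sympForm_self, h12, h13, h23, h21, h31, h32]
  ring

/-- C-FIXA -/
theorem planeGrp_comm {m : ℕ} (e1 e2 e3 : Vec F m) (h12 : Cfsg.sympForm m F e1 e2 = 0)
    (h13 : Cfsg.sympForm m F e1 e3 = 0) (h23 : Cfsg.sympForm m F e2 e3 = 0) :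
    ∀ a ∈ planeGrp e1 e2 e3, ∀ b ∈ planeGrp e1 e2 e3, a * b = b * a := by
  have hcl : (planeGrp e1 e2 e3 : Subgroup (Spg F m)) =
      Subgroup.closure (⋃ v : F × F × F,
        ((Zgrp (v.1 • e1 + v.2.1 • e2 + v.2.2 • e3) : Subgroup (Spg F m)) : Set (Spg F m))) := by
    unfold planeGrp
    rw [Subgroup.iSup_eq_closure]
  rw [hcl]
  apply lqcfixa_closure_comm
  intro a ha b hb
  obtain ⟨v, hav⟩ := Set.mem_iUnion.mp ha
  obtain ⟨v', hbv⟩ := Set.mem_iUnion.mp hb
  exact Zgrp_commute _ _ (lqcfixa_form_plane e1 e2 e3 h12 h13 h23 v v') a hav b hbv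

end concrete

end Cfsg.Agent.Lib.Helper21.Lq
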