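import Mathlib
import Cfsg.Agent.S1861
import Cfsg.Agent.Lib.Helper22.KbDefs2

/-!
# Kb hive (S1299, owner helper22): leaves KB-D1a-d (elementary facts on `signalizerDelta`). helper95.
-/

set_option autoImplicit false

namespace Cfsg.Agent.Lib.Helper22.Kb

open Subgroup Cfsg
open scoped commutatorElement

variable {G : Type*} [Group G]

variable {p k : ℕ} {A : Subgroup G}

/-- LEAF KB-D1a. -/
theorem kb_delta_anti {E E' : Subgroup G} (h : E ≤ E') :
    signalizerDelta p E' ≤ signalizerDelta p E := by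
  unfold Cfsg.signalizerDelta
  exact le_iInf fun a => iInf_le_of_le ⟨a.1, h a.2.1, a.2.2⟩ le_rfl

/-- LEAF KB-D1b. -/
theorem kb_delta_le_centralizer (E : Subgroup G) :
    signalizerDelta p E ≤ centralizer (E : Set G) := by
  intro x hx
  rw [mem_centralizer_iff]
  intro e he
  by_cases he1 : e = 1
  · subst he1; simp
  · have h1 : x ∈ Cfsg.centralizerPPrimeCore p e := by
      unfold Cfsg.signalizerDelta at hx
      exact (mem_iInf.mp hx) ⟨e, he, he1⟩
    have h2 := Cfsg.Agent.S1861.cppc_le (p := p) e h1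
    exact mem_centralizer_iff.mp h2 e rfl

/-- conjugation step for KB-D1c -/
theorem kbd1_conj_mem (hAc : ∀ x ∈ A, ∀ y ∈ A, x * y = y * x) {E : Subgroup G} (hE : E ≤ A)
    {a : G} (ha : a ∈ A) {x : G} (hx : x ∈ signalizerDelta p E) :
    a * x * a⁻¹ ∈ signalizerDelta p E := by
  unfold Cfsg.signalizerDelta at hx ⊢
  rw [mem_iInf] at hx ⊢
  intro e
  have hn := Cfsg.Agent.S1861.cppc_normalizer (p := p) e.1 a (hAc a ha e.1 (hE e.2.1))
  exact (mem_normalizer_iff.mp hn x).mp (hx e)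

/-- LEAF KB-D1c. [`cppc_normalizer` of `Cfsg.Agent.S1861`] -/
theorem kb_delta_normalizer (hAc : ∀ x ∈ A, ∀ y ∈ A, x * y = y * x) {E : Subgroup G} (hE : E ≤ A) :
    A ≤ normalizer (signalizerDelta p E : Set G) := by
  intro a ha
  rw [mem_normalizer_iff]
  intro x
  refine ⟨fun hx => kbd1_conj_mem hAc hE ha hx, fun hx => ?_⟩
  have h := kbd1_conj_mem (p := p) hAc hE (A.inv_mem ha) hx
  have e : a⁻¹ * (a * x * a⁻¹) * a⁻¹⁻¹ = x := by group
  rwa [e] at h

/-- LEAF KB-D1d. [`cppc_card` of `Cfsg.Agent.S1861`] -/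
theorem kb_delta_card [Finite G] [Fact p.Prime] {E : Subgroup G} (hE : E ≠ ⊥) :
    ¬ p ∣ Nat.card (signalizerDelta p E) := by
  obtain ⟨⟨e, he⟩, he1'⟩ := (Subgroup.ne_bot_iff_exists_ne_one.mp hE)
  have he1 : e ≠ 1 := fun h => he1' (Subtype.ext h)
  intro hdvd
  have hle : signalizerDelta p E ≤ Cfsg.centralizerPPrimeCore p e := by
    unfold Cfsg.signalizerDelta
    exact iInf_le_of_le ⟨e, he, he1⟩ le_rfl
  exact Cfsg.Agent.S1861.cppc_card e (hdvd.trans (Subgroup.card_dvd_of_le hle))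

end Cfsg.Agent.Lib.Helper22.Kb
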