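import Mathlib
import Cfsg.Agent.S1861
import Cfsg.Agent.Lib.Helper22.KbDefs2

/-!
# Kb hive (S1299, owner helper22): leaf KB-TC (`kbTheta a ≤ O_{p'}(C_G(a))`, by `k`-balance). helper95.
-/

set_option autoImplicit false

namespace Cfsg.Agent.Lib.Helper22.Kb

open Subgroup Cfsg
open scoped commutatorElement

variable {G : Type*} [Group G]

variable {p k : ℕ} {A : Subgroup G}

/-- a subgroup of an elementary abelian subgroup is elementary abelian -/
theorem kbtc_elem_of_le (hA : Cfsg.IsElementaryAbelian p A) {D : Subgroup G} (hD : D ≤ A) :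
    Cfsg.IsElementaryAbelian p D := by
  refine ⟨⟨⟨fun x y => Subtype.ext ?_⟩⟩, fun d hd => hA.2 d (hD hd)⟩
  have := hA.1.is_comm.comm ⟨x.1, hD x.2⟩ ⟨y.1, hD y.2⟩
  show (x.1 * y.1 : G) = y.1 * x.1
  exact congrArg Subtype.val this

/-- a non-identity element of an elementary abelian `p`-subgroup has order `p` -/
theorem kbtc_orderOf [Fact p.Prime] (hA : Cfsg.IsElementaryAbelian p A) {a : G} (haA : a ∈ A)
    (ha1 : a ≠ 1) : orderOf a = p :=
  orderOf_eq_prime (hA.2 a haA) ha1

set_option linter.unusedVariables false in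
/-- LEAF KB-TC. [`k`-balance on each generator] -/
theorem kb_theta_le_core [Finite G] [Fact p.Prime] (hk : 1 ≤ k) (hbal : Cfsg.IsKBalanced p k G)
    (hA : Cfsg.IsElementaryAbelian p A) {a : G} (haA : a ∈ A) (ha1 : a ≠ 1) :
    kbTheta p k A a ≤ Cfsg.centralizerPPrimeCore p a := by
  unfold kbTheta
  refine iSup_le fun D => ?_
  refine hbal D.1 (kbtc_elem_of_le hA D.2.1) D.2.2 a (kbtc_orderOf hA haA ha1) ?_
  intro d hd
  have := hA.1.is_comm.comm ⟨d, D.2.1 hd⟩ ⟨a, haA⟩
  exact congrArg Subtype.val this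

end Cfsg.Agent.Lib.Helper22.Kb
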