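import Mathlib
import Cfsg.Agent.S1861
import Cfsg.Agent.Lib.Helper22.KbDefs2

/-!
# Kb hive (S1299, owner helper22): leaf KB-TN (`A` normalizes `kbTheta a`). helper95.
-/

set_option autoImplicit false

namespace Cfsg.Agent.Lib.Helper22.Kb

open Subgroup Cfsg
open scoped commutatorElement

variable {G : Type*} [Group G]

variable {p k : ℕ} {A : Subgroup G}

/-- `A` (abelian) maps each `Δ(D)`, `D ≤ A`, into itself by conjugation -/
theorem kbtn_delta_conj (hA : Cfsg.IsElementaryAbelian p A) {D : Subgroup G} (hD : D ≤ A)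
    {x : G} (hx : x ∈ A) {y : G} (hy : y ∈ signalizerDelta p D) :
    x * y * x⁻¹ ∈ signalizerDelta p D := by
  unfold Cfsg.signalizerDelta at hy ⊢
  rw [mem_iInf] at hy ⊢
  intro e
  have hc : x * e.1 = e.1 * x := by
    have := hA.1.is_comm.comm ⟨x, hx⟩ ⟨e.1, hD e.2.1⟩
    exact congrArg Subtype.val this
  have hn := Cfsg.Agent.S1861.cppc_normalizer (p := p) e.1 x hc
  exact (mem_normalizer_iff.mp hn y).mp (hy e)

/-- one direction of the normalizer condition -/
theorem kbtn_conj_mem (hA : Cfsg.IsElementaryAbelian p A) {a : G} (haA : a ∈ A) {x : G}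
    (hx : x ∈ A) : kbTheta p k A a ≤ (kbTheta p k A a).comap (MulAut.conj x).toMonoidHom := by
  unfold kbTheta
  refine iSup_le fun D => ?_
  intro y hy
  rw [mem_comap]
  have hmem : x * y * x⁻¹ ∈ signalizerDelta p (D : Subgroup G) ⊓ centralizer {a} := by
    refine mem_inf.mpr ⟨kbtn_delta_conj hA D.2.1 hx hy.1, ?_⟩
    have hya : y ∈ centralizer ({a} : Set G) := hy.2
    have h1 : a * y = y * a := mem_centralizer_iff.mp hya a rfl
    have h2 : x * a = a * x := by
      have := hA.1.is_comm.comm ⟨x, hx⟩ ⟨a, haA⟩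
      exact congrArg Subtype.val this
    rw [mem_centralizer_iff]
    intro b hb
    rw [Set.mem_singleton_iff] at hb
    subst hb
    have h3 : x⁻¹ * b = b * x⁻¹ := by
      have : b = x⁻¹ * (x * b) := by group
      rw [h2] at this
      calc x⁻¹ * b = x⁻¹ * b * x * x⁻¹ := by group
        _ = b * x⁻¹ := by rw [mul_assoc x⁻¹ b x, ← this]
    calc b * (x * y * x⁻¹) = (b * x) * y * x⁻¹ := by group
      _ = (x * b) * y * x⁻¹ := by rw [h2]
      _ = x * (b * y) * x⁻¹ := by group
      _ = x * (y * b) * x⁻¹ := by rw [h1]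
      _ = x * y * (b * x⁻¹) := by group
      _ = x * y * (x⁻¹ * b) := by rw [h3]
      _ = x * y * x⁻¹ * b := by group
  exact (le_iSup (fun D : {D : Subgroup G // D ≤ A ∧ Nat.card ↥D = p ^ k} =>
    signalizerDelta p (D : Subgroup G) ⊓ centralizer {a}) D) hmem

/-- LEAF KB-TN. [`A` normalizes every generator `Δ(D) ⊓ C(a)`] -/
theorem kb_theta_normalizer (hA : Cfsg.IsElementaryAbelian p A) {a : G} (haA : a ∈ A) :
    A ≤ normalizer (kbTheta p k A a : Set G) := by
  intro x hx
  rw [mem_normalizer_iff]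
  intro y
  refine ⟨fun hy => kbtn_conj_mem hA haA hx hy, fun hy => ?_⟩
  have h := kbtn_conj_mem (p := p) (k := k) hA haA (A.inv_mem hx) hy
  rw [mem_comap] at h
  have e : (MulAut.conj x⁻¹).toMonoidHom (x * y * x⁻¹) = y := by
    simp
    group
  rwa [e] at h

end Cfsg.Agent.Lib.Helper22.Kb
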