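import Mathlib
import Cfsg.Agent.Lib.Helper22.LBalS
import Cfsg.Agent.S0215

/-! # Lb hive (S1301, helper22): leaf LB-ZS `centralizes_of_isolated` (helper95) -/

set_option autoImplicit false

namespace Cfsg.Agent.Lib.Helper22.Lb

open Subgroup Cfsg
open scoped commutatorElement
open Cfsg.Agent.Lib.Helper23 (pUp pUp_le mem_pUp_of_pow coreIn coreIn_le)
open Cfsg.Agent.Lib.Helper22.LBal

/-- a Sylow 2-subgroup of `H = K<u>` containing `R<u>` is `R<u>` -/
theorem lbzs_sylow_le {H : Type*} [Group H] [Finite H] (K : Subgroup H) [K.Normal]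
    (u : H) (hKu : K ⊔ zpowers u = ⊤)
    (R : Subgroup H)
    (hRsyl : ∃ S : Sylow 2 ↥K, (S : Subgroup ↥K).map K.subtype = R)
    (Q : Sylow 2 H) (hPQ : R ⊔ zpowers u ≤ (Q : Subgroup H)) :
    (Q : Subgroup H) ≤ R ⊔ zpowers u := by
  obtain ⟨S, hS⟩ := hRsyl
  have hRQ : R ≤ (Q : Subgroup H) := le_sup_left.trans hPQ
  have huQ : zpowers u ≤ (Q : Subgroup H) := le_sup_right.trans hPQ
  -- `Q ⊓ K = R`
  have hQK : ((Q : Subgroup H) ⊓ K).subgroupOf K = (S : Subgroup ↥K) := by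
    apply S.is_maximal'
    · have h1 : IsPGroup 2 ((Q : Subgroup H) ⊓ K : Subgroup H) := Q.2.to_le inf_le_left
      exact h1.comap_of_injective K.subtype (Subgroup.subtype_injective K)
    · intro x hx
      rw [Subgroup.mem_subgroupOf]
      refine ⟨hRQ ?_, x.2⟩
      rw [← hS]
      exact Subgroup.mem_map_of_mem _ hx
  intro q hq
  have hq' : q ∈ ((K ⊔ zpowers u : Subgroup H) : Set H) := by rw [hKu]; trivial
  rw [Subgroup.normal_mul] at hq'
  obtain ⟨k, hk, z, hz, rfl⟩ := Set.mem_mul.1 hq'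
  have hkQ : k ∈ (Q : Subgroup H) := by
    have : k = k * z * z⁻¹ := by group
    rw [this]
    exact mul_mem hq (inv_mem (huQ hz))
  have hkR : k ∈ R := by
    have h1 : (⟨k, hk⟩ : K) ∈ ((Q : Subgroup H) ⊓ K).subgroupOf K := by
      rw [Subgroup.mem_subgroupOf]
      exact ⟨hkQ, hk⟩
    rw [hQK] at h1
    rw [← hS]
    exact ⟨⟨k, hk⟩, h1, rfl⟩
  exact mul_mem (le_sup_left (a := R) hkR) (le_sup_right (b := zpowers u) hz)

/-- LEAF LB-ZS (apply S0215). If `u` IS isolated in `P = R<u>` and `K` has no normal subgroup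
`≠ 1` of odd order, then `u` centralizes `K`. -/
theorem centralizes_of_isolated {H : Type*} [Group H] [Finite H] (K : Subgroup H) [K.Normal]
    (hOK : ∀ N : Subgroup H, N ≤ K → K ≤ normalizer (N : Set H) → Odd (Nat.card N) → N = ⊥)
    (u : H) (hu : orderOf u = 2) (hKu : K ⊔ zpowers u = ⊤)
    (R : Subgroup H) (hRK : R ≤ K)
    (hRsyl : ∃ S : Sylow 2 ↥K, (S : Subgroup ↥K).map K.subtype = R)
    (huR : u ∈ centralizer (R : Set H))
    (hiso : ∀ g : H, g * u * g⁻¹ ∈ R ⊔ zpowers u → g * u * g⁻¹ = u) :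
    u ∈ centralizer (K : Set H) := by
  have : Fact (Nat.Prime 2) := ⟨Nat.prime_two⟩
  -- `P = R<u>` is a 2-group
  have hR2 : IsPGroup 2 R := by
    obtain ⟨S, rfl⟩ := hRsyl
    exact S.2.map _
  have hu2 : IsPGroup 2 (zpowers u) := by
    apply IsPGroup.of_card (n := 1)
    rw [Nat.card_zpowers, hu, pow_one]
  have hun : zpowers u ≤ normalizer (R : Set H) := by
    rw [Subgroup.zpowers_le]
    exact Subgroup.centralizer_le_normalizer _ huR
  have hP2 : IsPGroup 2 (R ⊔ zpowers u : Subgroup H) := by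
    rw [sup_comm]
    exact IsPGroup.to_sup_of_normal_right' hu2 hR2 hun
  obtain ⟨Q, hQ⟩ := hP2.exists_le_sylow
  have hQP := lbzs_sylow_le K u hKu R hRsyl Q hQ
  have huQ : u ∈ (Q : Subgroup H) := hQ (le_sup_right (a := R) (Subgroup.mem_zpowers u))
  obtain ⟨N, hN, hNodd, hNc⟩ := Cfsg.Agent.S0215.result Q u hu huQ
    (fun g hg => hiso g (hQP hg))
  have hbot : N ⊓ K = ⊥ := by
    apply hOK _ inf_le_right
    · intro k _
      have : (N ⊓ K).Normal := inferInstance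
      rw [Subgroup.normalizer_eq_top (N ⊓ K)]
      trivial
    · have hdvd : Nat.card (N ⊓ K : Subgroup H) ∣ Nat.card N := Subgroup.card_dvd_of_le inf_le_left
      exact Odd.of_dvd_nat hNodd hdvd
  rw [Subgroup.mem_centralizer_iff]
  intro k hk
  have h1 : u * k * u⁻¹ * k⁻¹ ∈ N ⊓ K :=
    ⟨hNc k, K.mul_mem (‹K.Normal›.conj_mem k hk u) (K.inv_mem hk)⟩
  rw [hbot, Subgroup.mem_bot] at h1
  have h2 : u * k = k * u := by
    have : u * k = (u * k * u⁻¹ * k⁻¹) * (k * u) := by group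
    rw [this, h1, one_mul]
  exact h2.symm

end Cfsg.Agent.Lib.Helper22.Lb
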