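import Mathlib
import Cfsg.Agent.Lib.Helper41.StnDefs
import Cfsg.Agent.Lib.Helper95.Stn_WALL

/-! # Stn hive (S2401, helper41): leaf STN-W-WW (`ww_conj_ww`) -/

set_option autoImplicit false

namespace Cfsg.Agent.Lib.Helper41.Stn

open Matrix

variable {K : Type*} [Field K] {n : ℕ}

theorem www_mu_ne_zero {i j : Fin n} {t : K} (ht : t ≠ 0) (a : Fin n) : mu i j t a ≠ 0 := by
  unfold mu
  split_ifs
  · exact neg_ne_zero.mpr (inv_ne_zero ht)
  · exact ht
  · exact one_ne_zero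

/-- STN-W-WW -/
theorem ww_conj_ww (hn : 3 ≤ n) {i j : Fin n} (hij : i ≠ j) {t : K} (ht : t ≠ 0) {k l : Fin n}
    (hkl : k ≠ l) {u : K} (hu : u ≠ 0) :
    ww i j t * ww k l u * (ww i j t)⁻¹ =
      ww (Equiv.swap i j k) (Equiv.swap i j l) (mu i j t k / mu i j t l * u) := by
  have hk := www_mu_ne_zero (i := i) (j := j) ht k
  have hl := www_mu_ne_zero (i := i) (j := j) ht l
  have h1 : ww i j t * ww k l u * (ww i j t)⁻¹ =
      (ww i j t * xx k l u * (ww i j t)⁻¹) * (ww i j t * xx l k (-u⁻¹) * (ww i j t)⁻¹) *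
        (ww i j t * xx k l u * (ww i j t)⁻¹) := by
    unfold ww
    group
  rw [h1, ww_conj_xx hn hij ht hkl, ww_conj_xx hn hij ht hkl.symm]
  have h2 : mu i j t l / mu i j t k * -u⁻¹ = -(mu i j t k / mu i j t l * u)⁻¹ := by
    field_simp
  rw [h2]
  rfl

end Cfsg.Agent.Lib.Helper41.Stn
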