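import Mathlib
import Cfsg.Agent.Lib.Helper6.Ls.Defs
import Cfsg.Agent.Lib.Helper13.UnitaryTorus
import Cfsg.Agent.Lib.Helper13.UnitaryComm

set_option autoImplicit false

/-! # `Ls` hive (S2334 + S2335), leaf C-ZG: the root subgroups `Zgrp e` -/

namespace Cfsg.Agent.Lib.Helper6.Ls

open Module Cfsg.Agent.Lib.Helper99

section concrete

variable {F : Type*} [Field F] [Fintype F] {q : ℕ}

theorem czg_trace_add (hF : Fintype.card F = q ^ 2) {c c' : F} (hc : c + c ^ q = 0)
    (hc' : c' + c' ^ q = 0) : (c + c') + (c + c') ^ q = 0 := by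
  rw [frob_add hF]
  linear_combination hc + hc'

theorem czg_trace_zero (hF : Fintype.card F = q ^ 2) : (0 : F) + (0 : F) ^ q = 0 := by
  have hq := q_ge_two hF
  rw [zero_pow (by omega), add_zero]

/-- `rootSet e` is closed under the group operations -/
theorem czg_mem_rootSet_of_mem (hF : Fintype.card F = q ^ 2) {n : ℕ} (e : Fin n → F)
    (he : Cfsg.hermForm n F q e e = 0) (g : SUg F n q) (hg : g ∈ Zgrp e) : g ∈ rootSet e := by
  unfold Zgrp at hg
  induction hg using Subgroup.closure_induction with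
  | mem x hx => exact hx
  | one =>
    refine ⟨0, czg_trace_zero hF, ?_⟩
    rw [Helper13.utv_zero e he]
    rfl
  | mul x y _ _ hx hy =>
    obtain ⟨c, hc, hxc⟩ := hx
    obtain ⟨c', hc', hyc⟩ := hy
    refine ⟨c + c', czg_trace_add hF hc hc', ?_⟩
    rw [Subgroup.coe_mul, hxc, hyc, Helper13.utv_add e he]
  | inv x _ hx =>
    obtain ⟨c, hc, hxc⟩ := hx
    refine ⟨-c, Helper13.trace_zero_neg hF hc, ?_⟩
    rw [Subgroup.coe_inv, hxc, Helper13.utv_inv e he]

/-- C-ZG (1) -/
theorem mem_Zgrp_iff (hF : Fintype.card F = q ^ 2) {n : ℕ} (e : Fin n → F)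
    (he : Cfsg.hermForm n F q e e = 0) (g : SUg F n q) : g ∈ Zgrp e ↔ g ∈ rootSet e :=
  ⟨czg_mem_rootSet_of_mem hF e he g, fun h => Subgroup.subset_closure h⟩

theorem czg_utv_zero_vec {n : ℕ} (c : F) : utv q (0 : Fin n → F) c = 1 := by
  apply Units.ext
  rw [Matrix.ext_iff_mulVec]
  intro x
  rw [utv_mulVec (0 : Fin n → F) (hermForm_zero_left 0), smul_zero, add_zero, Units.val_one,
    Matrix.one_mulVec]

/-- C-ZG (2) -/
theorem Zgrp_zero (hF : Fintype.card F = q ^ 2) {n : ℕ} :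
    Zgrp (0 : Fin n → F) = (⊥ : Subgroup (SUg F n q)) := by
  unfold Zgrp
  rw [Subgroup.closure_eq_bot_iff]
  rintro g ⟨c, _, hg⟩
  rw [czg_utv_zero_vec] at hg
  exact Subtype.ext hg

theorem czg_utv_comm (hF : Fintype.card F = q ^ 2) {n : ℕ} (e u : Fin n → F)
    (he : Cfsg.hermForm n F q e e = 0) (hu : Cfsg.hermForm n F q u u = 0)
    (heu : Cfsg.hermForm n F q e u = 0) (c c' : F) :
    utv q e c * utv q u c' = utv q u c' * utv q e c := by
  have hue : Cfsg.hermForm n F q u e = 0 := hermForm_eq_zero_comm hF heu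
  apply Units.ext
  rw [Matrix.ext_iff_mulVec]
  intro x
  rw [Units.val_mul, Units.val_mul, ← Matrix.mulVec_mulVec, ← Matrix.mulVec_mulVec,
    utv_mulVec u hu, utv_mulVec e he, utv_mulVec e he, utv_mulVec u hu,
    Helper13.hermForm_add_left, Helper13.hermForm_add_left, Helper13.hermForm_smul_left,
    Helper13.hermForm_smul_left, hue, heu, mul_zero, mul_zero, add_zero, add_zero]
  abel

/-- C-ZG (3): root subgroups with orthogonal centres commute (in particular each is abelian). -/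
theorem Zgrp_commute (hF : Fintype.card F = q ^ 2) {n : ℕ} (e u : Fin n → F)
    (he : Cfsg.hermForm n F q e e = 0) (hu : Cfsg.hermForm n F q u u = 0)
    (heu : Cfsg.hermForm n F q e u = 0) :
    ∀ a ∈ (Zgrp e : Subgroup (SUg F n q)), ∀ b ∈ (Zgrp u : Subgroup (SUg F n q)), a * b = b * a := by
  intro a ha b hb
  obtain ⟨c, _, hac⟩ := (mem_Zgrp_iff hF e he a).mp ha
  obtain ⟨c', _, hbc⟩ := (mem_Zgrp_iff hF u hu b).mp hb
  apply Subtype.ext
  rw [Subgroup.coe_mul, Subgroup.coe_mul, hac, hbc]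
  exact czg_utv_comm hF e u he hu heu c c'

theorem czg_norm_pow (hF : Fintype.card F = q ^ 2) (l : F) : (l ^ (q + 1)) ^ q = l ^ (q + 1) := by
  rw [pow_succ, mul_pow, Helper13.pow_q_pow_q hF, mul_comm]

/-- C-ZG (4): scaling the centre does not change the root subgroup. -/
theorem Zgrp_smul (hF : Fintype.card F = q ^ 2) {n : ℕ} (e : Fin n → F)
    (he : Cfsg.hermForm n F q e e = 0) (l : F) (hl : l ≠ 0) :
    (Zgrp (l • e) : Subgroup (SUg F n q)) = Zgrp e := by
  have hN : l ^ (q + 1) ≠ 0 := pow_ne_zero _ hl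
  apply le_antisymm
  · unfold Zgrp
    rw [Subgroup.closure_le]
    rintro g ⟨c, hc, hg⟩
    apply Subgroup.subset_closure
    refine ⟨c * l ^ (q + 1), ?_, ?_⟩
    · rw [mul_pow, czg_norm_pow hF]
      linear_combination l ^ (q + 1) * hc
    · rw [hg, utv_smul e he]
  · unfold Zgrp
    rw [Subgroup.closure_le]
    rintro g ⟨c, hc, hg⟩
    apply Subgroup.subset_closure
    refine ⟨c / l ^ (q + 1), ?_, ?_⟩
    · rw [div_pow, czg_norm_pow hF]
      rw [← add_div, hc, zero_div]
    · rw [hg, utv_smul e he, div_mul_cancel₀ _ hN]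

end concrete

end Cfsg.Agent.Lib.Helper6.Ls
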