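import Mathlib
import Cfsg.Agent.Lib.Helper6.Ls.Defs
import Cfsg.Agent.Lib.Helper95.LsCZG

set_option autoImplicit false

/-! # `Ls` hive (S2334 + S2335), leaf C-FIXA: `lineGrp e u` is abelian -/

namespace Cfsg.Agent.Lib.Helper6.Ls

open Module Cfsg.Agent.Lib.Helper99

section concrete

variable {F : Type*} [Field F] [Fintype F] {q : ℕ}

/-- a subgroup generated by pairwise commuting elements is commutative -/
theorem cfixa_closure_comm {G : Type*} [Group G] (S : Set G)
    (hS : ∀ a ∈ S, ∀ b ∈ S, a * b = b * a) :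
    ∀ a ∈ Subgroup.closure S, ∀ b ∈ Subgroup.closure S, a * b = b * a := by
  have h1 : ∀ s ∈ S, ∀ b ∈ Subgroup.closure S, Commute s b := by
    intro s hs b hb
    induction hb using Subgroup.closure_induction with
    | mem x hx => exact hS s hs x hx
    | one => exact Commute.one_right s
    | mul x y _ _ hx hy => exact hx.mul_right hy
    | inv x _ hx => exact hx.inv_right
  intro a ha b hb
  have h2 : Commute a b := by
    induction ha using Subgroup.closure_induction with
    | mem x hx => exact h1 x hx b hb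
    | one => exact Commute.one_left b
    | mul x y _ _ hx hy => exact hx.mul_left hy
    | inv x _ hx => exact hx.inv_left
  exact h2

theorem cfixa_herm_line (hF : Fintype.card F = q ^ 2) {n : ℕ} (e u : Fin n → F)
    (hee : Cfsg.hermForm n F q e e = 0) (huu : Cfsg.hermForm n F q u u = 0)
    (heu : Cfsg.hermForm n F q e u = 0) (v v' : F × F) :
    Cfsg.hermForm n F q (v.1 • e + v.2 • u) (v'.1 • e + v'.2 • u) = 0 := by
  have hue : Cfsg.hermForm n F q u e = 0 := hermForm_eq_zero_comm hF heu
  simp only [Helper13.hermForm_add_left, Helper13.hermForm_add_right hF,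
    Helper13.hermForm_smul_left, Helper13.hermForm_smul_right, hee, huu, heu, hue]
  ring

/-- C-FIXA -/
theorem lineGrp_comm (hF : Fintype.card F = q ^ 2) {n : ℕ} (e u : Fin n → F)
    (hee : Cfsg.hermForm n F q e e = 0) (huu : Cfsg.hermForm n F q u u = 0)
    (heu : Cfsg.hermForm n F q e u = 0) :
    ∀ a ∈ (lineGrp e u : Subgroup (SUg F n q)), ∀ b ∈ (lineGrp e u : Subgroup (SUg F n q)), a * b = b * a := by
  have hcl : (lineGrp e u : Subgroup (SUg F n q)) =
      Subgroup.closure (⋃ v : F × F, ((Zgrp (v.1 • e + v.2 • u) : Subgroup (SUg F n q)) : Set (SUg F n q))) := by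
    unfold lineGrp
    rw [Subgroup.iSup_eq_closure]
  rw [hcl]
  apply cfixa_closure_comm
  intro a ha b hb
  obtain ⟨v, hav⟩ := Set.mem_iUnion.mp ha
  obtain ⟨v', hbv⟩ := Set.mem_iUnion.mp hb
  exact Zgrp_commute hF _ _ (cfixa_herm_line hF e u hee huu heu v v)
    (cfixa_herm_line hF e u hee huu heu v' v') (cfixa_herm_line hF e u hee huu heu v v') a hav b hbv

end concrete

end Cfsg.Agent.Lib.Helper6.Ls
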