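import Cfsg.Agent.Lib.Helper38.RhDefsB

/-! # Rh hive (helper38), part B: auxiliary for RH-FIXH (helper95) - a private copy `fixh_bk_conj_hu_fixed` of the
statement of RH-FIXU, so that RH-FIXH does not wait for it (own names, prefix `fixh_bk_`). -/

set_option autoImplicit false

namespace Cfsg.Agent.Lib.Helper38.Rh

open Cfsg.Agent.Lib.Helper12.Rt

section partB
variable {K : Type*} [Field K] [Fintype K] {G : Type*} [Group G] {m : ℕ} (D : RtData K G m)

theorem fixh_bk_A (hK : Fintype.card K = 3 ^ (2 * m + 1)) (x : K) (hx : x ≠ 0)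
    (h : x ^ (3 ^ m * 3) = x ^ 2) : x = 1 := by
  have h1 := Cfsg.Agent.Lib.Helper12.ReeOut.fact_pow_pow hK x
  rw [h, ← pow_mul, mul_comm, pow_mul, h] at h1
  have h2 : x ^ 3 * (x - 1) = 0 := by linear_combination h1
  rcases mul_eq_zero.1 h2 with h3 | h3
  · exact absurd (pow_eq_zero_iff (by norm_num) |>.1 h3) hx
  · linear_combination h3

theorem fixh_bk_B (hK : Fintype.card K = 3 ^ (2 * m + 1)) (x : K) (hx : x ≠ 0)
    (h : x ^ (3 ^ m * 3) = x) : x = 1 ∨ x = -1 := by
  have h1 := Cfsg.Agent.Lib.Helper12.ReeOut.fact_pow_pow hK x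
  rw [h, h] at h1
  have h2 : x * ((x - 1) * (x + 1)) = 0 := by linear_combination -h1
  rcases mul_eq_zero.1 h2 with h3 | h3
  · exact absurd h3 hx
  · rcases mul_eq_zero.1 h3 with h4 | h4
    · left; linear_combination h4
    · right; linear_combination h4

theorem fixh_bk_conj_hu_fixed (s : Kˣ) (hs : s ≠ 1) (p : K × K × K) :
    D.R.h s * D.R.u p * (D.R.h s)⁻¹ = D.R.u p ↔ (p = 0 ∨ (s = -1 ∧ p.1 = 0 ∧ p.2.2 = 0)) := by
  have hx : (s : K) ≠ 0 := s.ne_zero
  have hx1 : (s : K) ≠ 1 := fun h => hs (Units.ext h)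
  have he : ((s : K) ^ 3 ^ m) ^ 3 = (s : K) ^ (3 ^ m * 3) := (pow_mul _ _ _).symm
  obtain ⟨p1, p2, p3⟩ := p
  rw [D.R.conj_hu, he]
  constructor
  · intro h
    have h' := D.R.u_inj h
    simp only [Prod.mk.injEq] at h'
    obtain ⟨h1, h2, h3⟩ := h'
    have hp3 : p3 = 0 := by
      have : ((s : K) - 1) * p3 = 0 := by linear_combination h3
      rcases mul_eq_zero.1 this with h4 | h4
      · exact absurd (by linear_combination h4) hx1
      · exact h4
    have hp1 : p1 = 0 := by
      by_contra hne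
      have h4 : (s : K) ^ 2 / (s : K) ^ (3 ^ m * 3) = 1 := by
        have : ((s : K) ^ 2 / (s : K) ^ (3 ^ m * 3) - 1) * p1 = 0 := by linear_combination h1
        rcases mul_eq_zero.1 this with h5 | h5
        · linear_combination h5
        · exact absurd h5 hne
      rw [div_eq_one_iff_eq (pow_ne_zero _ hx)] at h4
      exact hx1 (fixh_bk_A D.R.hK _ hx h4.symm)
    by_cases hp2 : p2 = 0
    · left
      rw [hp1, hp2, hp3]; rfl
    · right
      have h4 : (s : K) ^ (3 ^ m * 3) / (s : K) = 1 := by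
        have : ((s : K) ^ (3 ^ m * 3) / (s : K) - 1) * p2 = 0 := by linear_combination h2
        rcases mul_eq_zero.1 this with h5 | h5
        · linear_combination h5
        · exact absurd h5 hp2
      rw [div_eq_one_iff_eq hx] at h4
      rcases fixh_bk_B D.R.hK _ hx h4 with h5 | h5
      · exact absurd h5 hx1
      · exact ⟨Units.ext (by simpa using h5), hp1, hp3⟩
  · rintro (h | ⟨h1, h2, h3⟩)
    · have := Prod.mk.inj h
      obtain ⟨h1, h23⟩ := this
      obtain ⟨h2, h3⟩ := Prod.mk.inj h23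
      change p1 = 0 at h1
      change p2 = 0 at h2
      change p3 = 0 at h3
      subst h1 h2 h3
      simp
    · dsimp only at h2 h3
      subst h1 h2 h3
      congr 1
      refine Prod.ext ?_ (Prod.ext ?_ ?_)
      · simp
      · show ((-1 : Kˣ) : K) ^ (3 ^ m * 3) / ((-1 : Kˣ) : K) * p2 = p2
        rw [Units.val_neg, Units.val_one, Cfsg.Agent.Lib.Helper12.ReeOut.fact_neg_one_pow]
        simp
      · simp

end partB

end Cfsg.Agent.Lib.Helper38.Rh
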