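import Cfsg.Agent.Lib.Helper95.RhFIXHcore
import Cfsg.Agent.Lib.Helper95.RhFIXHaux
import Cfsg.Agent.Lib.Helper18.RhPTS

/-! # Rh hive (helper38), part B: leaf RH-FIXH — fixed points of the torus elements on `G / B` (helper95)

`fixN_h` and `fixN_a`, exact statements of `tools/helper38/RhSkelB.lean.txt`; the work is in
`Cfsg.Agent.Lib.Helper95.RhFIXHcore` (`fixh_core_h`, `fixh_core_a`), here instantiated with RH-PTS
(helper18) and a private copy of RH-FIXU (`fixh_bk_conj_hu_fixed`, `Cfsg.Agent.Lib.Helper95.RhFIXHaux`). -/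

set_option autoImplicit false

namespace Cfsg.Agent.Lib.Helper38.Rh

open Cfsg.Agent.Lib.Helper12.Rt

section partB
variable {K : Type*} [Field K] [Fintype K] {G : Type*} [Group G] {m : ℕ} (D : RtData K G m)

/-- RH-FIXH.  A torus element `h s`, `s ≠ ±1`, fixes exactly the two points `B`, `n B`. -/
theorem fixN_h (s : Kˣ) (hs : s ≠ 1) (hs' : s ≠ -1) : fixN D (D.R.h s) = 2 :=
  fixh_core_h D (points D) (points_inj D) (points_ne D) (fun s hs p => fixh_bk_conj_hu_fixed D s hs p) s hs hs'

/-- RH-FIXH (same file).  The involution `h (-1)` fixes `q + 1` points. -/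
theorem fixN_a : fixN D (D.R.h (-1)) = qq m + 1 :=
  fixh_core_a D (points D) (points_inj D) (points_ne D) (fun s hs p => fixh_bk_conj_hu_fixed D s hs p)

end partB

end Cfsg.Agent.Lib.Helper38.Rh
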