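import Mathlib
import Cfsg.Agent.Lib.Helper37.FusDefs

/-!
# FUS-C sub-hive (S2720 / S2721), sub-leaf FUSC-A1 : `fusC_invol_refl`

An isometric involution is the product of the reflections in an orthogonal basis of its
`-1`-eigenspace; the product of the norms is `d² * det (Gram e)` for any basis `e` of that
eigenspace.
-/

set_option autoImplicit false

namespace Cfsg.Agent.Lib.Helper37.Fus

open Polynomial

universe u v

variable {F : Type u} [Field F]

variable {W : Type v} [AddCommGroup W] [Module F W]

theorem fusCA1_rfl_of_ortho (β : LinearMap.BilinForm F W) (v x : W) (h : β v x = 0) :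
    rfl β v x = x := by
  rw [rfl_apply, h, mul_zero, zero_smul, sub_zero]

theorem fusCA1_rfl_self (β : LinearMap.BilinForm F W) (v : W) (hv : β v v ≠ 0) :
    rfl β v v = -v := by
  rw [rfl_apply, mul_assoc, inv_mul_cancel₀ hv, mul_one, two_smul]
  abel

theorem fusCA1_prod_fix (β : LinearMap.BilinForm F W) (os : List W) (x : W)
    (h : ∀ o ∈ os, β o x = 0) : (os.map (rfl β)).prod x = x := by
  induction os with
  | nil => simp
  | cons o os ih =>
    rw [List.map_cons, List.prod_cons, Module.End.mul_apply,
      ih (fun o' ho' => h o' (List.mem_cons_of_mem _ ho')),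
      fusCA1_rfl_of_ortho β o x (h o List.mem_cons_self)]

theorem fusCA1_prod_neg (β : LinearMap.BilinForm F W) (hs : ∀ u v, β u v = β v u) (os : List W)
    (hpw : os.Pairwise (fun o o' => β o o' = 0)) (hani : ∀ o ∈ os, β o o ≠ 0) (x : W)
    (hx : x ∈ os) : (os.map (rfl β)).prod x = -x := by
  induction os with
  | nil => simp at hx
  | cons o os ih =>
    rw [List.pairwise_cons] at hpw
    rw [List.map_cons, List.prod_cons, Module.End.mul_apply]
    rcases List.mem_cons.1 hx with hxo | hx'
    · subst hxo
      rw [fusCA1_prod_fix β os x (fun o' ho' => by rw [hs]; exact hpw.1 o' ho')]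
      exact fusCA1_rfl_self β x (hani x List.mem_cons_self)
    · rw [ih hpw.2 (fun o' ho' => hani o' (List.mem_cons_of_mem _ ho')) hx']
      apply fusCA1_rfl_of_ortho
      rw [map_neg, hpw.1 x hx', neg_zero]

/-- FUSC-A1 (generic) : an isometric involution is the product of the reflections in an orthogonal basis
of its `-1`-eigenspace; the product of the norms is `d² * det (Gram e)` for any basis `e` of that
eigenspace. -/
theorem fusC_invol_refl [FiniteDimensional F W] (h2 : (2 : F) ≠ 0) (β : LinearMap.BilinForm F W)
    (hs : ∀ u v, β u v = β v u) (hnd : ∀ u, (∀ v, β u v = 0) → u = 0)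
    (σ : W →ₗ[F] W) (hσ2 : σ * σ = 1) (hσ : ∀ u v, β (σ u) (σ v) = β u v)
    {k : ℕ} (e : Fin k → W) (he : LinearIndependent F e)
    (hspan : ∀ w, σ w = -w ↔ w ∈ Submodule.span F (Set.range e)) :
    ∃ os : List W, os.length = k ∧ (∀ o ∈ os, β o o ≠ 0) ∧ (os.map (rfl β)).prod = σ ∧
      ∃ d : F, d ≠ 0 ∧
        (os.map (fun o => β o o)).prod = d ^ 2 * (Matrix.of fun i j : Fin k => β (e i) (e j)).det := by
  classical
  have : Invertible (2 : F) := invertibleOfNonzero h2
  set N : Submodule F W := Submodule.span F (Set.range e) with hN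
  have hσσ : ∀ w, σ (σ w) = w := by
    intro w
    have := congrArg (fun f : W →ₗ[F] W => f w) hσ2
    simpa using this
  -- `ker (σ - 1) ⊥ ker (σ + 1)`
  have hPN : ∀ p x : W, σ p = p → σ x = -x → β x p = 0 := by
    intro p x hp hx
    have h := hσ x p
    rw [hp, hx, map_neg, LinearMap.neg_apply] at h
    have h3 : (2 : F) * β x p = 0 := by linear_combination -h
    rcases mul_eq_zero.1 h3 with h4 | h4
    · exact absurd h4 h2
    · exact h4
  -- the decomposition `w = p + x`
  have hdec : ∀ w : W, ∃ p x : W, σ p = p ∧ σ x = -x ∧ w = p + x := by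
    intro w
    refine ⟨(⅟(2 : F)) • (w + σ w), (⅟(2 : F)) • (w - σ w), ?_, ?_, ?_⟩
    · rw [map_smul, map_add, hσσ, add_comm]
    · rw [map_smul, map_sub, hσσ, ← smul_neg, neg_sub]
    · rw [← smul_add, add_add_sub_cancel, ← two_smul F w, smul_smul, invOf_mul_self, one_smul]
  -- `β` restricted to `N` is nondegenerate
  have hβNs : (β.restrict N).IsSymm := ⟨fun x y => hs x y⟩
  have hβNnd : (β.restrict N).Nondegenerate := by
    have hleft : (β.restrict N).SeparatingLeft := by
      intro x hx
      apply Subtype.ext
      apply hnd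
      intro w
      obtain ⟨p, y, hp, hy, rfl⟩ := hdec w
      rw [map_add, hPN p x hp ((hspan x).2 x.2), zero_add]
      exact hx ⟨y, (hspan y).1 hy⟩
    refine ⟨hleft, ?_⟩
    intro y hy
    apply hleft
    intro x
    have := hy x
    rw [hβNs.eq] at this
    exact this
  -- the basis `e` of `N`
  let be : Module.Basis (Fin k) F N := Module.Basis.span he
  have hbe : ∀ i, (be i : W) = e i := fun i => congrArg Subtype.val (Module.Basis.span_apply he i)
  have hrank : Module.finrank F N = k := by
    rw [hN, finrank_span_eq_card he, Fintype.card_fin]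
  -- an orthogonal basis of `N`
  obtain ⟨v0, hv0⟩ := LinearMap.BilinForm.exists_orthogonal_basis (LinearMap.BilinForm.isSymm_iff.1 hβNs)
  let v : Module.Basis (Fin k) F N := v0.reindex (finCongr hrank)
  have hv : (β.restrict N).iIsOrtho v := by
    intro i j hij
    have : (finCongr hrank).symm i ≠ (finCongr hrank).symm j :=
      fun h => hij ((finCongr hrank).symm.injective h)
    have h3 : (β.restrict N) (v0 ((finCongr hrank).symm i)) (v0 ((finCongr hrank).symm j)) = 0 :=
      hv0 this
    show (β.restrict N) (v i) (v j) = 0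
    rw [Module.Basis.reindex_apply, Module.Basis.reindex_apply]
    exact h3
  have hvani : ∀ i, β (v i : W) (v i : W) ≠ 0 := fun i =>
    hv.not_isOrtho_basis_self_of_nondegenerate hβNnd i
  have hvorth : ∀ i j, i ≠ j → β (v i : W) (v j : W) = 0 := fun i j hij => hv hij
  refine ⟨List.ofFn (fun i => (v i : W)), by simp, ?_, ?_, ?_⟩
  · intro o ho
    obtain ⟨i, rfl⟩ := (List.mem_ofFn' _ _).1 ho
    exact hvani i
  · -- the product of the reflections is `σ`
    have hpw : (List.ofFn (fun i => (v i : W))).Pairwise (fun o o' => β o o' = 0) := by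
      rw [List.pairwise_ofFn]
      intro i j hij
      exact hvorth i j (ne_of_lt hij)
    have hani : ∀ o ∈ List.ofFn (fun i => (v i : W)), β o o ≠ 0 := by
      intro o ho
      obtain ⟨i, rfl⟩ := (List.mem_ofFn' _ _).1 ho
      exact hvani i
    set T : W →ₗ[F] W := ((List.ofFn (fun i => (v i : W))).map (rfl β)).prod with hT
    -- on `N`
    have hTN : ∀ x : N, T (x : W) = -(x : W) := by
      have hlin : T ∘ₗ N.subtype = -N.subtype := by
        apply v.ext
        intro i
        simp only [LinearMap.comp_apply, Submodule.subtype_apply, LinearMap.neg_apply]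
        exact fusCA1_prod_neg β hs _ hpw hani _ ((List.mem_ofFn' _ _).2 ⟨i, Eq.refl _⟩)
      intro x
      have := congrArg (fun f : N →ₗ[F] W => f x) hlin
      simpa using this
    apply LinearMap.ext
    intro w
    obtain ⟨p, x, hp, hx, rfl⟩ := hdec w
    rw [map_add, map_add, hp, hx]
    congr 1
    · apply fusCA1_prod_fix
      intro o ho
      obtain ⟨i, rfl⟩ := (List.mem_ofFn' _ _).1 ho
      exact hPN p _ hp ((hspan _).2 (v i).2)
    · exact hTN ⟨x, (hspan x).1 hx⟩
  · -- the product of the norms
    refine ⟨(be.toMatrix v).det, ?_, ?_⟩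
    · have hinv : be.toMatrix v * v.toMatrix be = 1 := Module.Basis.toMatrix_mul_toMatrix_flip be v
      have hdet := congrArg Matrix.det hinv
      rw [Matrix.det_mul, Matrix.det_one] at hdet
      intro h0
      rw [h0, zero_mul] at hdet
      exact zero_ne_one hdet
    · have hgram : (Matrix.of fun i j : Fin k => β (e i) (e j)) =
          LinearMap.BilinForm.toMatrix be (β.restrict N) := by
        ext i j
        rw [LinearMap.BilinForm.toMatrix_apply, Matrix.of_apply]
        show β (e i) (e j) = β (be i : W) (be j : W)
        rw [hbe, hbe]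
      have hdiag : LinearMap.BilinForm.toMatrix v (β.restrict N) =
          Matrix.diagonal (fun i => β (v i : W) (v i : W)) := by
        ext i j
        rw [LinearMap.BilinForm.toMatrix_apply]
        by_cases hij : i = j
        · subst hij
          rw [Matrix.diagonal_apply_eq]
          exact Eq.refl _
        · rw [Matrix.diagonal_apply_ne _ hij]
          exact hvorth i j hij
      have hchange := LinearMap.BilinForm.toMatrix_mul_basis_toMatrix (b := be) v (β.restrict N)
      have hdet := congrArg Matrix.det hchange
      rw [Matrix.det_mul, Matrix.det_mul, Matrix.det_transpose, hdiag, Matrix.det_diagonal,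
        ← hgram] at hdet
      rw [List.map_ofFn, List.prod_ofFn]
      show ∏ i, β (v i : W) (v i : W) = _
      rw [← hdet]
      ring

end Cfsg.Agent.Lib.Helper37.Fus
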