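import Mathlib
import Cfsg.Agent.Lib.Helper37.FusDefs

/-!
# FUS-C sub-hive (S2720 / S2721), sub-leaf FUSC-A6 : `fusC_exists_norm_nonsquare`
-/

set_option autoImplicit false

namespace Cfsg.Agent.Lib.Helper37.Fus

open Polynomial

universe u v

variable {F : Type u} [Field F]

variable {L : Type u} [Field L] [Algebra F L]

theorem fusCA6_ringChar_ne_two {K : Type*} [Field K] (h2 : (2 : K) ≠ 0) : ringChar K ≠ 2 := by
  intro h
  apply h2
  have : ((2 : ℕ) : K) = 0 := by
    rw [← h]; exact ringChar.Nat.cast_ringChar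
  exact_mod_cast this

/-- FUSC-A6 : a value `s² - δ t²` with nonsquare norm. -/
theorem fusC_exists_norm_nonsquare [Fintype F] [Finite L] (h2 : (2 : F) ≠ 0) (δ : L) (hδ : δ ≠ 0) :
    ∃ s t : L, s ^ 2 - δ * t ^ 2 ≠ 0 ∧ ¬ IsSquare (Algebra.norm F (s ^ 2 - δ * t ^ 2)) := by
  classical
  have : Fintype L := Fintype.ofFinite L
  -- a nonsquare of `F`
  obtain ⟨c, hc⟩ := FiniteField.exists_nonsquare (fusCA6_ringChar_ne_two h2)
  -- of the form `norm m`
  obtain ⟨m, hm⟩ := FiniteField.norm_surjective F L c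
  -- `2 ≠ 0` in `L`
  have h2L : (2 : L) ≠ 0 := by
    intro h
    apply h2
    have h3 : algebraMap F L 2 = 0 := by rw [map_ofNat]; exact h
    exact (map_eq_zero (algebraMap F L)).1 h3
  have hodd : Fintype.card L % 2 = 1 :=
    FiniteField.odd_card_of_char_ne_two (fusCA6_ringChar_ne_two h2L)
  -- solve `s² - δ t² = m`
  have hf2 : degree (X ^ 2 : L[X]) = 2 := by
    rw [degree_X_pow]; rfl
  have hg2 : degree (C (-δ) * X ^ 2 - C m : L[X]) = 2 := by
    have h1 : degree (C (-δ) * X ^ 2 : L[X]) = 2 := by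
      rw [degree_C_mul_X_pow 2 (neg_ne_zero.2 hδ)]; rfl
    rw [degree_sub_eq_left_of_degree_lt, h1]
    rw [h1]
    exact lt_of_le_of_lt degree_C_le (by norm_num)
  obtain ⟨s, t, hst⟩ := FiniteField.exists_root_sum_quadratic hf2 hg2 hodd
  simp only [eval_pow, eval_X, eval_sub, eval_mul, eval_C] at hst
  have hval : s ^ 2 - δ * t ^ 2 = m := by linear_combination hst
  refine ⟨s, t, ?_, ?_⟩
  · rw [hval]
    intro hm0
    apply hc
    rw [← hm, hm0, Algebra.norm_zero]
    exact ⟨0, by simp⟩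
  · rw [hval, hm]
    exact hc

end Cfsg.Agent.Lib.Helper37.Fus
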