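import Mathlib
import Cfsg.Agent.Lib.Helper37.FusDefs

/-!
# FUS-C sub-hive (S2720 / S2721), sub-leaf FUSC-L : `fusC_exists_field`

The field `L = F[α + α']`, realised as `AdjoinRoot (minpoly F (α + α'))`.
-/

set_option autoImplicit false
set_option linter.unusedVariables false

namespace Cfsg.Agent.Lib.Helper37.Fus

open Polynomial

universe u v

variable {F : Type u} [Field F]

variable {W : Type v} [AddCommGroup W] [Module F W]

/-- the algebra map `F[X]/(p) → End W`, `X ↦ b` (noncommutative target) -/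
noncomputable def fusCL_rho (p : F[X]) (b : Module.End F W) (h : aeval b p = 0) :
    AdjoinRoot p →ₐ[F] Module.End F W :=
  Ideal.Quotient.liftₐ (Ideal.span {p}) (aeval b) (by
    intro a ha
    obtain ⟨c, rfl⟩ := Ideal.mem_span_singleton.1 ha
    rw [map_mul, h, zero_mul])

theorem fusCL_rho_mk (p : F[X]) (b : Module.End F W) (h : aeval b p = 0) (g : F[X]) :
    fusCL_rho p b h (AdjoinRoot.mk p g) = aeval b g := Eq.refl _

/-- powers of a selfadjoint operator are selfadjoint -/
theorem fusCL_pow_sa (β : LinearMap.BilinForm F W) (b : Module.End F W)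
    (hb : ∀ u v, β (b u) v = β u (b v)) (k : ℕ) (u v : W) :
    β ((b ^ k) u) v = β u ((b ^ k) v) := by
  induction k generalizing u v with
  | zero => simp
  | succ k ih =>
    calc β ((b ^ (k + 1)) u) v = β ((b ^ k) (b u)) v := by rw [pow_succ, Module.End.mul_apply]
      _ = β (b u) ((b ^ k) v) := ih _ _
      _ = β u (b ((b ^ k) v)) := hb _ _
      _ = β u ((b ^ (k + 1)) v) := by rw [pow_succ', Module.End.mul_apply]

/-- polynomials in a selfadjoint operator are selfadjoint -/
theorem fusCL_aeval_sa (β : LinearMap.BilinForm F W) (b : Module.End F W)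
    (hb : ∀ u v, β (b u) v = β u (b v)) (g : F[X]) (u v : W) :
    β (aeval b g u) v = β u (aeval b g v) := by
  rw [aeval_eq_sum_range]
  simp only [LinearMap.sum_apply, LinearMap.smul_apply, map_sum, map_smul]
  apply Finset.sum_congr (Eq.refl _)
  intro i _
  rw [fusCL_pow_sa β b hb i u v]

/-- a factorisation argument: if `p = g * h` and `p ∣ g` then `h` is a unit -/
theorem fusCL_unit_of_dvd {p g h : F[X]} (hp0 : p ≠ 0) (hgh : p = g * h) (hdvd : p ∣ g) :
    IsUnit h := by
  obtain ⟨c, rfl⟩ := hdvd
  have h1 : p * 1 = p * (c * h) := by rw [mul_one, ← mul_assoc]; exact hgh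
  have h2 : 1 = c * h := mul_left_cancel₀ hp0 h1
  exact IsUnit.of_mul_eq_one c (by rw [mul_comm]; exact h2.symm)

/-- FUSC-L : the field `L = F[α + α']` (`AdjoinRoot (minpoly F (α + α'))`, irreducible by the dichotomy:
`g (α + α') = aeval α (g.comp (X + X ^ m))` is selfadjoint). -/
theorem fusC_exists_field [Fintype F] [FiniteDimensional F W] [Nontrivial W]
    (β : LinearMap.BilinForm F W) (hs : ∀ u v, β u v = β v u)
    (α α' : W →ₗ[F] W) (hα : ∀ u v, β (α u) (α v) = β u v) (hαα' : α * α' = 1) (hα'α : α' * α = 1)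
    (m : ℕ) (hα' : α' = α ^ m)
    (hdich : ∀ f : F[X], (∀ u v, β (aeval α f u) v = β u (aeval α f v)) →
      aeval α f = 0 ∨ ∀ w, aeval α f w = 0 → w = 0) :
    ∃ (L : Type u) (_ : Field L) (_ : Algebra F L) (_ : Finite L) (ρ : L →ₐ[F] Module.End F W) (θ : L),
      ρ θ = α + α' ∧ (∀ s : L, ∃ g : F[X], s = aeval θ g) ∧ (∀ s : L, ρ s * α = α * ρ s) ∧
        ∀ (s : L) (u v : W), β (ρ s u) v = β u (ρ s v) := by
  classical
  have hαα'w : ∀ w, α (α' w) = w := by
    intro w
    have := congrArg (fun f : W →ₗ[F] W => f w) hαα'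
    simpa using this
  set b : Module.End F W := α + α' with hb
  -- `b` is selfadjoint
  have hbsa : ∀ u v, β (b u) v = β u (b v) := by
    intro u v
    have h1 : β (α u) v = β u (α' v) := by
      conv_lhs => rw [← hαα'w v]
      exact hα u (α' v)
    have h2 : β (α' u) v = β u (α v) := by
      conv_rhs => rw [← hαα'w u]
      exact (hα (α' u) v).symm
    rw [hb, LinearMap.add_apply, LinearMap.add_apply, map_add, LinearMap.add_apply, map_add, h1, h2,
      add_comm]
  -- polynomials in `b` are polynomials in `α`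
  have hcomp : ∀ g : F[X], aeval b g = aeval α (g.comp (X + X ^ m)) := by
    intro g
    rw [aeval_comp]
    congr 1
    rw [map_add, aeval_X, map_pow, aeval_X, hb, hα']
  -- dichotomy for polynomials in `b`
  have hdich' : ∀ g : F[X], aeval b g = 0 ∨ ∀ w, aeval b g w = 0 → w = 0 := by
    intro g
    have := hdich (g.comp (X + X ^ m)) (by
      intro u v
      rw [← hcomp g]
      exact fusCL_aeval_sa β b hbsa g u v)
    rw [← hcomp g] at this
    exact this
  -- the minimal polynomial
  have hint : IsIntegral F b := Algebra.IsIntegral.isIntegral b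
  set p : F[X] := minpoly F b with hp
  have hp0 : p ≠ 0 := minpoly.ne_zero hint
  have hpb : aeval b p = 0 := minpoly.aeval F b
  have hirr : Irreducible p := by
    rw [irreducible_iff]
    refine ⟨minpoly.not_isUnit F b, ?_⟩
    intro g h hgh
    have hprod : aeval b g * aeval b h = 0 := by
      rw [← map_mul, ← hgh]; exact hpb
    rcases hdich' g with h0 | hinj
    · right
      exact fusCL_unit_of_dvd hp0 hgh (minpoly.dvd F b h0)
    · left
      have hh0 : aeval b h = 0 := by
        apply LinearMap.ext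
        intro w
        apply hinj
        have := congrArg (fun f : Module.End F W => f w) hprod
        simpa using this
      exact fusCL_unit_of_dvd hp0 (by rw [mul_comm]; exact hgh) (minpoly.dvd F b hh0)
  have : Fact (Irreducible p) := ⟨hirr⟩
  have hfin : Finite (AdjoinRoot p) := by
    have : Module.Finite F (AdjoinRoot p) := (AdjoinRoot.powerBasis hp0).finite
    exact Module.finite_of_finite F
  have hρ : ∀ s : AdjoinRoot p, ∃ g : F[X], s = AdjoinRoot.mk p g ∧
      fusCL_rho p b hpb s = aeval b g := by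
    intro s
    obtain ⟨g, rfl⟩ := AdjoinRoot.mk_surjective s
    exact ⟨g, Eq.refl _, fusCL_rho_mk p b hpb g⟩
  refine ⟨AdjoinRoot p, inferInstance, inferInstance, hfin, fusCL_rho p b hpb, AdjoinRoot.root p,
    ?_, ?_, ?_, ?_⟩
  · show fusCL_rho p b hpb (AdjoinRoot.mk p X) = α + α'
    rw [fusCL_rho_mk, aeval_X]
  · intro s
    obtain ⟨g, rfl⟩ := AdjoinRoot.mk_surjective s
    exact ⟨g, (AdjoinRoot.aeval_eq g).symm⟩
  · intro s
    obtain ⟨g, -, hg⟩ := hρ s
    rw [hg, hcomp g]
    have h1 : aeval α (g.comp (X + X ^ m)) * α = aeval α ((g.comp (X + X ^ m)) * X) := by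
      rw [map_mul, aeval_X]
    have h2 : α * aeval α (g.comp (X + X ^ m)) = aeval α (X * (g.comp (X + X ^ m))) := by
      rw [map_mul, aeval_X]
    rw [h1, h2, mul_comm]
  · intro s u v
    obtain ⟨g, -, hg⟩ := hρ s
    rw [hg]
    exact fusCL_aeval_sa β b hbsa g u v

end Cfsg.Agent.Lib.Helper37.Fus
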