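import Mathlib
import Cfsg.Agent.Lib.Helper37.FusDefs

/-!
# Fus hive (S2720 / S2721), leaf FUS-A : `exists_fixed_anisotropic`
-/

set_option autoImplicit false

namespace Cfsg.Agent.Lib.Helper37.Fus

variable {F : Type*} [Field F] {V : Type*} [AddCommGroup V] [Module F V]

theorem fusA_pow_isometry (B : LinearMap.BilinForm F V) (a : V →ₗ[F] V)
    (ha : ∀ u v, B (a u) (a v) = B u v) (i : ℕ) (u w : V) :
    B ((a ^ i) u) ((a ^ i) w) = B u w := by
  induction i with
  | zero => simp
  | succ i ih =>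
    rw [pow_succ', Module.End.mul_apply, Module.End.mul_apply, ha, ih]

theorem fusA_pow_fixed (a : V →ₗ[F] V) (v : V) (hav : a v = v) (i : ℕ) : (a ^ i) v = v := by
  induction i with
  | zero => simp
  | succ i ih => rw [pow_succ', Module.End.mul_apply, ih, hav]

theorem fusA_sum_fixed (a : V →ₗ[F] V) (n : ℕ) (han : a ^ n = 1) (u : V) :
    a (∑ i ∈ Finset.range n, (a ^ i) u) = ∑ i ∈ Finset.range n, (a ^ i) u := by
  rw [map_sum]
  have h1 : ∑ i ∈ Finset.range n, a ((a ^ i) u) = ∑ i ∈ Finset.range n, (a ^ (i + 1)) u := by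
    apply Finset.sum_congr (Eq.refl _)
    intro i _
    rw [pow_succ', Module.End.mul_apply]
  rw [h1]
  have h2 := Finset.sum_range_succ' (fun i => (a ^ i) u) n
  have h3 := Finset.sum_range_succ (fun i => (a ^ i) u) n
  simp only [pow_zero, Module.End.one_apply] at h2
  rw [han, Module.End.one_apply] at h3
  rw [h3] at h2
  exact (add_right_cancel h2).symm

/-- FUS-A -/
theorem exists_fixed_anisotropic (h2 : (2 : F) ≠ 0) (B : LinearMap.BilinForm F V)
    (hs : ∀ u v, B u v = B v u) (hnd : ∀ u, (∀ v, B u v = 0) → u = 0)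
    (a : V →ₗ[F] V) (ha : ∀ u v, B (a u) (a v) = B u v) (n : ℕ) (hnF : (n : F) ≠ 0)
    (han : a ^ n = 1) (v : V) (hv : v ≠ 0) (hav : a v = v) :
    ∃ w : V, a w = w ∧ B w w ≠ 0 := by
  by_contra hcon
  simp only [not_exists, not_and, not_not] at hcon
  -- polarisation
  have hpol : ∀ w w', a w = w → a w' = w' → B w w' = 0 := by
    intro w w' hw hw'
    have h1 := hcon (w + w') (by rw [map_add, hw, hw'])
    have h3 := hcon w hw
    have h4 := hcon w' hw'
    rw [map_add, map_add, LinearMap.add_apply, LinearMap.add_apply, h3, h4, hs w' w] at h1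
    have h5 : (2 : F) * B w w' = 0 := by linear_combination h1
    rcases mul_eq_zero.1 h5 with h | h
    · exact absurd h h2
    · exact h
  apply hv
  apply hnd
  intro u
  have h1 : B v (∑ i ∈ Finset.range n, (a ^ i) u) = 0 :=
    hpol v _ hav (fusA_sum_fixed a n han u)
  rw [map_sum] at h1
  have h2' : ∑ i ∈ Finset.range n, B v ((a ^ i) u) = ∑ _i ∈ Finset.range n, B v u := by
    apply Finset.sum_congr (Eq.refl _)
    intro i _
    conv_lhs => rw [← fusA_pow_fixed a v hav i]
    exact fusA_pow_isometry B a ha i v u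
  rw [h2', Finset.sum_const, Finset.card_range, nsmul_eq_mul] at h1
  rcases mul_eq_zero.1 h1 with h | h
  · exact absurd h hnF
  · exact h

end Cfsg.Agent.Lib.Helper37.Fus
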