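import Mathlib
import Cfsg.Agent.Lib.Helper37.TwoGenDefs

/-! # S2414 hive (helper37) "Tg": leaf TG-BLOCK (`exists_blockElt`) -/

set_option autoImplicit false

namespace Cfsg.Agent.Lib.Helper37.TwoGen

open Matrix Module QuadraticMap
open Cfsg.Agent.Lib.Helper8 Cfsg.Agent.Lib.Helper13 Cfsg.Agent.Lib.Helper37

section leaves
variable {F : Type*} [Field F]

/-- the last `n` coordinates -/
def tgblock_tl {n : ℕ} (y : Fin (n + 2) → F) : Fin n → F := fun j => y j.succ.succ

/-- `1 ⊕ 1 ⊕ A` on `F^(n+2)` as a function -/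
def tgblock_fun {n : ℕ} (A : Matrix (Fin n) (Fin n) F) (y : Fin (n + 2) → F) : Fin (n + 2) → F :=
  Fin.cons (y 0) (Fin.cons (y 1) (A *ᵥ tgblock_tl y))

theorem tgblock_fun_zero {n : ℕ} (A : Matrix (Fin n) (Fin n) F) (y : Fin (n + 2) → F) :
    tgblock_fun A y 0 = y 0 := rfl

theorem tgblock_fun_one {n : ℕ} (A : Matrix (Fin n) (Fin n) F) (y : Fin (n + 2) → F) :
    tgblock_fun A y 1 = y 1 := by
  unfold tgblock_fun
  rw [← Fin.succ_zero_eq_one, Fin.cons_succ, Fin.cons_zero]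

theorem tgblock_tl_fun {n : ℕ} (A : Matrix (Fin n) (Fin n) F) (y : Fin (n + 2) → F) :
    tgblock_tl (tgblock_fun A y) = A *ᵥ tgblock_tl y := by
  funext j
  show (Fin.cons (y 0) (Fin.cons (y 1) (A *ᵥ tgblock_tl y)) : Fin (n + 2) → F) j.succ.succ = _
  rw [Fin.cons_succ, Fin.cons_succ]

theorem tgblock_ext {n : ℕ} {y z : Fin (n + 2) → F} (h0 : y 0 = z 0) (h1 : y 1 = z 1)
    (ht : tgblock_tl y = tgblock_tl z) : y = z := by
  funext i
  refine Fin.cases h0 (fun i => ?_) i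
  refine Fin.cases ?_ (fun j => ?_) i
  · rw [Fin.succ_zero_eq_one]
    exact h1
  · exact congrFun ht j

theorem tgblock_fun_comp {n : ℕ} (A B : Matrix (Fin n) (Fin n) F) (y : Fin (n + 2) → F) :
    tgblock_fun A (tgblock_fun B y) = tgblock_fun (A * B) y := by
  apply tgblock_ext
  · rw [tgblock_fun_zero, tgblock_fun_zero, tgblock_fun_zero]
  · rw [tgblock_fun_one, tgblock_fun_one, tgblock_fun_one]
  · rw [tgblock_tl_fun, tgblock_tl_fun, tgblock_tl_fun, mulVec_mulVec]

theorem tgblock_fun_id {n : ℕ} (y : Fin (n + 2) → F) :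
    tgblock_fun (1 : Matrix (Fin n) (Fin n) F) y = y := by
  apply tgblock_ext
  · rw [tgblock_fun_zero]
  · rw [tgblock_fun_one]
  · rw [tgblock_tl_fun, one_mulVec]

theorem tgblock_fun_add {n : ℕ} (A : Matrix (Fin n) (Fin n) F) (y z : Fin (n + 2) → F) :
    tgblock_fun A (y + z) = tgblock_fun A y + tgblock_fun A z := by
  apply tgblock_ext
  · rw [Pi.add_apply, tgblock_fun_zero, tgblock_fun_zero, tgblock_fun_zero, Pi.add_apply]
  · rw [Pi.add_apply, tgblock_fun_one, tgblock_fun_one, tgblock_fun_one, Pi.add_apply]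
  · have : ∀ a b : Fin (n + 2) → F, tgblock_tl (a + b) = tgblock_tl a + tgblock_tl b :=
      fun a b => rfl
    rw [this, tgblock_tl_fun, tgblock_tl_fun, tgblock_tl_fun, this, mulVec_add]

theorem tgblock_fun_smul {n : ℕ} (A : Matrix (Fin n) (Fin n) F) (c : F) (y : Fin (n + 2) → F) :
    tgblock_fun A (c • y) = c • tgblock_fun A y := by
  apply tgblock_ext
  · rw [Pi.smul_apply, tgblock_fun_zero, tgblock_fun_zero, Pi.smul_apply]
  · rw [Pi.smul_apply, tgblock_fun_one, tgblock_fun_one, Pi.smul_apply]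
  · have : ∀ (a : F) (b : Fin (n + 2) → F), tgblock_tl (a • b) = a • tgblock_tl b :=
      fun a b => rfl
    rw [this, tgblock_tl_fun, tgblock_tl_fun, this, mulVec_smul]

/-- the sum over `Fin (n+2)` of the products of the coordinates of two block images -/
theorem tgblock_sum {n : ℕ} (A A' : Matrix (Fin n) (Fin n) F) (h : A'ᵀ * A = 1)
    (a b : Fin (n + 2) → F) :
    ∑ i, tgblock_fun A a i * tgblock_fun A' b i = ∑ i, a i * b i := by
  rw [Fin.sum_univ_succ, Fin.sum_univ_succ, Fin.sum_univ_succ (fun i => a i * b i),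
    Fin.sum_univ_succ (fun i : Fin (n + 1) => a i.succ * b i.succ)]
  rw [tgblock_fun_zero, tgblock_fun_zero, Fin.succ_zero_eq_one, tgblock_fun_one, tgblock_fun_one]
  congr 2
  have h1 : ∀ j : Fin n, tgblock_fun A a j.succ.succ = (A *ᵥ tgblock_tl a) j := by
    intro j
    exact congrFun (tgblock_tl_fun A a) j
  have h2 : ∀ j : Fin n, tgblock_fun A' b j.succ.succ = (A' *ᵥ tgblock_tl b) j := by
    intro j
    exact congrFun (tgblock_tl_fun A' b) j
  simp only [h1, h2]
  show (A *ᵥ tgblock_tl a) ⬝ᵥ (A' *ᵥ tgblock_tl b) = tgblock_tl a ⬝ᵥ tgblock_tl b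
  rw [dotProduct_mulVec, ← mulVec_transpose, mulVec_mulVec, h, one_mulVec]

theorem tgblock_plusForm_apply (m : ℕ) (z : Fin m ⊕ Fin m → F) :
    plusForm m F z = ∑ i : Fin m, z (Sum.inl i) * z (Sum.inr i) := by
  rw [← plusForm_coe]
  rfl

/-- the block map on the whole space -/
def tgblock_lin {n : ℕ} (A A' : Matrix (Fin n) (Fin n) F) :
    (Fin (n + 2) ⊕ Fin (n + 2) → F) →ₗ[F] (Fin (n + 2) ⊕ Fin (n + 2) → F) where
  toFun x := Sum.elim (tgblock_fun A (fun i => x (Sum.inl i))) (tgblock_fun A' (fun i => x (Sum.inr i)))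
  map_add' x y := by
    funext s
    rcases s with i | i
    · show tgblock_fun A ((fun i => x (Sum.inl i)) + (fun i => y (Sum.inl i))) i = _
      rw [tgblock_fun_add]
      rfl
    · show tgblock_fun A' ((fun i => x (Sum.inr i)) + (fun i => y (Sum.inr i))) i = _
      rw [tgblock_fun_add]
      rfl
  map_smul' c x := by
    funext s
    rcases s with i | i
    · show tgblock_fun A (c • (fun i => x (Sum.inl i))) i = _
      rw [tgblock_fun_smul]
      rfl
    · show tgblock_fun A' (c • (fun i => x (Sum.inr i))) i = _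
      rw [tgblock_fun_smul]
      rfl

theorem tgblock_lin_apply {n : ℕ} (A A' : Matrix (Fin n) (Fin n) F)
    (x : Fin (n + 2) ⊕ Fin (n + 2) → F) :
    tgblock_lin A A' x = Sum.elim (tgblock_fun A (fun i => x (Sum.inl i)))
      (tgblock_fun A' (fun i => x (Sum.inr i))) := rfl

theorem tgblock_lin_comp {n : ℕ} (A A' B B' : Matrix (Fin n) (Fin n) F) (hA : A * B = 1)
    (hA' : A' * B' = 1) : tgblock_lin A A' ∘ₗ tgblock_lin B B' = LinearMap.id := by
  apply LinearMap.ext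
  intro x
  rw [LinearMap.comp_apply, LinearMap.id_apply, tgblock_lin_apply, tgblock_lin_apply]
  funext s
  rcases s with i | i
  · simp only [Sum.elim_inl]
    rw [tgblock_fun_comp, hA, tgblock_fun_id]
  · simp only [Sum.elim_inr]
    rw [tgblock_fun_comp, hA', tgblock_fun_id]

theorem tgblock_lin_elim {n : ℕ} (A A' : Matrix (Fin n) (Fin n) F) (a b : Fin (n + 2) → F) :
    tgblock_lin A A' (Sum.elim a b) = Sum.elim (tgblock_fun A a) (tgblock_fun A' b) := rfl

theorem tgblock_fun_map_zero {n : ℕ} (A : Matrix (Fin n) (Fin n) F) :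
    tgblock_fun A (0 : Fin (n + 2) → F) = 0 := by
  have := tgblock_fun_smul A (0 : F) (0 : Fin (n + 2) → F)
  rw [zero_smul, zero_smul] at this
  exact this

theorem tgblock_fun_single_zero {n : ℕ} (A : Matrix (Fin n) (Fin n) F) :
    tgblock_fun A (Pi.single 0 (1 : F)) = Pi.single 0 1 := by
  apply tgblock_ext
  · rw [tgblock_fun_zero]
  · rw [tgblock_fun_one]
  · have : tgblock_tl (Pi.single (0 : Fin (n + 2)) (1 : F)) = 0 := by
      funext j
      show Pi.single (0 : Fin (n + 2)) (1 : F) j.succ.succ = 0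
      exact Pi.single_eq_of_ne (Fin.succ_ne_zero _) _
    rw [tgblock_tl_fun, this, mulVec_zero]

theorem tgblock_fun_single_one {n : ℕ} (A : Matrix (Fin n) (Fin n) F) :
    tgblock_fun A (Pi.single 1 (1 : F)) = Pi.single 1 1 := by
  apply tgblock_ext
  · rw [tgblock_fun_zero]
  · rw [tgblock_fun_one]
  · have : tgblock_tl (Pi.single (1 : Fin (n + 2)) (1 : F)) = 0 := by
      funext j
      show Pi.single (1 : Fin (n + 2)) (1 : F) j.succ.succ = 0
      exact Pi.single_eq_of_ne (Fin.succ_succ_ne_one _) _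
    rw [tgblock_tl_fun, this, mulVec_zero]

theorem tgblock_fun_cons {n : ℕ} (A : Matrix (Fin n) (Fin n) F) (v : Fin n → F) :
    tgblock_fun A (Fin.cons 0 (Fin.cons 0 v) : Fin (n + 2) → F)
      = (Fin.cons 0 (Fin.cons 0 (A *ᵥ v)) : Fin (n + 2) → F) := by
  have h0 : (Fin.cons 0 (Fin.cons 0 v) : Fin (n + 2) → F) 0 = 0 := rfl
  have h1 : (Fin.cons 0 (Fin.cons 0 v) : Fin (n + 2) → F) 1 = 0 := by
    rw [← Fin.succ_zero_eq_one, Fin.cons_succ, Fin.cons_zero]
  have ht : tgblock_tl (Fin.cons 0 (Fin.cons 0 v) : Fin (n + 2) → F) = v := by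
    funext j
    show (Fin.cons 0 (Fin.cons 0 v) : Fin (n + 2) → F) j.succ.succ = v j
    rw [Fin.cons_succ, Fin.cons_succ]
  unfold tgblock_fun
  rw [h0, h1, ht]

/-- the block element of `GL` -/
noncomputable def tgblock_gl {n : ℕ} (A A' : Matrix (Fin n) (Fin n) F) (h : A * A'ᵀ = 1) :
    GL (Fin (n + 2) ⊕ Fin (n + 2)) F :=
  ⟨LinearMap.toMatrix' (tgblock_lin A A'), LinearMap.toMatrix' (tgblock_lin A'ᵀ Aᵀ), by
    rw [← LinearMap.toMatrix'_comp, tgblock_lin_comp A A' A'ᵀ Aᵀ h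
      (by
        have := congrArg transpose h
        rwa [transpose_mul, transpose_transpose, transpose_one] at this),
      LinearMap.toMatrix'_id], by
    rw [← LinearMap.toMatrix'_comp, tgblock_lin_comp A'ᵀ Aᵀ A A' (mul_eq_one_comm.mp h)
      (by
        have := congrArg transpose (mul_eq_one_comm.mp h)
        rwa [transpose_mul, transpose_transpose, transpose_one] at this),
      LinearMap.toMatrix'_id]⟩

theorem tgblock_gl_mulVec {n : ℕ} (A A' : Matrix (Fin n) (Fin n) F) (h : A * A'ᵀ = 1)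
    (x : Fin (n + 2) ⊕ Fin (n + 2) → F) :
    ((tgblock_gl A A' h : GL (Fin (n + 2) ⊕ Fin (n + 2)) F) :
      Matrix (Fin (n + 2) ⊕ Fin (n + 2)) (Fin (n + 2) ⊕ Fin (n + 2)) F) *ᵥ x
      = tgblock_lin A A' x :=
  LinearMap.toMatrix'_mulVec _ _

theorem tgblock_gl_mem {n : ℕ} (A A' : Matrix (Fin n) (Fin n) F) (h : A * A'ᵀ = 1) :
    tgblock_gl A A' h ∈ Cfsg.isometryGroup F ⇑(plusForm (n + 2) F) := by
  intro u _
  show plusForm (n + 2) F (((tgblock_gl A A' h : GL (Fin (n + 2) ⊕ Fin (n + 2)) F) :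
      Matrix (Fin (n + 2) ⊕ Fin (n + 2)) (Fin (n + 2) ⊕ Fin (n + 2)) F) *ᵥ u)
    = plusForm (n + 2) F u
  rw [tgblock_gl_mulVec, tgblock_plusForm_apply, tgblock_plusForm_apply, tgblock_lin_apply]
  simp only [Sum.elim_inl, Sum.elim_inr]
  exact tgblock_sum A A' (mul_eq_one_comm.mp h) _ _

/-- TG-BLOCK: the block-diagonal isometry `1 ⊕ 1 ⊕ A` on `e`'s, `1 ⊕ 1 ⊕ A'` on `f`'s. -/
theorem exists_blockElt (n : ℕ) (A A' : Matrix (Fin n) (Fin n) F) (h : A * A'ᵀ = 1) :
    ∃ X : ↥(Cfsg.isometryGroup F ⇑(plusForm (n + 2) F)),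
      act (plusForm (n + 2) F) X (pe1 F n) = pe1 F n ∧
      act (plusForm (n + 2) F) X (pf1 F n) = pf1 F n ∧
      act (plusForm (n + 2) F) X (pe2 F n) = pe2 F n ∧
      act (plusForm (n + 2) F) X (pf2 F n) = pf2 F n ∧
      (∀ v, act (plusForm (n + 2) F) X (pM F n v) = pM F n (A *ᵥ v)) ∧
      (∀ v, act (plusForm (n + 2) F) X (pM' F n v) = pM' F n (A' *ᵥ v)) := by
  have hact : ∀ x, act (plusForm (n + 2) F) ⟨tgblock_gl A A' h, tgblock_gl_mem A A' h⟩ x
      = tgblock_lin A A' x := fun x => tgblock_gl_mulVec A A' h x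
  refine ⟨⟨tgblock_gl A A' h, tgblock_gl_mem A A' h⟩, ?_, ?_, ?_, ?_, ?_, ?_⟩
  · rw [hact]
    unfold pe1
    rw [← Sum.elim_single_zero, tgblock_lin_elim, tgblock_fun_single_zero, tgblock_fun_map_zero]
  · rw [hact]
    unfold pf1
    rw [← Sum.elim_zero_single, tgblock_lin_elim, tgblock_fun_single_zero, tgblock_fun_map_zero]
  · rw [hact]
    unfold pe2
    rw [← Sum.elim_single_zero, tgblock_lin_elim, tgblock_fun_single_one, tgblock_fun_map_zero]
  · rw [hact]
    unfold pf2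
    rw [← Sum.elim_zero_single, tgblock_lin_elim, tgblock_fun_single_one, tgblock_fun_map_zero]
  · intro v
    rw [hact]
    show tgblock_lin A A' (Sum.elim (Fin.cons 0 (Fin.cons 0 v)) (0 : Fin (n + 2) → F))
      = Sum.elim (Fin.cons 0 (Fin.cons 0 (A *ᵥ v))) (0 : Fin (n + 2) → F)
    rw [tgblock_lin_elim, tgblock_fun_cons, tgblock_fun_map_zero]
  · intro v
    rw [hact]
    show tgblock_lin A A' (Sum.elim (0 : Fin (n + 2) → F) (Fin.cons 0 (Fin.cons 0 v)))
      = Sum.elim (0 : Fin (n + 2) → F) (Fin.cons 0 (Fin.cons 0 (A' *ᵥ v)))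
    rw [tgblock_lin_elim, tgblock_fun_cons, tgblock_fun_map_zero]

end leaves

end Cfsg.Agent.Lib.Helper37.TwoGen
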