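import Mathlib
import Cfsg.Agent.Lib.Helper41.StnDefs
import Cfsg.Agent.Lib.Helper95.Stn_WWW

/-! # Stn hive (S2401, helper41): leaf STN-W-SYMM (`ww_symm`) -/

set_option autoImplicit false

namespace Cfsg.Agent.Lib.Helper41.Stn

open Matrix

variable {K : Type*} [Field K] {n : ℕ}

/-- STN-W-SYMM: `w_ji(t) = w_ij(-t⁻¹)`. -/
theorem ww_symm (hn : 3 ≤ n) {i j : Fin n} (hij : i ≠ j) {t : K} (ht : t ≠ 0) :
    ww j i t = ww i j (-t⁻¹) := by
  have hs : (-t⁻¹ : K) ≠ 0 := neg_ne_zero.mpr (inv_ne_zero ht)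
  have h1 := ww_conj_ww hn hij hs hij hs
  rw [Equiv.swap_apply_left, Equiv.swap_apply_right, wall_mu_left, wall_mu_right hij,
    mul_inv_cancel_right] at h1
  have h2 : -(-t⁻¹)⁻¹ / -t⁻¹ * -t⁻¹ = t := by
    field_simp
  rw [h2] at h1
  exact h1.symm

end Cfsg.Agent.Lib.Helper41.Stn
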