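import Mathlib
import Cfsg.Agent.Lib.Helper39.OoDefs

/-!
# S2547 hive (OO), cores of the leaves CONJA / CONJB / CONJNE (helper95)

The cores take the leaves MONO (`mono_orth`), ROOTA (`exists_xA`), ROOTB (`exists_xB`) as hypotheses.
-/

set_option autoImplicit false
set_option linter.unusedVariables false

namespace Cfsg.Agent.Lib.Helper39.OoBN

open Matrix Cfsg

variable {F : Type*} [Field F] {m : ℕ}

/-- entries of a matrix sandwiched between two monomial matrices -/
theorem conja_mul_mul_apply {S S' X : Matrix (Idx m) (Idx m) F} {σ σ' : Equiv.Perm (Idx m)}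
    {c c' : Idx m → F} (hS : IsMonoG S σ c) (hS' : IsMonoG S' σ' c') (u v : Idx m) :
    (S * X * S') u v = c (σ.symm u) * X (σ.symm u) (σ' v) * c' v := by
  rw [Matrix.mul_apply, Finset.sum_eq_single (σ' v)]
  · rw [Matrix.mul_apply, Finset.sum_eq_single (σ.symm u)]
    · rw [hS u (σ.symm u), hS' (σ' v) v, if_pos (by simp), if_pos (Eq.refl _)]
    · intro r _ hr
      rw [hS u r, if_neg, zero_mul]
      intro h
      apply hr
      rw [h]; simp
    · intro h; exact absurd (Finset.mem_univ _) h
  · intro w _ hw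
    rw [hS' w v, if_neg hw, mul_zero]
  · intro h; exact absurd (Finset.mem_univ _) h

theorem conja_rk_bar (a : Idx m) : rk (bar a) + rk a = 2 * m := by
  rcases a with u | i | i
  · show m + m = 2 * m
    ring
  · show 2 * m - (i : ℕ) + (i : ℕ) = 2 * m
    have := i.2
    omega
  · show (i : ℕ) + (2 * m - (i : ℕ)) = 2 * m
    have := i.2
    omega

/-- a conjugate `n⁻¹ x n` by a monomial `n` lies in `B` as soon as `x` vanishes at the `π`-images of the
positions below the diagonal -/
theorem conja_conj_mem {n x : OG F m} {π : Equiv.Perm (Idx m)} {d : Idx m → F}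
    (hn : IsMonoG (mat n) π d)
    (h : ∀ u v : Idx m, rk v < rk u → mat x (π u) (π v) = 0) :
    n⁻¹ * x * n ∈ Bo F m := by
  rw [mem_Bo_iff]
  intro u v huv
  rw [mat_mul, mat_mul, conja_mul_mul_apply (isMonoG_inv (mat_inv_mul n) hn) hn, Equiv.symm_symm,
    h u v huv, mul_zero, zero_mul]

/-- entries of the root element with two off-diagonal entries -/
theorem conja_root_apply_eq_zero (a b a' b' : Idx m) (t : F) {r s : Idx m} (hrs : r ≠ s)
    (h1 : ¬ (r = a ∧ s = b)) (h2 : ¬ (r = a' ∧ s = b')) :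
    (1 + t • Matrix.single a b (1 : F) - t • Matrix.single a' b' (1 : F) :
      Matrix (Idx m) (Idx m) F) r s = 0 := by
  rw [Matrix.sub_apply, Matrix.add_apply, Matrix.one_apply_ne hrs, Matrix.smul_apply,
    Matrix.smul_apply, Matrix.single_apply, Matrix.single_apply, if_neg, if_neg]
  · simp
  · rintro ⟨h3, h4⟩; exact h2 ⟨h3.symm, h4.symm⟩
  · rintro ⟨h3, h4⟩; exact h1 ⟨h3.symm, h4.symm⟩

/-- core of CONJA, with the consequences of MONO as hypotheses -/
theorem conja_core {k k' : Fin m} (hkk : k ≠ k') (n : OG F m) {π : Equiv.Perm (Idx m)} {d : Idx m → F}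
    (hn : IsMonoG (mat n) π d) (hπ : ∀ a, π (bar a) = bar (π a)) :
    (∀ x ∈ XA F m k k', n⁻¹ * x * n ∈ Bo F m) ∨ (∀ y ∈ XA F m k' k, n⁻¹ * y * n ∈ Bo F m) := by
  obtain ⟨p, hp⟩ : ∃ p, π p = xi k := ⟨π.symm (xi k), by simp⟩
  obtain ⟨q, hq⟩ : ∃ q, π q = xi k' := ⟨π.symm (xi k'), by simp⟩
  have hp' : π (bar p) = yi k := by rw [hπ, hp]; exact Eq.refl _
  have hq' : π (bar q) = yi k' := by rw [hπ, hq]; exact Eq.refl _
  have hbp := conja_rk_bar p
  have hbq := conja_rk_bar q
  by_cases hpq : rk q < rk p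
  · right
    rintro x ⟨t, hx⟩
    apply conja_conj_mem hn
    intro u v huv
    rw [hx]
    apply conja_root_apply_eq_zero
    · intro h
      rw [π.injective h] at huv
      exact lt_irrefl _ huv
    · rintro ⟨h1, h2⟩
      rw [← hq] at h1; rw [← hp] at h2
      rw [π.injective h1, π.injective h2] at huv
      omega
    · rintro ⟨h1, h2⟩
      rw [← hp'] at h1; rw [← hq'] at h2
      rw [π.injective h1, π.injective h2] at huv
      omega
  · left
    rintro x ⟨t, hx⟩
    apply conja_conj_mem hn
    intro u v huv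
    rw [hx]
    apply conja_root_apply_eq_zero
    · intro h
      rw [π.injective h] at huv
      exact lt_irrefl _ huv
    · rintro ⟨h1, h2⟩
      rw [← hp] at h1; rw [← hq] at h2
      rw [π.injective h1, π.injective h2] at huv
      omega
    · rintro ⟨h1, h2⟩
      rw [← hq'] at h1; rw [← hp'] at h2
      rw [π.injective h1, π.injective h2] at huv
      omega

/-- entries of the short root element (three off-diagonal entries) -/
theorem conjb_root_apply_eq_zero (a b c : Idx m) (t₁ t₂ t₃ : F) {r s : Idx m} (hrs : r ≠ s)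
    (h1 : ¬ (r = a ∧ s = b)) (h2 : ¬ (r = b ∧ s = c)) (h3 : ¬ (r = a ∧ s = c)) :
    (1 + t₁ • Matrix.single a b (1 : F) - t₂ • Matrix.single b c (1 : F)
      - t₃ • Matrix.single a c (1 : F) : Matrix (Idx m) (Idx m) F) r s = 0 := by
  rw [Matrix.sub_apply, Matrix.sub_apply, Matrix.add_apply, Matrix.one_apply_ne hrs,
    Matrix.smul_apply, Matrix.smul_apply, Matrix.smul_apply, Matrix.single_apply,
    Matrix.single_apply, Matrix.single_apply, if_neg, if_neg, if_neg]
  · simp
  · rintro ⟨h4, h5⟩; exact h3 ⟨h4.symm, h5.symm⟩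
  · rintro ⟨h4, h5⟩; exact h2 ⟨h4.symm, h5.symm⟩
  · rintro ⟨h4, h5⟩; exact h1 ⟨h4.symm, h5.symm⟩

/-- core of CONJB, with the consequences of MONO as hypotheses -/
theorem conjb_core (k : Fin m) (n : OG F m) {π : Equiv.Perm (Idx m)} {d : Idx m → F}
    (hn : IsMonoG (mat n) π d) (h0 : π e0 = e0) (hπ : ∀ a, π (bar a) = bar (π a)) :
    (∀ x ∈ XB F m k, n⁻¹ * x * n ∈ Bo F m) ∨ (∀ y ∈ XBm F m k, n⁻¹ * y * n ∈ Bo F m) := by
  obtain ⟨p, hp⟩ : ∃ p, π p = xi k := ⟨π.symm (xi k), by simp⟩
  have hp' : π (bar p) = yi k := by rw [hπ, hp]; exact Eq.refl _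
  have hbp := conja_rk_bar p
  have hre0 : rk (e0 : Idx m) = m := Eq.refl _
  by_cases hpm : rk p ≤ m
  · left
    rintro x ⟨t, hx⟩
    apply conja_conj_mem hn
    intro u v huv
    rw [hx]
    apply conjb_root_apply_eq_zero
    · intro h
      rw [π.injective h] at huv
      exact lt_irrefl _ huv
    · rintro ⟨h1, h2⟩
      rw [← hp] at h1; rw [← h0] at h2
      rw [π.injective h1, π.injective h2] at huv
      omega
    · rintro ⟨h1, h2⟩
      rw [← h0] at h1; rw [← hp'] at h2
      rw [π.injective h1, π.injective h2] at huv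
      omega
    · rintro ⟨h1, h2⟩
      rw [← hp] at h1; rw [← hp'] at h2
      rw [π.injective h1, π.injective h2] at huv
      omega
  · right
    rintro x ⟨t, hx⟩
    apply conja_conj_mem hn
    intro u v huv
    rw [hx]
    apply conjb_root_apply_eq_zero
    · intro h
      rw [π.injective h] at huv
      exact lt_irrefl _ huv
    · rintro ⟨h1, h2⟩
      rw [← hp'] at h1; rw [← h0] at h2
      rw [π.injective h1, π.injective h2] at huv
      omega
    · rintro ⟨h1, h2⟩
      rw [← h0] at h1; rw [← hp] at h2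
      rw [π.injective h1, π.injective h2] at huv
      omega
    · rintro ⟨h1, h2⟩
      rw [← hp'] at h1; rw [← hp] at h2
      rw [π.injective h1, π.injective h2] at huv
      omega

/-- core of CONJNE: given the root elements `x_A(1)`, `x_B(1)` -/
theorem conjne_core (h2 : (2 : F) ≠ 0)
    (hA : ∀ (k k' : Fin m), k ≠ k' → ∀ t : F,
      ∃ g : OG F m, mat g = 1 + t • Matrix.single (xi k) (xi k') (1 : F)
        - t • Matrix.single (yi k') (yi k) (1 : F))
    (hB : ∀ (k : Fin m) (t : F),
      ∃ g : OG F m, mat g = 1 + (2 * t) • Matrix.single (xi k) e0 (1 : F)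
        - t • Matrix.single e0 (yi k) (1 : F) - (t ^ 2) • Matrix.single (xi k) (yi k) (1 : F)) :
    ∀ s ∈ So F m,
      (fun b : OG F m => s * b * s) '' (Bo F m : Set (OG F m)) ≠ (Bo F m : Set (OG F m)) := by
  rintro s ⟨σ, hσ, hs⟩ heq
  have hsmono : IsMonoG (mat s) σ (fun _ => 1) := by rw [hs]; exact permMat_isMonoG σ
  -- it suffices to find `b ∈ B` with `s b s ∉ B`
  suffices h : ∃ b ∈ Bo F m, s * b * s ∉ Bo F m by
    obtain ⟨b, hb, hsb⟩ := h
    apply hsb
    have : s * b * s ∈ (fun b : OG F m => s * b * s) '' (Bo F m : Set (OG F m)) := ⟨b, hb, Eq.refl _⟩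
    rw [heq] at this
    exact this
  have hentry : ∀ (b : OG F m) (u v : Idx m), mat (s * b * s) u v = mat b (σ.symm u) (σ v) := by
    intro b u v
    rw [mat_mul, mat_mul, conja_mul_mul_apply hsmono hsmono, one_mul, mul_one]
  rcases hσ with ⟨k, k', hkk, rfl⟩ | ⟨k, hk, rfl⟩
  · have hne : k ≠ k' := by
      intro h; rw [h] at hkk; omega
    obtain ⟨b, hb⟩ := hA k k' hne 1
    have hne' : xi k ≠ (xi k' : Idx m) := by
      intro h; apply hne; simpa [xi] using h
    have hσ1 : (simpleA k k').symm (xi k') = xi k := by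
      rw [Equiv.symm_apply_eq]
      simp [simpleA, xi, yi, Equiv.swap_apply_def]
    have hσ2 : (simpleA k k') (xi k) = xi k' := by
      simp [simpleA, xi, yi, Equiv.swap_apply_def]
    refine ⟨b, ?_, ?_⟩
    · rw [mem_Bo_iff]
      intro u v huv
      rw [hb]
      apply conja_root_apply_eq_zero
      · intro h; rw [h] at huv; exact lt_irrefl _ huv
      · rintro ⟨rfl, rfl⟩
        simp only [rk_xi] at huv
        omega
      · rintro ⟨rfl, rfl⟩
        simp only [rk_yi] at huv
        have := k.2; have := k'.2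
        omega
    · intro hmem
      rw [mem_Bo_iff] at hmem
      have h1 := hmem (xi k') (xi k) (by simp only [rk_xi]; omega)
      rw [hentry, hσ1, hσ2, hb] at h1
      have e1 : (Matrix.single (xi k) (xi k') (1 : F)) (xi k) (xi k') = 1 :=
        Matrix.single_apply_same _ _ _
      have e2 : (Matrix.single (yi k') (yi k) (1 : F)) (xi k) (xi k') = 0 := by
        rw [Matrix.single_apply, if_neg]
        rintro ⟨h, -⟩
        simp [xi, yi] at h
      rw [Matrix.sub_apply, Matrix.add_apply, Matrix.one_apply_ne hne', Matrix.smul_apply,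
        Matrix.smul_apply, e1, e2] at h1
      simp at h1
  · obtain ⟨b, hb⟩ := hB k 1
    have hσ1 : (simpleB k).symm (yi k) = xi k := by
      rw [Equiv.symm_apply_eq]
      simp [simpleB, xi, yi]
    have hσ2 : (simpleB k) e0 = e0 := by
      simp [simpleB, xi, yi, e0, Equiv.swap_apply_def]
    refine ⟨b, ?_, ?_⟩
    · rw [mem_Bo_iff]
      intro u v huv
      rw [hb]
      apply conjb_root_apply_eq_zero
      · intro h; rw [h] at huv; exact lt_irrefl _ huv
      · rintro ⟨rfl, rfl⟩
        simp only [rk_xi, rk_e0] at huv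
        have := k.2
        omega
      · rintro ⟨rfl, rfl⟩
        simp only [rk_yi, rk_e0] at huv
        have := k.2
        omega
      · rintro ⟨rfl, rfl⟩
        simp only [rk_xi, rk_yi] at huv
        have := k.2
        omega
    · intro hmem
      rw [mem_Bo_iff] at hmem
      have h1 := hmem (yi k) e0 (by simp only [rk_yi, rk_e0]; have := k.2; omega)
      rw [hentry, hσ1, hσ2, hb] at h1
      simp [Matrix.sub_apply, Matrix.add_apply, xi, yi, e0] at h1
      exact h2 h1

end Cfsg.Agent.Lib.Helper39.OoBN
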