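import Mathlib
import Cfsg.Agent.Lib.Helper39.OoDefs
import Cfsg.Agent.Lib.Helper95.OoCONJcore
import Cfsg.Agent.Lib.Helper13.OoMONO

/-!
# S2547 hive (OO), leaf CONJB : `conjB`
-/

set_option autoImplicit false

namespace Cfsg.Agent.Lib.Helper39.OoBN

open Matrix Cfsg

variable {F : Type*} [Field F] {m : ℕ}

/-- LEAF CONJB -/
theorem conjB (h2 : (2 : F) ≠ 0) (k : Fin m) :
    ∀ n ∈ No F m, (∀ x ∈ XB F m k, n⁻¹ * x * n ∈ Bo F m) ∨
      (∀ y ∈ XBm F m k, n⁻¹ * y * n ∈ Bo F m) := by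
  rintro n ⟨π, d, hn⟩
  have hm := mono_orth h2 n hn
  exact conjb_core k n hn hm.1 hm.2.1

end Cfsg.Agent.Lib.Helper39.OoBN
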