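import Mathlib
import Cfsg.Agent.Lib.Helper39.OoDefs
import Cfsg.Agent.Lib.Helper95.OoCONJcore
import Cfsg.Agent.Lib.Helper85.OoROOTA
import Cfsg.Agent.Lib.Helper85.OoROOTB

/-!
# S2547 hive (OO), leaf CONJNE : `S_conj_ne`
-/

set_option autoImplicit false

namespace Cfsg.Agent.Lib.Helper39.OoBN

open Matrix Cfsg

variable {F : Type*} [Field F] {m : ℕ}

/-- LEAF CONJNE -/
theorem S_conj_ne (h2 : (2 : F) ≠ 0) : ∀ s ∈ So F m,
    (fun b : OG F m => s * b * s) '' (Bo F m : Set (OG F m)) ≠ (Bo F m : Set (OG F m)) :=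
  conjne_core h2 (fun k k' hkk t => exists_xA k k' hkk t) (fun k t => exists_xB k t)

end Cfsg.Agent.Lib.Helper39.OoBN
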