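import Mathlib
import Cfsg.Agent.Lib.Helper17.NormCent

set_option autoImplicit false
set_option linter.style.haveILetI false

/-! Simplicity criteria for permutation groups: prime degree (Sylow/Frattini/Burnside) and
2-transitive groups with simple point stabilizer. -/

namespace Cfsg.Agent.Lib.Helper95

open MulAction Subgroup

section PrimeDegree

variable {G X : Type*} [Group G] [MulAction G X]

/-- A faithful action on `p` points of a group containing an element of order `p` is transitive. -/
theorem isPretransitive_of_orderOf_eq_card [FaithfulSMul G X] {p : ℕ} (hp : p.Prime)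
    (hX : Nat.card X = p) (h : G) (hh : orderOf h = p) : IsPretransitive G X := by
  have hfin : Finite X := Nat.finite_of_card_ne_zero (by rw [hX]; exact hp.ne_zero)
  have h1 : h ≠ 1 := by
    intro h1
    rw [h1, orderOf_one] at hh
    exact hp.one_lt.ne hh
  obtain ⟨x, hx⟩ : ∃ x : X, h • x ≠ x := by
    by_contra hcon
    push Not at hcon
    apply h1
    apply FaithfulSMul.eq_of_smul_eq_smul (α := X)
    intro a
    rw [hcon a, one_smul]
  have hdvd : (orbit (zpowers h) x).ncard ∣ p := by
    rw [← index_stabilizer]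
    have := Subgroup.index_dvd_card (stabilizer (zpowers h) x)
    rwa [Nat.card_zpowers, hh] at this
  have hmem : h • x ∈ orbit (zpowers h) x := ⟨⟨h, mem_zpowers h⟩, rfl⟩
  have hne1 : (orbit (zpowers h) x).ncard ≠ 1 := by
    intro h1'
    obtain ⟨a, ha⟩ := Set.ncard_eq_one.mp h1'
    have hx1 : x ∈ orbit (zpowers h) x := mem_orbit_self x
    rw [ha] at hmem hx1
    exact hx (hmem.trans hx1.symm)
  have hcard : (orbit (zpowers h) x).ncard = Nat.card X := by
    rw [hX]
    exact ((Nat.dvd_prime hp).mp hdvd).resolve_left hne1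
  have huniv : orbit (zpowers h) x = Set.univ := (Set.eq_univ_iff_ncard _).mpr hcard
  refine ⟨fun a b => ?_⟩
  have ha : a ∈ orbit (zpowers h) x := huniv ▸ Set.mem_univ a
  have hb : b ∈ orbit (zpowers h) x := huniv ▸ Set.mem_univ b
  obtain ⟨z1, rfl⟩ := ha
  obtain ⟨z2, rfl⟩ := hb
  refine ⟨(z2 : G) * (z1 : G)⁻¹, ?_⟩
  show ((z2 : G) * (z1 : G)⁻¹) • ((z1 : G) • x) = (z2 : G) • x
  rw [smul_smul, inv_mul_cancel_right]

/-- In a faithful transitive action of prime degree, a normal subgroup is trivial or has order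
divisible by `p`. -/
theorem normal_eq_bot_or_dvd_card [Finite G] [FaithfulSMul G X] [IsPretransitive G X] {p : ℕ}
    (hp : p.Prime) (hX : Nat.card X = p) (N : Subgroup G) [N.Normal] :
    N = ⊥ ∨ p ∣ Nat.card N := by
  have hfin : Finite X := Nat.finite_of_card_ne_zero (by rw [hX]; exact hp.ne_zero)
  have hne : Nonempty X := by
    rw [← Finite.card_pos_iff, hX]; exact hp.pos
  haveI : IsPreprimitive G X := IsPreprimitive.of_prime_card (hX ▸ hp)
  by_cases hN : N = ⊥
  · exact Or.inl hN
  right
  obtain ⟨⟨n, hnN⟩, hn1'⟩ := (Subgroup.ne_bot_iff_exists_ne_one).mp hN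
  have hn1 : n ≠ 1 := fun h => hn1' (Subtype.ext h)
  obtain ⟨x, hx⟩ : ∃ x : X, n • x ≠ x := by
    by_contra hcon
    push Not at hcon
    apply hn1
    apply FaithfulSMul.eq_of_smul_eq_smul (α := X)
    intro a
    rw [hcon a, one_smul]
  have hfp : fixedPoints N X ≠ Set.univ := by
    intro hu
    have : x ∈ fixedPoints N X := hu ▸ Set.mem_univ x
    exact hx (this ⟨n, hnN⟩)
  haveI : IsPretransitive N X := IsQuasiPreprimitive.isPretransitive_of_normal hfp
  obtain ⟨x0⟩ := hne
  have h1 := index_stabilizer_of_transitive N x0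
  have h2 := Subgroup.index_dvd_card (stabilizer N x0)
  rw [h1, hX] at h2
  exact h2

/-- A subgroup of order `p` acting faithfully on `p` points is self-centralizing. -/
theorem centralizer_eq_of_card_eq_prime [Finite G] [FaithfulSMul G X] {p : ℕ} (hp : p.Prime)
    (hX : Nat.card X = p) (P : Subgroup G) (hP : Nat.card P = p) :
    centralizer (P : Set G) = P := by
  have hfin : Finite X := Nat.finite_of_card_ne_zero (by rw [hX]; exact hp.ne_zero)
  have hne : Nonempty X := by
    rw [← Finite.card_pos_iff, hX]; exact hp.pos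
  haveI : Fact p.Prime := ⟨hp⟩
  haveI : IsCyclic P := isCyclic_of_prime_card hP
  have hcomm : ∀ a ∈ P, ∀ b ∈ P, a * b = b * a := by
    intro a ha b hb
    have := mul_comm' (⟨a, ha⟩ : P) ⟨b, hb⟩
    exact congrArg Subtype.val this
  have hle : P ≤ centralizer (P : Set G) := by
    intro a ha
    rw [mem_centralizer_iff]
    intro b hb
    exact hcomm b hb a ha
  obtain ⟨h, hh⟩ := exists_prime_orderOf_dvd_card' (G := P) p (by rw [hP])
  haveI : IsPretransitive P X := isPretransitive_of_orderOf_eq_card hp hX h hh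
  obtain ⟨x0⟩ := hne
  have hinj : Function.Injective (fun c : centralizer (P : Set G) => (c : G) • x0) := by
    intro c c' hcc
    apply Subtype.ext
    apply FaithfulSMul.eq_of_smul_eq_smul (α := X)
    intro y
    obtain ⟨a, rfl⟩ := exists_smul_eq P x0 y
    have hc := (mem_centralizer_iff.mp c.2) a a.2
    have hc' := (mem_centralizer_iff.mp c'.2) a a.2
    show (c : G) • ((a : G) • x0) = (c' : G) • ((a : G) • x0)
    rw [smul_smul, smul_smul, ← hc, ← hc', ← smul_smul, ← smul_smul]
    exact congrArg (fun z => (a : G) • z) hcc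
  have hcard : Nat.card (centralizer (P : Set G)) ≤ Nat.card P := by
    rw [hP, ← hX]
    exact Nat.card_le_card_of_injective _ hinj
  exact (Subgroup.eq_of_le_of_card_ge hle hcard).symm

/-- Sylow arithmetic in prime degree: `|N_G(P)| = p * d` with `d ∣ p - 1`, `n_p ≡ 1 mod p`. -/
theorem card_normalizer_of_prime_degree [Finite G] [FaithfulSMul G X] {p : ℕ} [hp : Fact p.Prime]
    (hX : Nat.card X = p) (P : Sylow p G) (hP : Nat.card (P : Subgroup G) = p) :
    ∃ d, d ∣ p - 1 ∧ Nat.card (normalizer ((P : Subgroup G) : Set G)) = p * d ∧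
      (p * d) * Nat.card (Sylow p G) = Nat.card G ∧ Nat.card (Sylow p G) % p = 1 := by
  have hd := Cfsg.Agent.Lib.Helper17.relIndex_centralizer_normalizer_dvd_pred hp.out
    (P : Subgroup G) hP
  rw [centralizer_eq_of_card_eq_prime hp.out hX (P : Subgroup G) hP] at hd
  refine ⟨_, hd, ?_, ?_, ?_⟩
  · have h1 := Subgroup.card_mul_index
      ((P : Subgroup G).subgroupOf (normalizer ((P : Subgroup G) : Set G)))
    rw [Nat.card_congr (Subgroup.subgroupOfEquivOfLe
      (le_normalizer : (P : Subgroup G) ≤ normalizer ((P : Subgroup G) : Set G))).toEquiv, hP] at h1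
    exact h1.symm
  · have h1 := Subgroup.card_mul_index
      ((P : Subgroup G).subgroupOf (normalizer ((P : Subgroup G) : Set G)))
    rw [Nat.card_congr (Subgroup.subgroupOfEquivOfLe
      (le_normalizer : (P : Subgroup G) ≤ normalizer ((P : Subgroup G) : Set G))).toEquiv, hP] at h1
    have h2 := Cfsg.Agent.Lib.Helper17.card_normalizer_mul_card_sylow P
    rw [← h1] at h2
    exact h2
  · have := card_sylow_modEq_one p G
    rw [Nat.ModEq, Nat.mod_eq_of_lt hp.out.one_lt] at this
    exact this

/-- **Simplicity criterion, prime degree.** A finite group acting faithfully on `p` points whose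
Sylow `p`-subgroup has order `p` and normalizer of order `p * r` (`r` prime), of order `≠ p * r`,
is simple. -/
theorem isSimpleGroup_of_prime_degree [Finite G] [FaithfulSMul G X] {p r : ℕ} [hp : Fact p.Prime]
    (hr : r.Prime) (hX : Nat.card X = p) (P : Sylow p G) (hP : Nat.card (P : Subgroup G) = p)
    (hN : Nat.card (normalizer ((P : Subgroup G) : Set G)) = p * r) (hG : Nat.card G ≠ p * r) :
    IsSimpleGroup G := by
  obtain ⟨h, hh⟩ := exists_prime_orderOf_dvd_card' (G := (P : Subgroup G)) p (by rw [hP])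
  have hh' : orderOf (h : G) = p := by rw [Subgroup.orderOf_coe]; exact hh
  have hnt : Nontrivial G := by
    refine ⟨⟨(h : G), 1, ?_⟩⟩
    intro h1
    rw [h1, orderOf_one] at hh'
    exact hp.out.one_lt.ne hh'
  haveI : IsPretransitive G X := isPretransitive_of_orderOf_eq_card hp.out hX (h : G) hh'
  have hp2 : ¬ p ^ 2 ∣ Nat.card G := by
    intro hd
    have h1 := P.card_eq_multiplicity
    rw [hP] at h1
    have h2 : 2 ≤ (Nat.card G).factorization p :=
      (hp.out.pow_dvd_iff_le_factorization Nat.card_pos.ne').mp hd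
    have h3 : p ^ 1 < p ^ (Nat.card G).factorization p :=
      Nat.pow_lt_pow_right hp.out.one_lt (by omega)
    rw [pow_one, ← h1] at h3
    exact lt_irrefl _ h3
  refine ⟨fun N hNn => ?_⟩
  by_contra hcon
  push Not at hcon
  obtain ⟨hNbot, hNtop⟩ := hcon
  have hpN : p ∣ Nat.card N := (normal_eq_bot_or_dvd_card hp.out hX N).resolve_left hNbot
  obtain ⟨n, hn⟩ := exists_prime_orderOf_dvd_card' (G := N) p hpN
  have hnG : orderOf (n : G) = p := by rw [Subgroup.orderOf_coe]; exact hn
  -- P ≤ N
  have hPN : (P : Subgroup G) ≤ N := by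
    have hZ : IsPGroup p (zpowers (n : G)) :=
      IsPGroup.of_card (n := 1) (by rw [Nat.card_zpowers, hnG, pow_one])
    obtain ⟨Q, hQ⟩ := hZ.exists_le_sylow
    have hQcard : Nat.card (Q : Subgroup G) = p := by
      rw [Q.card_eq_multiplicity, ← P.card_eq_multiplicity, hP]
    have hZQ : zpowers (n : G) = (Q : Subgroup G) :=
      Subgroup.eq_of_le_of_card_ge hQ (by rw [hQcard, Nat.card_zpowers, hnG])
    obtain ⟨g, hg⟩ := MulAction.exists_smul_eq G Q P
    intro x hx
    have hx' : x ∈ ((g • Q : Sylow p G) : Subgroup G) := by rw [hg]; exact hx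
    rw [Sylow.coe_subgroup_smul, Subgroup.mem_pointwise_smul_iff_inv_smul_mem] at hx'
    have hx2 : (MulAut.conj g)⁻¹ • x ∈ N := by
      have : (MulAut.conj g)⁻¹ • x ∈ zpowers (n : G) := hZQ ▸ hx'
      exact (zpowers_le.mpr n.2) this
    have hx3 : g * ((MulAut.conj g)⁻¹ • x) * g⁻¹ ∈ N := hNn.conj_mem _ hx2 g
    have hx4 : g * ((MulAut.conj g)⁻¹ • x) * g⁻¹ = x := by
      simp [MulAut.smul_def, mul_assoc]
    rwa [hx4] at hx3
  have hPle : (P : Subgroup G) ≤ N ⊓ normalizer ((P : Subgroup G) : Set G) :=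
    le_inf hPN le_normalizer
  have h1 : p ∣ Nat.card (N ⊓ normalizer ((P : Subgroup G) : Set G) : Subgroup G) := by
    have := Subgroup.card_dvd_of_le hPle
    rwa [hP] at this
  have h2 : Nat.card (N ⊓ normalizer ((P : Subgroup G) : Set G) : Subgroup G) ∣ p * r := by
    have := Subgroup.card_dvd_of_le (inf_le_right : N ⊓ normalizer ((P : Subgroup G) : Set G) ≤ _)
    rwa [hN] at this
  obtain ⟨j, hj⟩ := h1
  have hjr : j ∣ r := by
    rw [hj] at h2
    exact Nat.dvd_of_mul_dvd_mul_left hp.out.pos h2
  rcases (Nat.dvd_prime hr).mp hjr with hj1 | hjr'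
  · -- N ⊓ N_G(P) = P
    rw [hj1, mul_one] at hj
    have hEq : (P : Subgroup G) = N ⊓ normalizer ((P : Subgroup G) : Set G) :=
      Subgroup.eq_of_le_of_card_ge hPle (by rw [hj, hP])
    have hQN : normalizer (((P.subtype hPN : Sylow p N) : Subgroup N) : Set N) ≤
        centralizer (((P.subtype hPN : Sylow p N) : Subgroup N) : Set N) := by
      intro x hx
      have hxP : (x : G) ∈ (P : Subgroup G) := by
        rw [hEq]
        refine ⟨x.2, ?_⟩
        show (x : G) ∈ normalizer ((P : Subgroup G) : Set G)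
        rw [mem_normalizer_iff]
        rw [mem_normalizer_iff] at hx
        intro y
        constructor
        · intro hy
          have := (hx ⟨y, hPN hy⟩).mp (mem_subgroupOf.mpr hy)
          exact mem_subgroupOf.mp this
        · intro hy
          have hyN : y ∈ N := by
            have := hPN hy
            have h3 := N.mul_mem (N.mul_mem (N.inv_mem x.2) this) x.2
            simpa [mul_assoc] using h3
          have := (hx ⟨y, hyN⟩).mpr (mem_subgroupOf.mpr hy)
          exact mem_subgroupOf.mp this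
      rw [mem_centralizer_iff]
      intro y hy
      have hy' : (y : G) ∈ (P : Subgroup G) := mem_subgroupOf.mp hy
      apply Subtype.ext
      haveI : IsCyclic (P : Subgroup G) := isCyclic_of_prime_card hP
      have h5 := mul_comm' (⟨(y : G), hy'⟩ : (P : Subgroup G)) ⟨(x : G), hxP⟩
      have h6 : (y : G) * (x : G) = (x : G) * (y : G) := congrArg Subtype.val h5
      exact h6
    have hc := MonoidHom.ker_transferSylow_isComplement' (P.subtype hPN) hQN
    have hQcard : Nat.card ((P.subtype hPN : Sylow p N) : Subgroup N) = p := by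
      rw [Sylow.coe_subtype, Nat.card_congr (Subgroup.subgroupOfEquivOfLe hPN).toEquiv, hP]
    have hKcard := hc.card_mul_card
    rw [hQcard] at hKcard
    have hpK : ¬ p ∣ Nat.card (MonoidHom.transferSylow (P.subtype hPN) hQN).ker := by
      intro hd
      apply hp2
      have : p ^ 2 ∣ Nat.card N := by
        rw [← hKcard, sq]; exact Nat.mul_dvd_mul hd dvd_rfl
      exact this.trans (Subgroup.card_subgroup_dvd_card N)
    haveI : IsPretransitive N X := isPretransitive_of_orderOf_eq_card hp.out hX n hn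
    have hKbot : (MonoidHom.transferSylow (P.subtype hPN) hQN).ker = ⊥ :=
      (normal_eq_bot_or_dvd_card (G := N) hp.out hX _).resolve_right hpK
    have hNcard : Nat.card N = p := by
      rw [← hKcard, hKbot, Subgroup.card_bot, one_mul]
    have hNP : (P : Subgroup G) = N := Subgroup.eq_of_le_of_card_ge hPN (by rw [hNcard, hP])
    have hPnormal : (P : Subgroup G).Normal := hNP ▸ hNn
    have htop : normalizer ((P : Subgroup G) : Set G) = ⊤ :=
      @normalizer_eq_top _ _ (P : Subgroup G) hPnormal
    apply hG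
    rw [← hN, htop, Subgroup.card_top]
  · -- N_G(P) ≤ N
    rw [hjr'] at hj
    have hNPle : normalizer ((P : Subgroup G) : Set G) ≤ N := by
      have : N ⊓ normalizer ((P : Subgroup G) : Set G) = normalizer ((P : Subgroup G) : Set G) :=
        Subgroup.eq_of_le_of_card_ge inf_le_right (by rw [hj, hN])
      rw [← this]; exact inf_le_left
    have hF := Sylow.normalizer_sup_eq_top' P hPN
    apply hNtop
    rw [← hF]
    exact (sup_of_le_right hNPle).symm

end PrimeDegree

section TwoTransitive

variable {G X : Type*} [Group G] [MulAction G X]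

/-- **Simplicity criterion, 2-transitive groups.** A finite group acting faithfully and
2-transitively, with simple point stabilizer, on a set whose size is not a prime power,
is simple. -/
theorem isSimpleGroup_of_two_transitive [Finite G] [FaithfulSMul G X] (x : X)
    (ht : ∀ y : X, ∃ g : G, g • x = y)
    (h2 : ∀ y z : X, y ≠ x → z ≠ x → ∃ g : G, g • x = x ∧ g • y = z)
    (hs : IsSimpleGroup (stabilizer G x)) (hX : ¬ IsPrimePow (Nat.card X)) :
    IsSimpleGroup G := by
  have hnt : Nontrivial G := by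
    obtain ⟨a, b, hab⟩ := hs.toNontrivial.exists_pair_ne
    exact ⟨⟨(a : G), (b : G), fun h => hab (Subtype.ext h)⟩⟩
  refine ⟨fun N hNn => ?_⟩
  by_contra hcon
  push Not at hcon
  obtain ⟨hNbot, hNtop⟩ := hcon
  obtain ⟨n0, hn0N, hn0x⟩ : ∃ n ∈ N, n • x ≠ x := by
    obtain ⟨⟨n, hnN⟩, hn1'⟩ := (Subgroup.ne_bot_iff_exists_ne_one).mp hNbot
    have hn1 : n ≠ 1 := fun h => hn1' (Subtype.ext h)
    obtain ⟨y, hy⟩ : ∃ y : X, n • y ≠ y := by
      by_contra hcon
      push Not at hcon
      apply hn1
      apply FaithfulSMul.eq_of_smul_eq_smul (α := X)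
      intro a
      rw [hcon a, one_smul]
    obtain ⟨g, rfl⟩ := ht y
    refine ⟨g⁻¹ * n * g, ?_, ?_⟩
    · have := hNn.conj_mem n hnN g⁻¹
      simpa using this
    · intro h
      apply hy
      have := congrArg (fun z => g • z) h
      simpa [smul_smul, mul_assoc] using this
  have hNt : ∀ z : X, ∃ n ∈ N, n • x = z := by
    intro z
    by_cases hz : z = x
    · exact ⟨1, N.one_mem, by rw [one_smul, hz]⟩
    · obtain ⟨g, hgx, hgz⟩ := h2 (n0 • x) z hn0x hz
      refine ⟨g * n0 * g⁻¹, hNn.conj_mem n0 hn0N g, ?_⟩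
      have hginv : g⁻¹ • x = x := by rw [inv_smul_eq_iff, hgx]
      rw [mul_smul, mul_smul, hginv, hgz]
  have hnorm : (N.subgroupOf (stabilizer G x)).Normal := inferInstance
  rcases hs.eq_bot_or_eq_top_of_normal (N.subgroupOf (stabilizer G x)) hnorm with hbot | htop
  · -- regular normal subgroup
    have hreg : ∀ n ∈ N, n • x = x → n = 1 := by
      intro n hn hnx
      have : (⟨n, hnx⟩ : stabilizer G x) ∈ N.subgroupOf (stabilizer G x) :=
        mem_subgroupOf.mpr hn
      rw [hbot, mem_bot] at this
      exact congrArg Subtype.val this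
    have hconj : ∀ n ∈ N, ∀ m ∈ N, n ≠ 1 → m ≠ 1 → ∃ g : G, g * n * g⁻¹ = m := by
      intro n hn m hm hn1 hm1
      have hnx : n • x ≠ x := fun h => hn1 (hreg n hn h)
      have hmx : m • x ≠ x := fun h => hm1 (hreg m hm h)
      obtain ⟨g, hgx, hg⟩ := h2 (n • x) (m • x) hnx hmx
      refine ⟨g, ?_⟩
      have hginv : g⁻¹ • x = x := by rw [inv_smul_eq_iff, hgx]
      have hmem : m⁻¹ * (g * n * g⁻¹) ∈ N :=
        N.mul_mem (N.inv_mem hm) (hNn.conj_mem n hn g)
      have hfix : (m⁻¹ * (g * n * g⁻¹)) • x = x := by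
        rw [mul_smul, mul_smul, mul_smul, hginv, hg, inv_smul_smul]
      have := hreg _ hmem hfix
      exact (inv_mul_eq_one.mp this).symm
    have hcardN : Nat.card N = Nat.card X := by
      apply Nat.card_congr
      refine Equiv.ofBijective (fun n : N => (n : G) • x) ⟨fun a b hab => ?_, fun z => ?_⟩
      · have hfix : ((b : G)⁻¹ * (a : G)) • x = x := by
          rw [mul_smul]
          simp only at hab
          rw [hab, inv_smul_smul]
        have := hreg _ (N.mul_mem (N.inv_mem b.2) a.2) hfix
        exact Subtype.ext (inv_mul_eq_one.mp this).symm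
      · obtain ⟨n, hn, hnx⟩ := hNt z
        exact ⟨⟨n, hn⟩, hnx⟩
    have hN1 : Nat.card N ≠ 1 := fun h => hNbot ((Subgroup.eq_bot_iff_card N).mpr h)
    obtain ⟨q, hq, hqN⟩ := Nat.exists_prime_and_dvd hN1
    haveI : Fact q.Prime := ⟨hq⟩
    obtain ⟨n1, hn1⟩ := exists_prime_orderOf_dvd_card' (G := N) q hqN
    have hn1G : orderOf (n1 : G) = q := by rw [Subgroup.orderOf_coe]; exact hn1
    have hn1ne : (n1 : G) ≠ 1 := by
      intro h
      rw [h, orderOf_one] at hn1G
      exact hq.one_lt.ne hn1G
    have hpg : IsPGroup q N := by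
      intro m
      by_cases hm1 : (m : G) = 1
      · exact ⟨0, by apply Subtype.ext; simp [hm1]⟩
      · refine ⟨1, ?_⟩
        obtain ⟨g, hg⟩ := hconj n1 n1.2 m m.2 hn1ne hm1
        apply Subtype.ext
        simp only [Subgroup.coe_pow, pow_one, Subgroup.coe_one]
        rw [← hg, conj_pow, ← hn1G, pow_orderOf_eq_one]
        group
    obtain ⟨k, hk⟩ := IsPGroup.iff_card.mp hpg
    apply hX
    rw [← hcardN, hk]
    have hk0 : 0 < k := by
      rcases Nat.eq_zero_or_pos k with h0 | h0
      · rw [h0, pow_zero] at hk; exact absurd hk hN1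
      · exact h0
    exact ⟨q, k, hq.prime, hk0, rfl⟩
  · -- stabilizer ≤ N
    apply hNtop
    rw [eq_top_iff]
    intro g _
    obtain ⟨n, hn, hnx⟩ := hNt (g • x)
    have hfix : (n⁻¹ * g) • x = x := by rw [mul_smul, ← hnx, inv_smul_smul]
    have hmem : (⟨n⁻¹ * g, hfix⟩ : stabilizer G x) ∈ N.subgroupOf (stabilizer G x) := by
      rw [htop]; trivial
    have h3 : n⁻¹ * g ∈ N := mem_subgroupOf.mp hmem
    have := N.mul_mem hn h3
    simpa using this

/-- the point stabilizer acts faithfully on the remaining points -/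
instance faithfulSMul_ofStabilizer [FaithfulSMul G X] (a : X) :
    FaithfulSMul (stabilizer G a) (SubMulAction.ofStabilizer G a) := by
  refine ⟨fun {m₁ m₂} h => ?_⟩
  apply Subtype.ext
  apply FaithfulSMul.eq_of_smul_eq_smul (α := X)
  intro b
  by_cases hb : b = a
  · rw [hb]
    exact (mem_stabilizer_iff.mp m₁.2).trans (mem_stabilizer_iff.mp m₂.2).symm
  · have := h ⟨b, (SubMulAction.mem_ofStabilizer_iff G a).mpr hb⟩
    exact congrArg Subtype.val this

end TwoTransitive

end Cfsg.Agent.Lib.Helper95
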