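import Mathlib
import Cfsg.Agent.Lib.Helper95.BigDP3
import Cfsg.Agent.Lib.Helper95.BigRules

set_option autoImplicit false

namespace Cfsg.Agent.Lib.Helper95.Big

theorem levelCheck3_aux : levelCheckAux 3 lvl3 lvl4 353 rules3 tabs3 (unpack dp3at22) = true := by
  decide +kernel

theorem levelCheck3 : levelCheck 3 lvl3 lvl4 353 rules3 tabs3 = true := by
  show levelCheckAux 3 lvl3 lvl4 353 rules3 tabs3 (dpL lvl3 3 (3 + 4) (19 + 3)) = true
  rw [show dpL lvl3 3 (3 + 4) (19 + 3) = unpack dp3at22 from dp3_stage22]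
  exact levelCheck3_aux

end Cfsg.Agent.Lib.Helper95.Big
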