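import Mathlib
import Cfsg.Prelude.Def_Sporadic_a

set_option autoImplicit false

/-! A Steiner system `S(5,8,24)` is determined by its blocks through one point. -/

namespace Cfsg.Agent.Lib.Helper95.Big

theorem steiner_block_eq {α : Type*} {t k : ℕ} {B : Set (Finset α)}
    (hB : Cfsg.IsSteinerSystem t k B) {b b' s : Finset α} (hb : b ∈ B) (hb' : b' ∈ B)
    (hs : s.card = t) (h1 : s ⊆ b) (h2 : s ⊆ b') : b = b' := by
  obtain ⟨c, -, huniq⟩ := hB.2 s hs
  rw [huniq b ⟨hb, h1⟩, huniq b' ⟨hb', h2⟩]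

theorem ext_subset {α : Type*} [Fintype α] [DecidableEq α] (hα : Fintype.card α = 24)
    {B1 B2 : Set (Finset α)} (h1 : Cfsg.IsSteinerSystem 5 8 B1) (h2 : Cfsg.IsSteinerSystem 5 8 B2)
    (p : α) (hp : ∀ b : Finset α, p ∈ b → (b ∈ B1 ↔ b ∈ B2)) : B1 ⊆ B2 := by
  intro O hO
  by_cases hpO : p ∈ O
  · exact (hp O hpO).mp hO
  have hOc : O.card = 8 := h1.1 O hO
  obtain ⟨e, heO, hec⟩ := Finset.exists_subset_card_eq (show 5 ≤ O.card by omega)
  have hpe : p ∉ e := fun h => hpO (heO h)
  obtain ⟨O2, ⟨hO2, heO2⟩, -⟩ := h2.2 e hec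
  have hO2c : O2.card = 8 := h2.1 O2 hO2
  have hpO2 : p ∉ O2 := by
    intro h
    have h3 : O2 ∈ B1 := (hp O2 h).mpr hO2
    have := steiner_block_eq h1 h3 hO hec heO2 heO
    exact hpO (this ▸ h)
  -- the blocks through `p` and four points of `e`
  have hsx : ∀ x ∈ e, (insert p (e.erase x)).card = 5 := by
    intro x hx
    rw [Finset.card_insert_of_notMem (fun h => hpe (Finset.mem_of_mem_erase h)),
      Finset.card_erase_of_mem hx, hec]
  have hex : ∀ x ∈ e, ∃ H : Finset α, H ∈ B1 ∧ insert p (e.erase x) ⊆ H := by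
    intro x hx
    obtain ⟨H, ⟨hH, hsub⟩, -⟩ := h1.2 _ (hsx x hx)
    exact ⟨H, hH, hsub⟩
  choose! H hH using hex
  have hHp : ∀ x ∈ e, p ∈ H x := fun x hx => (hH x hx).2 (Finset.mem_insert_self _ _)
  have hHe : ∀ x ∈ e, e.erase x ⊆ H x := fun x hx =>
    (Finset.subset_insert _ _).trans (hH x hx).2
  have hH2 : ∀ x ∈ e, H x ∈ B2 := fun x hx => (hp _ (hHp x hx)).mp (hH x hx).1
  have hHc : ∀ x ∈ e, (H x).card = 8 := fun x hx => h1.1 _ (hH x hx).1
  have hxH : ∀ x ∈ e, x ∉ H x := by
    intro x hx hmem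
    have hsub : e ⊆ H x := by
      intro y hy
      by_cases hyx : y = x
      · rw [hyx]
        exact hmem
      · exact hHe x hx (Finset.mem_erase.mpr ⟨hyx, hy⟩)
    have := steiner_block_eq h1 (hH x hx).1 hO hec hsub heO
    exact hpO (this ▸ hHp x hx)
  -- a block avoiding `p` and containing `e` meets `H x` only inside `e`
  have hmeet : ∀ (B' : Set (Finset α)), Cfsg.IsSteinerSystem 5 8 B' → (∀ x ∈ e, H x ∈ B') →
      ∀ Q ∈ B', e ⊆ Q → p ∉ Q → ∀ x ∈ e, ∀ y ∈ Q, y ∉ e → y ∉ H x := by
    intro B' hB' hHB' Q hQ heQ hpQ x hx y hy hye hyH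
    have hc : (insert y (e.erase x)).card = 5 := by
      rw [Finset.card_insert_of_notMem (fun h => hye (Finset.mem_of_mem_erase h)),
        Finset.card_erase_of_mem hx, hec]
    have hs1 : insert y (e.erase x) ⊆ Q := by
      intro z hz
      rcases Finset.mem_insert.mp hz with rfl | hz
      · exact hy
      · exact heQ (Finset.mem_of_mem_erase hz)
    have hs2 : insert y (e.erase x) ⊆ H x := by
      intro z hz
      rcases Finset.mem_insert.mp hz with rfl | hz
      · exact hyH
      · exact hHe x hx hz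
    have := steiner_block_eq hB' hQ (hHB' x hx) hc hs1 hs2
    exact hpQ (this ▸ hHp x hx)
  -- the new points of the blocks `H x`
  have hTdisj : ∀ x ∈ e, ∀ y ∈ e, x ≠ y →
      Disjoint (H x \ insert p e) (H y \ insert p e) := by
    intro x hx y hy hxy
    rw [Finset.disjoint_left]
    intro z hzx hzy
    rw [Finset.mem_sdiff] at hzx hzy
    have hzpe : z ∉ insert p ((e.erase x).erase y) := by
      intro h
      apply hzx.2
      rcases Finset.mem_insert.mp h with rfl | h
      · exact Finset.mem_insert_self _ _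
      · exact Finset.mem_insert_of_mem (Finset.mem_of_mem_erase (Finset.mem_of_mem_erase h))
    have hpe' : p ∉ (e.erase x).erase y := fun h =>
      hpe (Finset.mem_of_mem_erase (Finset.mem_of_mem_erase h))
    have hc : (insert z (insert p ((e.erase x).erase y))).card = 5 := by
      rw [Finset.card_insert_of_notMem hzpe, Finset.card_insert_of_notMem hpe',
        Finset.card_erase_of_mem (Finset.mem_erase.mpr ⟨hxy.symm, hy⟩),
        Finset.card_erase_of_mem hx, hec]
    have hs1 : insert z (insert p ((e.erase x).erase y)) ⊆ H x := by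
      intro w hw
      rcases Finset.mem_insert.mp hw with rfl | hw
      · exact hzx.1
      rcases Finset.mem_insert.mp hw with rfl | hw
      · exact hHp x hx
      · exact hHe x hx (Finset.mem_of_mem_erase hw)
    have hs2 : insert z (insert p ((e.erase x).erase y)) ⊆ H y := by
      intro w hw
      rcases Finset.mem_insert.mp hw with rfl | hw
      · exact hzy.1
      rcases Finset.mem_insert.mp hw with rfl | hw
      · exact hHp y hy
      · have hw1 := Finset.mem_erase.mp hw
        have hw2 := Finset.mem_erase.mp hw1.2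
        exact hHe y hy (Finset.mem_erase.mpr ⟨hw1.1, hw2.2⟩)
    have heq := steiner_block_eq h1 (hH x hx).1 (hH y hy).1 hc hs1 hs2
    have : x ∈ H y := hHe y hy (Finset.mem_erase.mpr ⟨hxy, hx⟩)
    rw [← heq] at this
    exact hxH x hx this
  have hTc : ∀ x ∈ e, (H x \ insert p e).card = 3 := by
    intro x hx
    have hinter : H x ∩ insert p e = insert p (e.erase x) := by
      ext z
      rw [Finset.mem_inter, Finset.mem_insert, Finset.mem_insert, Finset.mem_erase]
      constructor
      · rintro ⟨hzH, rfl | hze⟩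
        · exact Or.inl rfl
        · right
          refine ⟨?_, hze⟩
          intro hzx
          rw [hzx] at hzH
          exact hxH x hx hzH
      · rintro (rfl | ⟨hzx, hze⟩)
        · exact ⟨hHp x hx, Or.inl rfl⟩
        · exact ⟨hHe x hx (Finset.mem_erase.mpr ⟨hzx, hze⟩), Or.inr hze⟩
    have := Finset.card_sdiff_add_card_inter (H x) (insert p e)
    rw [hinter, hsx x hx, hHc x hx] at this
    omega
  -- counting
  have hVc : (insert p e ∪ e.biUnion (fun x => H x \ insert p e)).card = 21 := by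
    rw [Finset.card_union_of_disjoint, Finset.card_biUnion, Finset.sum_congr rfl hTc,
      Finset.card_insert_of_notMem hpe, hec]
    · simp [hec]
    · intro x hx y hy hxy
      exact hTdisj x hx y hy hxy
    · rw [Finset.disjoint_left]
      intro z hz hz2
      rw [Finset.mem_biUnion] at hz2
      obtain ⟨x, -, hzx⟩ := hz2
      exact (Finset.mem_sdiff.mp hzx).2 hz
  have hWc : ((insert p e ∪ e.biUnion (fun x => H x \ insert p e))ᶜ).card = 3 := by
    rw [Finset.card_compl, hα, hVc]
  have hQW : ∀ (B' : Set (Finset α)), Cfsg.IsSteinerSystem 5 8 B' → (∀ x ∈ e, H x ∈ B') →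
      ∀ Q ∈ B', e ⊆ Q → p ∉ Q →
      Q \ e = (insert p e ∪ e.biUnion (fun x => H x \ insert p e))ᶜ := by
    intro B' hB' hHB' Q hQ heQ hpQ
    apply Finset.eq_of_subset_of_card_le
    · intro y hy
      rw [Finset.mem_sdiff] at hy
      rw [Finset.mem_compl, Finset.mem_union, Finset.mem_biUnion]
      rintro (h | ⟨x, hx, hyx⟩)
      · rcases Finset.mem_insert.mp h with rfl | h
        · exact hpQ hy.1
        · exact hy.2 h
      · exact hmeet B' hB' hHB' Q hQ heQ hpQ x hx y hy.1 hy.2 (Finset.mem_sdiff.mp hyx).1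
    · rw [hWc, Finset.card_sdiff_of_subset heQ, hB'.1 Q hQ, hec]
  have e1 := hQW B1 h1 (fun x hx => (hH x hx).1) O hO heO hpO
  have e2 := hQW B2 h2 hH2 O2 hO2 heO2 hpO2
  have : O = O2 := by
    rw [← Finset.sdiff_union_of_subset heO, ← Finset.sdiff_union_of_subset heO2, e1, e2]
  rw [this]
  exact hO2

theorem ext_unique {α : Type*} [Fintype α] [DecidableEq α] (hα : Fintype.card α = 24)
    {B1 B2 : Set (Finset α)} (h1 : Cfsg.IsSteinerSystem 5 8 B1) (h2 : Cfsg.IsSteinerSystem 5 8 B2)
    (p : α) (hp : ∀ b : Finset α, p ∈ b → (b ∈ B1 ↔ b ∈ B2)) : B1 = B2 :=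
  Set.Subset.antisymm (ext_subset hα h1 h2 p hp)
    (ext_subset hα h2 h1 p (fun b hb => (hp b hb).symm))

end Cfsg.Agent.Lib.Helper95.Big
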