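import Mathlib

set_option autoImplicit false
set_option maxRecDepth 1000000

/-! Data of the extension chain `S(0,3,19) ⊂ S(1,4,20) ⊂ S(2,5,21) ⊂ S(3,6,22) ⊂ S(4,7,23)`. -/

namespace Cfsg.Agent.Lib.Helper95.Big

/-- the masks of the level `0` system -/
def lvl0 : List ℕ := [
  7]

/-- the masks of the level `1` system -/
def lvl1 : List ℕ := [
  120, 1920, 30720, 491520, 524295]

/-- the masks of the level `2` system -/
def lvl2 : List ℕ := [
  34964, 41993, 49474, 67873, 70674, 74308, 133642, 135361, 148516, 266508, 270498, 279057, 561696,
  606344, 663824, 789568, 1048696, 1050496, 1079296, 1540096, 1572871]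

/-- the masks of the level `3` system -/
def lvl3 : List ℕ := [
  822, 1230, 7685, 10323, 12952, 13664, 19168, 19736, 20523, 24965, 98947, 104520, 122928, 164264,
  165456, 176134, 196637, 208000, 217856, 295013, 305920, 316544, 328144, 329256, 346118, 394499,
  399408, 417864, 525129, 525489, 530818, 534572, 544852, 550402, 623876, 706561, 720994, 819226,
  864257, 918148, 1084450, 1085713, 1098252, 1118372, 1122570, 1131585, 1182020, 1188385, 1196178,
  1312905, 1315394, 1319956, 1614016, 1640976, 1709064, 1851680, 2132116, 2139145, 2146626,
  2165025, 2167826, 2171460, 2230794, 2232513, 2245668, 2363660, 2367650, 2376209, 2658848,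
  2703496, 2760976, 2886720, 3145848, 3147648, 3176448, 3637248, 3670023]

/-- the masks of the level `4` system -/
def lvl4 : List ℕ := [
  35087, 37828, 37948, 41578, 42386, 47265, 49369, 50977, 55826, 60484, 67770, 69442, 70257, 71049,
  74791, 80148, 82284, 83604, 92681, 94402, 134033, 134249, 135514, 136866, 139508, 141068, 148039,
  153740, 157986, 160785, 231972, 237889, 246794, 264796, 265636, 266391, 270649, 272065, 277514,
  279434, 279666, 284993, 291364, 363537, 364834, 368780, 428226, 430601, 442644, 463940, 467474,
  475297, 559472, 560776, 562243, 565781, 573606, 585992, 592069, 594446, 598944, 599128, 606483,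
  613408, 658454, 659749, 663691, 670272, 672312, 673216, 757904, 789027, 790760, 792336, 794950,
  803853, 813200, 901696, 959520, 985352, 1049059, 1050139, 1055528, 1055952, 1059462, 1060941,
  1067061, 1070342, 1074000, 1074344, 1146966, 1160704, 1165696, 1213573, 1222680, 1232992,
  1245896, 1246512, 1251331, 1344176, 1344840, 1368067, 1377029, 1386592, 1396760, 1441838,
  1454464, 1461760, 1573276, 1574500, 1584385, 1585202, 1591370, 1593985, 1671209, 1737474,
  1794052, 1873924, 1901698, 1966161, 2097837, 2098517, 2103398, 2107848, 2108976, 2110211,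
  2116739, 2118064, 2119240, 2121758, 2196248, 2196704, 2215941, 2261043, 2268416, 2286208,
  2294150, 2306088, 2312272, 2393606, 2404432, 2410536, 2424907, 2431616, 2450688, 2491232,
  2491544, 2500613, 2622162, 2622762, 2627609, 2634884, 2640644, 2646113, 2729986, 2785356,
  2819585, 2916737, 2949172, 3035138, 3181121, 3182730, 3186980, 3214348, 3219601, 3228194,
  3281428, 3286082, 3293449, 3410194, 3413025, 3424452, 3720208, 3739968, 3803296, 3940872,
  4195126, 4195534, 4201989, 4204627, 4207256, 4207968, 4213472, 4214040, 4214827, 4219269,
  4293251, 4298824, 4317232, 4358568, 4359760, 4370438, 4390941, 4402304, 4412160, 4489317,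
  4500224, 4510848, 4522448, 4523560, 4540422, 4588803, 4593712, 4612168, 4719433, 4719793,
  4725122, 4728876, 4739156, 4744706, 4818180, 4900865, 4915298, 5013530, 5058561, 5112452,
  5278754, 5280017, 5292556, 5312676, 5316874, 5325889, 5376324, 5382689, 5390482, 5507209,
  5509698, 5514260, 5808320, 5835280, 5903368, 6045984, 6326420, 6333449, 6340930, 6359329,
  6362130, 6365764, 6425098, 6426817, 6439972, 6557964, 6561954, 6570513, 6853152, 6897800,
  6955280, 7081024, 7340152, 7341952, 7370752, 7831552, 7864327]

end Cfsg.Agent.Lib.Helper95.Big
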