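import Mathlib
import Cfsg.Agent.Lib.Helper95.BigData
import Cfsg.Agent.Lib.Helper95.BigRules

set_option autoImplicit false

namespace Cfsg.Agent.Lib.Helper95.Big

theorem levelCheck2 : levelCheck 2 lvl2 lvl3 169 rules2 tabs2 = true := by
  decide +kernel

end Cfsg.Agent.Lib.Helper95.Big
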