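import Mathlib
import Cfsg.Agent.Lib.Helper26.Enc

set_option autoImplicit false

/-! Bit-mask encoding of finite subsets of `Fin N`. -/

namespace Cfsg.Agent.Lib.Helper95.FinMask

open Cfsg.Agent.Lib.Helper26 (pc pc_eq_sum ofBitsL testBit_ofBitsL ofBitsL_lt)

variable {N : ℕ}

/-- decode a bit mask to a subset of `Fin N`. -/
def dec (N k : ℕ) : Finset (Fin N) := Finset.univ.filter (fun x => k.testBit x.val = true)

theorem mem_dec {k : ℕ} {x : Fin N} : x ∈ dec N k ↔ k.testBit x.val = true := by
  simp [dec]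

/-- encode a subset of `Fin N` as a bit mask. -/
def enc (s : Finset (Fin N)) : ℕ := Nat.ofBits (fun i : Fin N => decide (i ∈ s))

theorem enc_lt (s : Finset (Fin N)) : enc s < 2 ^ N := Nat.ofBits_lt_two_pow _

theorem testBit_enc (s : Finset (Fin N)) (i : ℕ) (hi : i < N) :
    (enc s).testBit i = decide ((⟨i, hi⟩ : Fin N) ∈ s) := by
  rw [enc, Nat.testBit_ofBits_lt _ _ hi]

theorem testBit_enc_val (s : Finset (Fin N)) (x : Fin N) :
    (enc s).testBit x.val = decide (x ∈ s) :=
  testBit_enc s x.val x.isLt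

theorem testBit_enc_ge (s : Finset (Fin N)) (i : ℕ) (hi : N ≤ i) : (enc s).testBit i = false :=
  Nat.testBit_lt_two_pow (lt_of_lt_of_le (enc_lt s) (Nat.pow_le_pow_right (by norm_num) hi))

theorem dec_enc (s : Finset (Fin N)) : dec N (enc s) = s := by
  ext x
  rw [mem_dec, testBit_enc_val]
  simp

theorem enc_dec {k : ℕ} (hk : k < 2 ^ N) : enc (dec N k) = k := by
  apply Nat.eq_of_testBit_eq
  intro i
  by_cases hi : i < N
  · rw [testBit_enc _ i hi]
    cases h : k.testBit i
    · simp [mem_dec, h]
    · simp [mem_dec, h]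
  · have hi' : N ≤ i := by omega
    rw [testBit_enc_ge _ i hi',
      Nat.testBit_lt_two_pow (lt_of_lt_of_le hk (Nat.pow_le_pow_right (by norm_num) hi'))]

theorem enc_injective : Function.Injective (enc : Finset (Fin N) → ℕ) := by
  intro s t h
  rw [← dec_enc s, ← dec_enc t, h]

/-- equality of encodings from equality of membership -/
theorem enc_eq_of_testBit {s : Finset (Fin N)} {k : ℕ} (hk : k < 2 ^ N)
    (h : ∀ x : Fin N, x ∈ s ↔ k.testBit x.val = true) : enc s = k := by
  rw [← enc_dec hk]
  congr 1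
  ext x
  rw [mem_dec, h]

theorem subset_iff_land (s t : Finset (Fin N)) : s ⊆ t ↔ enc s &&& enc t = enc s := by
  constructor
  · intro h
    apply Nat.eq_of_testBit_eq
    intro i
    rw [Nat.testBit_land]
    by_cases hi : i < N
    · rw [testBit_enc _ i hi, testBit_enc _ i hi]
      by_cases hs : (⟨i, hi⟩ : Fin N) ∈ s
      · simp [hs, h hs]
      · simp [hs]
    · rw [testBit_enc_ge _ i (by omega)]
      simp
  · intro h x hx
    have h1 : (enc s &&& enc t).testBit x.val = true := by
      rw [h, testBit_enc_val]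
      simpa using hx
    rw [Nat.testBit_land, testBit_enc_val, testBit_enc_val] at h1
    have h2 : x ∈ s ∧ x ∈ t := by simpa using h1
    exact h2.2

theorem card_dec (k : ℕ) : (dec N k).card = pc N k := by
  rw [pc_eq_sum, dec, Finset.card_filter]
  exact Fin.sum_univ_eq_sum_range (fun i => if k.testBit i = true then 1 else 0) N

theorem card_eq_pc (s : Finset (Fin N)) : s.card = pc N (enc s) := by
  rw [← card_dec, dec_enc]

theorem pc_of_lt {n W k : ℕ} (hk : k < 2 ^ n) (hW : n ≤ W) : pc W k = pc n k := by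
  rw [pc_eq_sum, pc_eq_sum]
  rw [← Finset.sum_range_add_sum_Ico _ hW]
  have : ∑ i ∈ Finset.Ico n W, (if k.testBit i = true then 1 else 0) = 0 := by
    apply Finset.sum_eq_zero
    intro i hi
    rw [Finset.mem_Ico] at hi
    rw [Nat.testBit_lt_two_pow (lt_of_lt_of_le hk (Nat.pow_le_pow_right (by norm_num) hi.1))]
    simp
  rw [this, add_zero]

theorem card_eq_pc' (s : Finset (Fin N)) {W : ℕ} (hW : N ≤ W) : s.card = pc W (enc s) := by
  rw [pc_of_lt (enc_lt s) hW, card_eq_pc]

theorem enc_lt_of_forall_lt (s : Finset (Fin N)) (n : ℕ) (h : ∀ x ∈ s, x.val < n) :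
    enc s < 2 ^ n := by
  apply Nat.lt_pow_two_of_testBit
  intro i hi
  by_cases hiN : i < N
  · rw [testBit_enc _ i hiN]
    simp only [decide_eq_false_iff_not]
    intro hmem
    have := h _ hmem
    simp only at this
    omega
  · exact testBit_enc_ge _ i (by omega)

theorem enc_insert_of_notMem (s : Finset (Fin N)) (p : Fin N) :
    enc (insert p s) = enc s ||| 2 ^ p.val := by
  apply enc_eq_of_testBit
  · apply Nat.lt_pow_two_of_testBit
    intro i hi
    rw [Nat.testBit_lor, testBit_enc_ge _ i hi, Nat.testBit_two_pow]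
    have : p.val ≠ i := by have := p.isLt; omega
    simp [this]
  · intro x
    rw [Nat.testBit_lor, testBit_enc_val, Nat.testBit_two_pow, Finset.mem_insert]
    have : p.val = x.val ↔ x = p := by
      constructor
      · intro h; exact Fin.ext h.symm
      · intro h; rw [h]
    simp [this, or_comm]

end Cfsg.Agent.Lib.Helper95.FinMask
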