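import Mathlib
import Cfsg.Agent.Lib.Helper95.FinMask

set_option autoImplicit false

/-! A kernel-evaluable enumeration of all bit masks of small subsets meeting every block of a
given list in few points, with its specification. -/

namespace Cfsg.Agent.Lib.Helper95.Big

open Cfsg.Agent.Lib.Helper26 (pc pc_eq_sum)

/-- `popLe t x`: the mask `x` has at most `t` bits set -/
def popLe : ℕ → ℕ → Bool
  | 0, x => x == 0
  | t + 1, x => popLe t (x &&& (x - 1))

theorem pc_zero (W : ℕ) : pc W 0 = 0 := by
  induction W with
  | zero => rfl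
  | succ W ih => simp [pc, ih]

theorem pc_eq_zero {W x : ℕ} (hx : x < 2 ^ W) (h : pc W x = 0) : x = 0 := by
  induction W generalizing x with
  | zero => simpa using hx
  | succ W ih =>
    rw [pc] at h
    have h1 : x % 2 = 0 := by omega
    have h2 : pc W (x / 2) = 0 := by omega
    have h3 : x / 2 < 2 ^ W := by
      rw [pow_succ] at hx
      omega
    have := ih h3 h2
    omega

theorem land_pred_lt {W x : ℕ} (hx : x < 2 ^ W) : x &&& (x - 1) < 2 ^ W :=
  lt_of_le_of_lt Nat.and_le_left hx

theorem pc_land_pred {W x : ℕ} (hx : x < 2 ^ W) (h0 : 0 < x) :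
    pc W (x &&& (x - 1)) + 1 = pc W x := by
  induction W generalizing x with
  | zero =>
    simp at hx
    omega
  | succ W ih =>
    rw [pc, pc, Nat.and_div_two]
    have hmod : (x &&& (x - 1)) % 2 = 0 := by
      by_contra hne
      have h1 : (x &&& (x - 1)) % 2 = 1 := by omega
      rw [Nat.and_mod_two_eq_one] at h1
      omega
    rw [hmod]
    have h3 : x / 2 < 2 ^ W := by
      rw [pow_succ] at hx
      omega
    rcases Nat.mod_two_eq_zero_or_one x with hx2 | hx2
    · have h4 : (x - 1) / 2 = x / 2 - 1 := by omega
      have h5 : 0 < x / 2 := by omega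
      rw [h4, hx2]
      have := ih h3 h5
      omega
    · have h4 : (x - 1) / 2 = x / 2 := by omega
      rw [h4, Nat.and_self, hx2]
      omega

theorem popLe_iff {W : ℕ} (t x : ℕ) (hx : x < 2 ^ W) : popLe t x = true ↔ pc W x ≤ t := by
  induction t generalizing x with
  | zero =>
    rw [popLe, beq_iff_eq]
    constructor
    · intro h
      rw [h, pc_zero]
    · intro h
      exact pc_eq_zero hx (by omega)
  | succ t ih =>
    rw [popLe, ih _ (land_pred_lt hx)]
    rcases Nat.eq_zero_or_pos x with h0 | h0
    · rw [h0]
      simp [pc_zero]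
    · have := pc_land_pred hx h0
      omega

/-! ### popcount lemmas via test bits -/

theorem pc_mono {W a b : ℕ} (h : ∀ j, a.testBit j = true → b.testBit j = true) :
    pc W a ≤ pc W b := by
  rw [pc_eq_sum, pc_eq_sum]
  apply Finset.sum_le_sum
  intro j _
  by_cases ha : a.testBit j = true
  · rw [if_pos ha, if_pos (h j ha)]
  · rw [if_neg ha]
    exact Nat.zero_le _

theorem pc_lor_two_pow {W x m : ℕ} (hm : m < W) (hx : x.testBit m = false) :
    pc W (x ||| 2 ^ m) = pc W x + 1 := by
  rw [pc_eq_sum, pc_eq_sum]
  rw [← Finset.add_sum_erase _ _ (Finset.mem_range.mpr hm),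
    ← Finset.add_sum_erase (Finset.range W) (fun i => if x.testBit i = true then 1 else 0)
      (Finset.mem_range.mpr hm)]
  have h1 : (x ||| 2 ^ m).testBit m = true := by
    rw [Nat.testBit_lor, Nat.testBit_two_pow_self]
    simp
  rw [if_pos h1, if_neg (by rw [hx]; exact Bool.false_ne_true)]
  have h2 : ∀ i ∈ (Finset.range W).erase m,
      (if (x ||| 2 ^ m).testBit i = true then 1 else 0) =
        (if x.testBit i = true then 1 else 0) := by
    intro i hi
    have hne : m ≠ i := fun h => (Finset.mem_erase.mp hi).1 h.symm
    rw [Nat.testBit_lor, Nat.testBit_two_pow]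
    simp [hne]
  rw [Finset.sum_congr rfl h2]
  omega

theorem testBit_of_lt_two_pow {x m j : ℕ} (hx : x < 2 ^ m) (hj : m ≤ j) :
    x.testBit j = false :=
  Nat.testBit_lt_two_pow (lt_of_lt_of_le hx (Nat.pow_le_pow_right (by norm_num) hj))

theorem lor_two_pow_lt {x m : ℕ} (hx : x < 2 ^ m) : x ||| 2 ^ m < 2 ^ (m + 1) := by
  apply Nat.lt_pow_two_of_testBit
  intro j hj
  rw [Nat.testBit_lor, testBit_of_lt_two_pow hx (by omega), Nat.testBit_two_pow]
  simp
  omega

/-! ### the enumeration -/

/-- all pairs `(k, x)` with `k ≤ K`, `x` a mask of a `k`-subset of `[0, n)` meeting every block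
in at most `t` points -/
def dpL (blocks : List ℕ) (t K : ℕ) : ℕ → List (ℕ × ℕ)
  | 0 => [(0, 0)]
  | m + 1 =>
    dpL blocks t K m ++
      (((dpL blocks t K m).filter (fun p => decide (p.1 < K))).map
        (fun p => (p.1 + 1, p.2 ||| 2 ^ m))).filter
        (fun p => (blocks.filter (fun b => b.testBit m)).all (fun b => popLe t (p.2 &&& b)))

/-- the specification -/
def GoodMask (blocks : List ℕ) (t n k x : ℕ) : Prop :=
  x < 2 ^ n ∧ pc 24 x = k ∧ ∀ b ∈ blocks, pc 24 (x &&& b) ≤ t

theorem land_lt_of_lt {x b W : ℕ} (hx : x < 2 ^ W) : x &&& b < 2 ^ W :=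
  lt_of_le_of_lt Nat.and_le_left hx

theorem mem_dpL (blocks : List ℕ) (t K n : ℕ) (hn : n ≤ 24) (k x : ℕ) :
    (k, x) ∈ dpL blocks t K n ↔ k ≤ K ∧ GoodMask blocks t n k x := by
  induction n generalizing k x with
  | zero =>
    rw [dpL, List.mem_singleton, Prod.mk.injEq]
    constructor
    · rintro ⟨rfl, rfl⟩
      refine ⟨Nat.zero_le _, by norm_num, pc_zero _, ?_⟩
      intro b _
      rw [Nat.zero_and, pc_zero]
      exact Nat.zero_le _
    · rintro ⟨-, hx, hk, -⟩
      have hx0 : x = 0 := by simpa using hx
      rw [hx0, pc_zero] at hk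
      exact ⟨hk.symm, hx0⟩
  | succ m ih =>
    have hm : m ≤ 24 := by omega
    have hm24 : m < 24 := by omega
    rw [dpL, List.mem_append, List.mem_filter, List.mem_map]
    constructor
    · rintro (h | ⟨⟨⟨k', x'⟩, hmem, heq⟩, hok⟩)
      · obtain ⟨hk, hx, hpc, hP⟩ := (ih hm k x).mp h
        exact ⟨hk, lt_of_lt_of_le hx (Nat.pow_le_pow_right (by norm_num) (by omega)), hpc, hP⟩
      · rw [List.mem_filter] at hmem
        obtain ⟨hmem, hlt⟩ := hmem
        simp only [decide_eq_true_eq] at hlt
        obtain ⟨-, hx', hpc', hP'⟩ := (ih hm k' x').mp hmem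
        simp only [Prod.mk.injEq] at heq
        obtain ⟨rfl, rfl⟩ := heq
        have hbit : x'.testBit m = false := testBit_of_lt_two_pow hx' (le_refl _)
        refine ⟨hlt, lor_two_pow_lt hx', ?_, ?_⟩
        · rw [pc_lor_two_pow hm24 hbit, hpc']
        · intro b hb
          by_cases hbm : b.testBit m = true
          · rw [List.all_eq_true] at hok
            have h1 := hok b (List.mem_filter.mpr ⟨hb, by simpa using hbm⟩)
            simp only at h1
            have hlt24 : (x' ||| 2 ^ m) &&& b < 2 ^ 24 :=
              land_lt_of_lt (lt_of_lt_of_le (lor_two_pow_lt hx')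
                (Nat.pow_le_pow_right (by norm_num) (by omega)))
            exact (popLe_iff t _ hlt24).mp h1
          · have heq2 : (x' ||| 2 ^ m) &&& b = x' &&& b := by
              apply Nat.eq_of_testBit_eq
              intro j
              rw [Nat.testBit_land, Nat.testBit_land, Nat.testBit_lor, Nat.testBit_two_pow]
              by_cases hj : m = j
              · subst hj
                simp only [Bool.not_eq_true] at hbm
                rw [hbm]
                simp
              · simp [hj]
            rw [heq2]
            exact hP' b hb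
    · rintro ⟨hk, hx, hpc, hP⟩
      by_cases hbit : x.testBit m = true
      · right
        have hx' : x % 2 ^ m < 2 ^ m := Nat.mod_lt _ (by positivity)
        have hbit' : (x % 2 ^ m).testBit m = false := testBit_of_lt_two_pow hx' (le_refl _)
        have hxeq : x % 2 ^ m ||| 2 ^ m = x := by
          apply Nat.eq_of_testBit_eq
          intro j
          rw [Nat.testBit_lor, Nat.testBit_mod_two_pow, Nat.testBit_two_pow]
          rcases Nat.lt_trichotomy j m with hj | hj | hj
          · have : m ≠ j := by omega
            simp [hj, this]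
          · subst hj
            simp [hbit]
          · have h1 : ¬ j < m := by omega
            have h2 : m ≠ j := by omega
            rw [testBit_of_lt_two_pow hx (by omega)]
            simp [h1, h2]
        have hsub : ∀ j, (x % 2 ^ m).testBit j = true → x.testBit j = true := by
          intro j hj
          rw [Nat.testBit_mod_two_pow] at hj
          simp only [Bool.and_eq_true, decide_eq_true_eq] at hj
          exact hj.2
        have hpc' : pc 24 (x % 2 ^ m) = k - 1 ∧ 1 ≤ k := by
          have := pc_lor_two_pow (W := 24) hm24 hbit'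
          rw [hxeq, hpc] at this
          omega
        have hP' : ∀ b ∈ blocks, pc 24 (x % 2 ^ m &&& b) ≤ t := by
          intro b hb
          refine le_trans (pc_mono ?_) (hP b hb)
          intro j hj
          rw [Nat.testBit_land] at hj ⊢
          simp only [Bool.and_eq_true] at hj ⊢
          exact ⟨hsub j hj.1, hj.2⟩
        have hmem : (k - 1, x % 2 ^ m) ∈ dpL blocks t K m :=
          (ih hm _ _).mpr ⟨by omega, hx', hpc'.1, hP'⟩
        refine ⟨⟨(k - 1, x % 2 ^ m), List.mem_filter.mpr ⟨hmem, by simp only [decide_eq_true_eq]; omega⟩, ?_⟩, ?_⟩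
        · simp only [Prod.mk.injEq]
          exact ⟨by omega, hxeq⟩
        · rw [List.all_eq_true]
          intro b hb
          simp only
          have hb' := (List.mem_filter.mp hb).1
          have hlt24 : x &&& b < 2 ^ 24 :=
            land_lt_of_lt (lt_of_lt_of_le hx (Nat.pow_le_pow_right (by norm_num) (by omega)))
          exact (popLe_iff t _ hlt24).mpr (hP b hb')
      · left
        have hbit' : x.testBit m = false := by simpa using hbit
        have hx' : x < 2 ^ m := by
          apply Nat.lt_pow_two_of_testBit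
          intro j hj
          rcases Nat.eq_or_lt_of_le hj with h | h
          · rw [← h]
            exact hbit'
          · exact testBit_of_lt_two_pow hx (by omega)
        exact (ih hm k x).mpr ⟨hk, hx', hpc, hP⟩

/-- the masks of size `k` -/
def rowOf (l : List (ℕ × ℕ)) (k : ℕ) : List ℕ :=
  l.filterMap (fun p => if p.1 = k then some p.2 else none)

theorem mem_rowOf (l : List (ℕ × ℕ)) (k x : ℕ) : x ∈ rowOf l k ↔ (k, x) ∈ l := by
  rw [rowOf, List.mem_filterMap]
  constructor
  · rintro ⟨⟨k', x'⟩, hmem, h⟩
    by_cases hk : k' = k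
    · simp only [hk, if_true, Option.some.injEq] at h
      rw [← h, ← hk]
      exact hmem
    · simp [hk] at h
  · intro h
    exact ⟨(k, x), h, by simp⟩

end Cfsg.Agent.Lib.Helper95.Big
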