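import Mathlib

set_option autoImplicit false

/-! A kernel-evaluable exhaustive exact-cover search on bit masks, with its completeness proof. -/

namespace Cfsg.Agent.Lib.Helper95.ExactCover

/-- block `r` covers element `e` (as bit masks: `e ⊆ r`) -/
def covers (r e : ℕ) : Bool := e &&& r == e

/-- is `e` covered by one of the chosen blocks -/
def covered (chosen : List ℕ) (e : ℕ) : Bool := chosen.any (fun c => covers c e)

/-- `r` covers no element already covered -/
def compatible (elems chosen : List ℕ) (r : ℕ) : Bool :=
  elems.all (fun e => !(covers r e) || !(covered chosen e))

/-- all exact covers of `elems` by blocks from `cands` extending `chosen`. -/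
def search (elems cands : List ℕ) : ℕ → List ℕ → List (List ℕ)
  | 0, _ => []
  | fuel + 1, chosen =>
    match elems.find? (fun e => !(covered chosen e)) with
    | none => [chosen]
    | some e =>
      (cands.filter (fun r => covers r e && compatible elems chosen r)).flatMap
        (fun r => search elems cands fuel (r :: chosen))

/-- completeness of the search -/
theorem search_complete (elems cands : List ℕ) (R : Finset ℕ)
    (h1 : ∀ r ∈ R, r ∈ cands)
    (h2 : ∀ e ∈ elems, ∃ r ∈ R, covers r e = true ∧ ∀ r' ∈ R, covers r' e = true → r' = r)
    (h3 : ∀ r ∈ R, ∃ e ∈ elems, covers r e = true) :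
    ∀ (fuel : ℕ) (chosen : List ℕ), chosen.Nodup → (∀ c ∈ chosen, c ∈ R) →
      R.card < fuel + chosen.length →
      ∃ sol ∈ search elems cands fuel chosen, sol.toFinset = R := by
  intro fuel
  induction fuel with
  | zero =>
    intro chosen hnd hsub hlt
    exfalso
    have : chosen.toFinset ⊆ R := by
      intro c hc
      exact hsub c (List.mem_toFinset.mp hc)
    have h4 := Finset.card_le_card this
    rw [List.toFinset_card_of_nodup hnd] at h4
    omega
  | succ fuel ih =>
    intro chosen hnd hsub hlt
    rw [search]
    cases hf : elems.find? (fun e => !(covered chosen e)) with
    | none =>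
      refine ⟨chosen, by simp, ?_⟩
      apply Finset.Subset.antisymm
      · intro c hc
        exact hsub c (List.mem_toFinset.mp hc)
      · intro r hr
        obtain ⟨e, he, hre⟩ := h3 r hr
        have hcov : covered chosen e = true := by
          have := List.find?_eq_none.mp hf e he
          simpa using this
        rw [covered, List.any_eq_true] at hcov
        obtain ⟨c, hc, hce⟩ := hcov
        obtain ⟨r0, -, -, huniq⟩ := h2 e he
        have e1 := huniq r hr hre
        have e2 := huniq c (hsub c hc) hce
        rw [List.mem_toFinset, e1, ← e2]
        exact hc
    | some e =>
      have he : e ∈ elems := List.mem_of_find?_eq_some hf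
      have hne : covered chosen e = false := by
        have := List.find?_some hf
        simpa using this
      obtain ⟨r, hrR, hre, huniq⟩ := h2 e he
      have hrc : r ∉ chosen := by
        intro hmem
        have : covered chosen e = true := by
          rw [covered, List.any_eq_true]
          exact ⟨r, hmem, hre⟩
        rw [hne] at this
        exact Bool.false_ne_true this
      have hcompat : compatible elems chosen r = true := by
        rw [compatible, List.all_eq_true]
        intro e' he'
        by_cases hcr : covers r e' = true
        · have : covered chosen e' = false := by
            by_contra hcon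
            have hcon' : covered chosen e' = true := by simpa using hcon
            rw [covered, List.any_eq_true] at hcon'
            obtain ⟨c, hc, hce⟩ := hcon'
            obtain ⟨r0, -, -, huniq'⟩ := h2 e' he'
            have e1 := huniq' r hrR hcr
            have e2 := huniq' c (hsub c hc) hce
            apply hrc
            rw [e1, ← e2]
            exact hc
          simp [this]
        · simp [hcr]
      have hnd' : (r :: chosen).Nodup := List.nodup_cons.mpr ⟨hrc, hnd⟩
      have hsub' : ∀ c ∈ r :: chosen, c ∈ R := by
        intro c hc
        rcases List.mem_cons.mp hc with rfl | hc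
        · exact hrR
        · exact hsub c hc
      have hlt' : R.card < fuel + (r :: chosen).length := by
        rw [List.length_cons]; omega
      obtain ⟨sol, hsol, hsolR⟩ := ih (r :: chosen) hnd' hsub' hlt'
      refine ⟨sol, ?_, hsolR⟩
      simp only
      rw [List.mem_flatMap]
      refine ⟨r, ?_, hsol⟩
      rw [List.mem_filter]
      refine ⟨h1 r hrR, ?_⟩
      rw [Bool.and_eq_true]
      exact ⟨hre, hcompat⟩

end Cfsg.Agent.Lib.Helper95.ExactCover
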