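import Mathlib
import Cfsg.Agent.Lib.Helper95.FinMask
import Cfsg.Agent.Lib.Helper95.ExactCover

set_option autoImplicit false

/-! Permutations of `Fin N` moving only the points below `n`, given by tables, and their action on
bit masks of width 24. -/

namespace Cfsg.Agent.Lib.Helper95.Big

open Cfsg.Agent.Lib.Helper95.FinMask Cfsg.Agent.Lib.Helper95.ExactCover
open Cfsg.Agent.Lib.Helper26 (pc ofBitsL testBit_ofBitsL ofBitsL_lt)
open scoped Pointwise

variable {N : ℕ}

/-- the function of a table on the points below `n`, extended by the identity -/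
def tabFun (n : ℕ) (tbl : List ℕ) (i : ℕ) : ℕ := if i < n then tbl.getD i 0 else i

/-- two tables are inverse permutations of the points below `n` -/
def tabOk (n : ℕ) (tbl inv : List ℕ) : Bool :=
  (List.range n).all (fun i => decide (tbl.getD i 0 < n) && decide (inv.getD i 0 < n) &&
    (inv.getD (tbl.getD i 0) 0 == i) && (tbl.getD (inv.getD i 0) 0 == i))

theorem tabOk_spec {n : ℕ} {tbl inv : List ℕ} (h : tabOk n tbl inv = true) :
    ∀ i, i < n → tbl.getD i 0 < n ∧ inv.getD i 0 < n ∧ inv.getD (tbl.getD i 0) 0 = i ∧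
      tbl.getD (inv.getD i 0) 0 = i := by
  simp only [tabOk, Bool.and_eq_true, List.all_eq_true, List.mem_range, decide_eq_true_eq,
    beq_iff_eq] at h
  intro i hi
  obtain ⟨⟨⟨a, b⟩, c⟩, d⟩ := h i hi
  exact ⟨a, b, c, d⟩

theorem tabOk_symm {n : ℕ} {tbl inv : List ℕ} (h : tabOk n tbl inv = true) :
    tabOk n inv tbl = true := by
  have h1 := tabOk_spec h
  simp only [tabOk, Bool.and_eq_true, List.all_eq_true, List.mem_range, decide_eq_true_eq,
    beq_iff_eq]
  intro i hi
  obtain ⟨a, b, c, d⟩ := h1 i hi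
  exact ⟨⟨⟨b, a⟩, d⟩, c⟩

theorem tabFun_lt {n : ℕ} {tbl inv : List ℕ} (h : tabOk n tbl inv = true) (hN : n ≤ N) (i : ℕ)
    (hi : i < N) : tabFun n tbl i < N := by
  unfold tabFun
  split
  · rename_i hn
    have := (tabOk_spec h i hn).1
    omega
  · exact hi

theorem tabFun_inv {n : ℕ} {tbl inv : List ℕ} (h : tabOk n tbl inv = true) (i : ℕ) :
    tabFun n inv (tabFun n tbl i) = i := by
  unfold tabFun
  by_cases hn : i < n
  · obtain ⟨a, -, c, -⟩ := tabOk_spec h i hn
    rw [if_pos hn, if_pos a, c]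
  · rw [if_neg hn, if_neg hn]

theorem tabFun_of_ge (n : ℕ) (tbl : List ℕ) (i : ℕ) (hi : n ≤ i) : tabFun n tbl i = i := by
  unfold tabFun
  rw [if_neg (by omega)]

/-- the permutation of `Fin N` of a table -/
def tabPerm (n : ℕ) (tbl inv : List ℕ) (h : tabOk n tbl inv = true) (hN : n ≤ N) :
    Equiv.Perm (Fin N) where
  toFun x := ⟨tabFun n tbl x.val, tabFun_lt h hN x.val x.isLt⟩
  invFun x := ⟨tabFun n inv x.val, tabFun_lt (tabOk_symm h) hN x.val x.isLt⟩
  left_inv x := Fin.ext (tabFun_inv h x.val)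
  right_inv x := Fin.ext (tabFun_inv (tabOk_symm h) x.val)

theorem tabPerm_apply (n : ℕ) (tbl inv : List ℕ) (h : tabOk n tbl inv = true) (hN : n ≤ N)
    (x : Fin N) : ((tabPerm n tbl inv h hN) x).val = tabFun n tbl x.val := rfl

theorem tabPerm_inv_apply (n : ℕ) (tbl inv : List ℕ) (h : tabOk n tbl inv = true) (hN : n ≤ N)
    (x : Fin N) : (((tabPerm n tbl inv h hN)⁻¹) x).val = tabFun n inv x.val := rfl

theorem tabPerm_inv (n : ℕ) (tbl inv : List ℕ) (h : tabOk n tbl inv = true) (hN : n ≤ N) :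
    (tabPerm n tbl inv h hN)⁻¹ = tabPerm (N := N) n inv tbl (tabOk_symm h) hN := by
  apply Equiv.ext
  intro x
  apply Fin.ext
  rfl

theorem tabPerm_fix (n : ℕ) (tbl inv : List ℕ) (h : tabOk n tbl inv = true) (hN : n ≤ N)
    (x : Fin N) (hx : n ≤ x.val) : (tabPerm n tbl inv h hN) x = x := by
  apply Fin.ext
  rw [tabPerm_apply]
  exact tabFun_of_ge _ _ _ hx

/-- the action of a table on bit masks of width 24: bit `i` of the result is bit `f i`. -/
def applyTab (n : ℕ) (f : List ℕ) (m : ℕ) : ℕ :=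
  ofBitsL ((List.range 24).map (fun i => m.testBit (tabFun n f i)))

theorem testBit_applyTab (n : ℕ) (f : List ℕ) (m i : ℕ) :
    (applyTab n f m).testBit i = if i < 24 then m.testBit (tabFun n f i) else false := by
  rw [applyTab, testBit_ofBitsL]
  by_cases hi : i < 24
  · rw [if_pos hi, List.getD_eq_getElem _ _ (by simpa using hi)]
    simp
  · rw [if_neg hi, List.getD_eq_default _ _ (by simpa using hi)]

/-- the mask of the image of a set under a table permutation -/
theorem enc_smul_tabPerm (n : ℕ) (tbl inv : List ℕ) (h : tabOk n tbl inv = true) (hN : n ≤ N)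
    (hN24 : N ≤ 24) (d : Finset (Fin N)) :
    enc ((tabPerm n tbl inv h hN) • d) = applyTab n inv (enc d) := by
  apply enc_eq_of_testBit
  · apply Nat.lt_pow_two_of_testBit
    intro i hi
    rw [testBit_applyTab]
    split
    · rw [tabFun_of_ge n inv i (by omega)]
      exact testBit_enc_ge d i hi
    · rfl
  · intro x
    rw [testBit_applyTab, if_pos (by have := x.isLt; omega)]
    rw [← Finset.inv_smul_mem_iff]
    have h1 : ((tabPerm n tbl inv h hN)⁻¹ • x : Fin N) = (tabPerm n tbl inv h hN)⁻¹ x := rfl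
    rw [h1]
    have h2 := testBit_enc_val d ((tabPerm n tbl inv h hN)⁻¹ x)
    rw [tabPerm_inv_apply] at h2
    rw [h2]
    simp

end Cfsg.Agent.Lib.Helper95.Big
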