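import Mathlib
import Cfsg.Prelude.Def_Sporadic_a
import Cfsg.Agent.Lib.Helper95.BigLevels
import Cfsg.Agent.Lib.Helper95.BigEnum

set_option autoImplicit false

/-! The extension step for the large Steiner systems: exact cover search with symmetry rules. -/

namespace Cfsg.Agent.Lib.Helper95.Big

open Cfsg.Agent.Lib.Helper95.FinMask Cfsg.Agent.Lib.Helper95.ExactCover
open Cfsg.Agent.Lib.Helper26 (pc)
open scoped Pointwise

variable {N : ℕ}

/-- a skip rule: at the node with chosen list `C` and first uncovered element `e`, the candidate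
`r` may be skipped, the table carrying it to an explored candidate. -/
structure Rule where
  C : List ℕ
  e : ℕ
  r : ℕ
  tbl : List ℕ
  inv : List ℕ

/-- is the candidate skipped at this node -/
def skipped (rules : List Rule) (chosen : List ℕ) (e r : ℕ) : Bool :=
  rules.any (fun ru => ru.r == r && ru.e == e && ru.C == chosen)

/-- `covers`, computed with primitive operations -/
def coversF (r e : ℕ) : Bool := Nat.beq (Nat.land e r) e

theorem coversF_eq (r e : ℕ) : coversF r e = covers r e := by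
  unfold coversF covers
  rw [Bool.eq_iff_iff]
  simp only [Nat.beq_eq, beq_iff_eq]
  exact Iff.rfl

/-- `popLe`, computed with primitive operations -/
def popLeF : ℕ → ℕ → Bool
  | 0, x => Nat.beq x 0
  | t + 1, x => popLeF t (Nat.land x (Nat.sub x 1))

theorem popLeF_eq (t x : ℕ) : popLeF t x = popLe t x := by
  induction t generalizing x with
  | zero =>
    unfold popLeF popLe
    rw [Bool.eq_iff_iff]
    simp only [Nat.beq_eq, beq_iff_eq]
  | succ t ih =>
    rw [popLeF, popLe, ih]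
    rfl

/-- exact cover search on the list of still uncovered elements -/
def searchS (t : ℕ) (cands : List ℕ) (rules : List Rule) : ℕ → List ℕ → List ℕ → List (List ℕ)
  | 0, _, _ => []
  | _ + 1, [], chosen => [chosen]
  | fuel + 1, e :: rest, chosen =>
    (cands.filter (fun r => coversF r e && chosen.all (fun c => popLeF t (Nat.land r c)) &&
        !(skipped rules chosen e r))).flatMap
      (fun r => searchS t cands rules fuel (rest.filter (fun x => !(coversF r x))) (r :: chosen))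

theorem searchS_cons (t : ℕ) (cands : List ℕ) (rules : List Rule) (fuel e : ℕ)
    (rest chosen : List ℕ) :
    searchS t cands rules (fuel + 1) (e :: rest) chosen =
      (cands.filter (fun r => covers r e && chosen.all (fun c => popLe t (r &&& c)) &&
        !(skipped rules chosen e r))).flatMap
      (fun r => searchS t cands rules fuel (rest.filter (fun x => !(covers r x))) (r :: chosen)) := by
  rw [searchS]
  simp only [coversF_eq, popLeF_eq]
  rfl

/-- validity of a rule -/
def ruleOk (n : ℕ) (Sprev : List ℕ) (rules : List Rule) (ru : Rule) : Bool :=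
  tabOk n ru.tbl ru.inv &&
  Sprev.all (fun s => Sprev.contains (applyTab n ru.inv s)) &&
  Sprev.all (fun s => Sprev.contains (applyTab n ru.tbl s)) &&
  ru.C.all (fun c => ru.C.contains (applyTab n ru.inv c)) &&
  ru.C.all (fun c => ru.C.contains (applyTab n ru.tbl c)) &&
  covers (applyTab n ru.inv ru.r) ru.e &&
  !(skipped rules ru.C ru.e (applyTab n ru.inv ru.r))

/-- the extension of `Sprev` by a solution -/
def extOf (i : ℕ) (Sprev sol : List ℕ) : List ℕ := Sprev.map (fun s => s ||| 2 ^ (19 + i)) ++ sol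

/-- a table pair carries the extension `ext` onto `Snext` -/
def tabCheck (n : ℕ) (ext Snext : List ℕ) (tab : List ℕ × List ℕ) : Bool :=
  tabOk n tab.1 tab.2 && ext.all (fun m => Snext.contains (applyTab n tab.2 m)) &&
    Snext.all (fun m => ext.contains (applyTab n tab.1 m))

/-- the check of step `i`, given the enumeration `dp` -/
def levelCheckAux (i : ℕ) (Sprev Snext : List ℕ) (fuel : ℕ) (rules : List Rule)
    (tabs : List (List ℕ × List ℕ)) (dp : List (ℕ × ℕ)) : Bool :=
  Snext.all (fun s => decide (s < 2 ^ (19 + (i + 1)))) &&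
  decide ((rowOf dp (i + 4)).length < fuel) &&
  rules.all (ruleOk (19 + i) Sprev rules) &&
  (searchS i (rowOf dp (i + 4)) rules fuel (rowOf dp (i + 1)) []).all
    (fun sol => tabs.any (fun tab => tabCheck (19 + i) (extOf i Sprev sol) Snext tab))

/-- the full check of step `i` -/
def levelCheck (i : ℕ) (Sprev Snext : List ℕ) (fuel : ℕ) (rules : List Rule)
    (tabs : List (List ℕ × List ℕ)) : Bool :=
  levelCheckAux i Sprev Snext fuel rules tabs (dpL Sprev i (i + 4) (19 + i))

/-! ### transport of mask lists along table permutations -/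

theorem enc_image_smul_tab (n : ℕ) (tbl inv : List ℕ) (hok : tabOk n tbl inv = true) (hnN : n ≤ N)
    (hN24 : N ≤ 24) (X : Set (Finset (Fin N))) (S1 S2 : List ℕ)
    (hX : enc '' X = {m | m ∈ S1})
    (h1 : ∀ s ∈ S1, applyTab n inv s ∈ S2) (h2 : ∀ s ∈ S2, applyTab n tbl s ∈ S1)
    (hlt : ∀ s ∈ S2, s < 2 ^ N) :
    enc '' ((tabPerm n tbl inv hok hnN) • X) = {m | m ∈ S2} := by
  have memS1 : ∀ s, s ∈ S1 ↔ ∃ d ∈ X, enc d = s := by
    intro s
    have : s ∈ enc '' X ↔ s ∈ {m | m ∈ S1} := by rw [hX]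
    exact this.symm
  ext m
  constructor
  · rintro ⟨d, hd, rfl⟩
    obtain ⟨d0, hd0, rfl⟩ := hd
    show enc ((tabPerm n tbl inv hok hnN) • d0) ∈ S2
    rw [enc_smul_tabPerm n tbl inv hok hnN hN24]
    exact h1 _ ((memS1 _).mpr ⟨d0, hd0, rfl⟩)
  · intro hm
    have hm' : m ∈ S2 := hm
    have hmlt := hlt m hm'
    obtain ⟨d, hd, hdm⟩ := (memS1 _).mp (h2 m hm')
    have h4 : applyTab n tbl m = enc ((tabPerm n tbl inv hok hnN)⁻¹ • dec N m) := by
      rw [tabPerm_inv, enc_smul_tabPerm n inv tbl (tabOk_symm hok) hnN hN24, enc_dec hmlt]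
    have h5 : (tabPerm n tbl inv hok hnN)⁻¹ • dec N m = d :=
      enc_injective (by rw [← h4, hdm])
    refine ⟨dec N m, ⟨d, hd, ?_⟩, enc_dec hmlt⟩
    show (tabPerm n tbl inv hok hnN) • d = dec N m
    rw [← h5, smul_inv_smul]

/-! ### the level facts -/

section facts

variable {t i : ℕ} (hN : N = t + 19) (hN24 : N ≤ 24) (hi : i < t) (Sprev : List ℕ)

/-- `B` is a Steiner system whose level `i` has the masks `Sprev` -/
def Valid (t i : ℕ) (Sprev : List ℕ) (B : Set (Finset (Fin N))) : Prop :=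
  Cfsg.IsSteinerSystem t (t + 3) B ∧ enc '' lev i B = {m | m ∈ Sprev}

/-- the masks of the blocks of level `i + 1` avoiding the new point -/
def RmSet (i : ℕ) (B : Set (Finset (Fin N))) : Set ℕ :=
  {m | ∃ d : Finset (Fin N), (d ∈ lev (i + 1) B ∧ ∀ x ∈ d, x.val ≠ 19 + i) ∧ enc d = m}

include hN hN24 hi

theorem memSprev {B : Set (Finset (Fin N))} (hV : Valid t i Sprev B) (s : ℕ) :
    s ∈ Sprev ↔ ∃ d ∈ lev i B, enc d = s := by
  have : s ∈ enc '' lev i B ↔ s ∈ {m | m ∈ Sprev} := by rw [hV.2]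
  exact this.symm

theorem ltR {B : Set (Finset (Fin N))} {d : Finset (Fin N)} (hd : d ∈ lev (i + 1) B)
    (hpd : ∀ x ∈ d, x.val ≠ 19 + i) : ∀ x ∈ d, x.val < 19 + i := by
  intro x hx
  have h1 := hd.1 x hx
  have h2 := hpd x hx
  omega

theorem inter_prev_le {B : Set (Finset (Fin N))} (hV : Valid t i Sprev B) {d d' : Finset (Fin N)}
    (hd : d ∈ lev (i + 1) B) (hpd : ∀ x ∈ d, x.val ≠ 19 + i) (hd' : d' ∈ lev i B) :
    (d ∩ d').card ≤ i := by
  have hpN : 19 + i < N := by omega
  have h1 : insert (⟨19 + i, hpN⟩ : Fin N) d' ∈ lev (i + 1) B :=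
    (mem_lev_succ hpN B hd'.1).mpr hd'
  have hne : d ≠ insert (⟨19 + i, hpN⟩ : Fin N) d' := by
    intro h
    have : (⟨19 + i, hpN⟩ : Fin N) ∈ d := by
      rw [h]
      exact Finset.mem_insert_self _ _
    exact hpd _ this rfl
  have h2 := lev_inter_le hN hi hV.1 hd h1 hne
  have h3 : (d ∩ d').card ≤ (d ∩ insert (⟨19 + i, hpN⟩ : Fin N) d').card :=
    Finset.card_le_card (Finset.inter_subset_inter_left (Finset.subset_insert _ _))
  omega

theorem mem_cands {B : Set (Finset (Fin N))} (hV : Valid t i Sprev B) {m : ℕ}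
    (hm : m ∈ RmSet i B) : m ∈ rowOf (dpL Sprev i (i + 4) (19 + i)) (i + 4) := by
  obtain ⟨d, ⟨hd, hpd⟩, rfl⟩ := hm
  rw [mem_rowOf, mem_dpL _ _ _ _ (by omega)]
  refine ⟨le_refl _, enc_lt_of_forall_lt d _ (ltR hN hN24 hi hd hpd), ?_, ?_⟩
  · rw [← card_eq_pc' d hN24, lev_card hN hi hV.1 hd]
  · intro b hb
    obtain ⟨d', hd', rfl⟩ := (memSprev hN hN24 hi Sprev hV b).mp hb
    rw [pc_inter hN24]
    exact inter_prev_le hN hN24 hi Sprev hV hd hpd hd'

theorem compat {B : Set (Finset (Fin N))} (hV : Valid t i Sprev B) {m1 m2 : ℕ}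
    (h1 : m1 ∈ RmSet i B) (h2 : m2 ∈ RmSet i B) (hne : m1 ≠ m2) :
    popLe i (m1 &&& m2) = true := by
  obtain ⟨d1, ⟨hd1, -⟩, rfl⟩ := h1
  obtain ⟨d2, ⟨hd2, -⟩, rfl⟩ := h2
  have hlt : enc d1 &&& enc d2 < 2 ^ 24 :=
    land_lt_of_lt (lt_of_lt_of_le (enc_lt d1) (Nat.pow_le_pow_right (by norm_num) hN24))
  rw [popLe_iff i _ hlt, pc_inter hN24]
  have hne' : d1 ≠ d2 := fun h => hne (by rw [h])
  have := lev_inter_le hN hi hV.1 hd1 hd2 hne'
  omega

theorem elem_spec {B : Set (Finset (Fin N))} (hV : Valid t i Sprev B) (s : Finset (Fin N))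
    (hs : ∀ x ∈ s, x.val < 19 + i) (hsc : s.card = i + 1) :
    enc s ∈ rowOf (dpL Sprev i (i + 4) (19 + i)) (i + 1) ↔ ∀ d' ∈ lev i B, ¬ s ⊆ d' := by
  rw [mem_rowOf, mem_dpL _ _ _ _ (by omega)]
  constructor
  · rintro ⟨-, -, -, hP⟩ d' hd' hsub
    have h1 := hP (enc d') ((memSprev hN hN24 hi Sprev hV _).mpr ⟨d', hd', rfl⟩)
    rw [pc_inter hN24, Finset.inter_eq_left.mpr hsub, hsc] at h1
    omega
  · intro h
    refine ⟨by omega, enc_lt_of_forall_lt s _ hs, by rw [← card_eq_pc' s hN24, hsc], ?_⟩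
    intro b hb
    obtain ⟨d', hd', rfl⟩ := (memSprev hN hN24 hi Sprev hV b).mp hb
    rw [pc_inter hN24]
    by_contra hcon
    have h1 : (s ∩ d').card = s.card := by
      have := Finset.card_le_card (Finset.inter_subset_left (s₁ := s) (s₂ := d'))
      omega
    have h2 : s ∩ d' = s := Finset.eq_of_subset_of_card_le Finset.inter_subset_left (by omega)
    exact h d' hd' (Finset.inter_eq_left.mp h2)

theorem elem_covered {B : Set (Finset (Fin N))} (hV : Valid t i Sprev B) {e : ℕ}
    (he : e ∈ rowOf (dpL Sprev i (i + 4) (19 + i)) (i + 1)) :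
    ∃ m ∈ RmSet i B, covers m e = true ∧ ∀ m' ∈ RmSet i B, covers m' e = true → m' = m := by
  have hpN : 19 + i < N := by omega
  have he' := he
  rw [mem_rowOf, mem_dpL _ _ _ _ (by omega)] at he'
  obtain ⟨-, helt, hepc, -⟩ := he'
  have heN : e < 2 ^ N := lt_of_lt_of_le helt (Nat.pow_le_pow_right (by norm_num) (by omega))
  have hes : enc (dec N e) = e := enc_dec heN
  have hslt : ∀ x ∈ dec N e, x.val < 19 + i := by
    intro x hx
    rw [mem_dec] at hx
    by_contra hge
    rw [testBit_of_lt_two_pow helt (by omega)] at hx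
    exact Bool.false_ne_true hx
  have hsc : (dec N e).card = i + 1 := by
    rw [card_eq_pc' (dec N e) hN24, hes]
    exact hepc
  have hnot := (elem_spec hN hN24 hi Sprev hV (dec N e) hslt hsc).mp (by rw [hes]; exact he)
  obtain ⟨d, hd, hsd⟩ := lev_exists hN hi hV.1 (dec N e)
    (fun x hx => by have := hslt x hx; omega) hsc
  have hpd : ∀ x ∈ d, x.val ≠ 19 + i := by
    intro x hx hxv
    have hxp : x = (⟨19 + i, hpN⟩ : Fin N) := Fin.ext hxv
    rw [hxp] at hx
    have h1 := erase_mem_lev hpN hd hx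
    apply hnot _ h1
    intro y hy
    refine Finset.mem_erase.mpr ⟨?_, hsd hy⟩
    intro hyp
    have := hslt y hy
    rw [hyp] at this
    simp at this
  refine ⟨enc d, ⟨d, ⟨hd, hpd⟩, rfl⟩, ?_, ?_⟩
  · rw [← hes]
    exact (covers_enc d (dec N e)).mpr hsd
  · rintro m' ⟨d2, ⟨hd2, -⟩, rfl⟩ hcov
    rw [← hes] at hcov
    have hsub := (covers_enc d2 (dec N e)).mp hcov
    rw [lev_unique hN hi hV.1 (dec N e) (fun x hx => by have := hslt x hx; omega) hsc hd2 hd
      hsub hsd]

theorem block_covers {B : Set (Finset (Fin N))} (hV : Valid t i Sprev B) {m : ℕ}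
    (hm : m ∈ RmSet i B) :
    ∃ e ∈ rowOf (dpL Sprev i (i + 4) (19 + i)) (i + 1), covers m e = true := by
  obtain ⟨d, ⟨hd, hpd⟩, rfl⟩ := hm
  have hdc := lev_card hN hi hV.1 hd
  obtain ⟨s, hsd, hsc⟩ := Finset.exists_subset_card_eq (show i + 1 ≤ d.card by omega)
  have hslt : ∀ x ∈ s, x.val < 19 + i := fun x hx => ltR hN hN24 hi hd hpd x (hsd hx)
  refine ⟨enc s, ?_, (covers_enc d s).mpr hsd⟩
  rw [elem_spec hN hN24 hi Sprev hV s hslt hsc]
  intro d' hd' hsub
  have h1 := inter_prev_le hN hN24 hi Sprev hV hd hpd hd'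
  have h2 : s ⊆ d ∩ d' := Finset.subset_inter hsd hsub
  have h3 := Finset.card_le_card h2
  omega

end facts

end Cfsg.Agent.Lib.Helper95.Big
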