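import Mathlib
import Cfsg.Prelude.Def_Sporadic_a
import Cfsg.Agent.Lib.Helper95.BigSearch

set_option autoImplicit false

/-! Completeness of the symmetric exact cover search and the extension step. -/

namespace Cfsg.Agent.Lib.Helper95.Big

open Cfsg.Agent.Lib.Helper95.FinMask Cfsg.Agent.Lib.Helper95.ExactCover
open Cfsg.Agent.Lib.Helper26 (pc)
open scoped Pointwise

variable {N : ℕ}

section complete

variable {t i : ℕ} (hN : N = t + 19) (hN24 : N ≤ 24) (hi : i < t) (Sprev : List ℕ)

include hN hN24 hi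

theorem sprev_lt {B : Set (Finset (Fin N))} (hV : Valid t i Sprev B) :
    ∀ s ∈ Sprev, s < 2 ^ N := by
  intro s hs
  obtain ⟨d, -, rfl⟩ := (memSprev hN hN24 hi Sprev hV s).mp hs
  exact enc_lt d

theorem valid_smul_tab {B : Set (Finset (Fin N))} (hV : Valid t i Sprev B) (tbl inv : List ℕ)
    (hok : tabOk (19 + i) tbl inv = true)
    (h1 : ∀ s ∈ Sprev, applyTab (19 + i) inv s ∈ Sprev)
    (h2 : ∀ s ∈ Sprev, applyTab (19 + i) tbl s ∈ Sprev) :
    Valid t i Sprev ((tabPerm (19 + i) tbl inv hok (by omega : 19 + i ≤ N)) • B) := by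
  refine ⟨steiner_smul _ hV.1, ?_⟩
  rw [lev_smul _ (19 + i) (tabPerm_fix (19 + i) tbl inv hok (by omega)) i (le_refl _)]
  exact enc_image_smul_tab (19 + i) tbl inv hok (by omega) hN24 (lev i B) Sprev Sprev hV.2 h1 h2
    (sprev_lt hN hN24 hi Sprev hV)

theorem rm_smul {B : Set (Finset (Fin N))} (tbl inv : List ℕ)
    (hok : tabOk (19 + i) tbl inv = true) {m : ℕ} (hm : m ∈ RmSet i B) :
    applyTab (19 + i) inv m ∈
      RmSet i ((tabPerm (19 + i) tbl inv hok (by omega : 19 + i ≤ N)) • B) := by
  obtain ⟨d, ⟨hd, hpd⟩, rfl⟩ := hm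
  have hfix := tabPerm_fix (N := N) (19 + i) tbl inv hok (by omega)
  refine ⟨(tabPerm (19 + i) tbl inv hok (by omega : 19 + i ≤ N)) • d, ⟨?_, ?_⟩, ?_⟩
  · rw [lev_smul _ (19 + i) hfix (i + 1) (by omega)]
    exact Set.smul_mem_smul_set hd
  · intro x hx hxv
    rw [Finset.mem_smul_finset] at hx
    obtain ⟨y, hy, rfl⟩ := hx
    have h1 := hfix _ (le_of_eq hxv.symm)
    have h2 : (tabPerm (19 + i) tbl inv hok (by omega : 19 + i ≤ N)) y = y :=
      (tabPerm (19 + i) tbl inv hok (by omega : 19 + i ≤ N)).injective h1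
    rw [Equiv.Perm.smul_def, h2] at hxv
    exact hpd y hy hxv
  · exact enc_smul_tabPerm (19 + i) tbl inv hok (by omega) hN24 d

theorem rm_smul_inv {B : Set (Finset (Fin N))} (tbl inv : List ℕ)
    (hok : tabOk (19 + i) tbl inv = true) {m : ℕ} (hm : m ∈ RmSet i B)
    (hm' : applyTab (19 + i) tbl m ∈ RmSet i B) :
    m ∈ RmSet i ((tabPerm (19 + i) tbl inv hok (by omega : 19 + i ≤ N)) • B) := by
  obtain ⟨d, -, rfl⟩ := hm
  have h4 : applyTab (19 + i) tbl (enc d) =
      enc ((tabPerm (19 + i) tbl inv hok (by omega : 19 + i ≤ N))⁻¹ • d) := by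
    rw [tabPerm_inv, enc_smul_tabPerm (19 + i) inv tbl (tabOk_symm hok) (by omega) hN24]
  rw [h4] at hm'
  obtain ⟨d1, hd1, hdd⟩ := hm'
  have h5 : d1 = (tabPerm (19 + i) tbl inv hok (by omega : 19 + i ≤ N))⁻¹ • d :=
    enc_injective hdd
  have h6 : d = (tabPerm (19 + i) tbl inv hok (by omega : 19 + i ≤ N)) • d1 := by
    rw [h5, smul_inv_smul]
  have h7 := rm_smul hN hN24 hi tbl inv hok (B := B) (m := enc d1) ⟨d1, hd1, rfl⟩
  rw [← enc_smul_tabPerm (19 + i) tbl inv hok (by omega) hN24, ← h6] at h7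
  exact h7

theorem search_complete_sym (rules : List Rule)
    (hrules : ∀ ru ∈ rules, ruleOk (19 + i) Sprev rules ru = true) :
    ∀ (fuel : ℕ) (B : Set (Finset (Fin N))), Valid t i Sprev B →
    ∀ (remaining chosen : List ℕ), chosen.Nodup → (∀ c ∈ chosen, c ∈ RmSet i B) →
    (∀ x, x ∈ remaining ↔
      x ∈ rowOf (dpL Sprev i (i + 4) (19 + i)) (i + 1) ∧ covered chosen x = false) →
    (rowOf (dpL Sprev i (i + 4) (19 + i)) (i + 4)).length < fuel + chosen.length →
    ∃ σ : Equiv.Perm (Fin N), Valid t i Sprev (σ • B) ∧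
      ∃ sol ∈ searchS i (rowOf (dpL Sprev i (i + 4) (19 + i)) (i + 4)) rules fuel remaining
        chosen, ∀ m, m ∈ sol ↔ m ∈ RmSet i (σ • B) := by
  intro fuel
  induction fuel with
  | zero =>
    intro B hV remaining chosen hnd hsub hrem hlt
    exfalso
    have h1 : chosen ⊆ rowOf (dpL Sprev i (i + 4) (19 + i)) (i + 4) :=
      fun c hc => mem_cands hN hN24 hi Sprev hV (hsub c hc)
    have h2 := (List.Nodup.subperm hnd h1).length_le
    omega
  | succ fuel ih =>
    intro B hV remaining chosen hnd hsub hrem hlt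
    cases remaining with
    | nil =>
      refine ⟨1, by rw [one_smul]; exact hV, chosen, by simp [searchS], ?_⟩
      rw [one_smul]
      intro m
      constructor
      · exact hsub m
      · intro hm
        obtain ⟨e, he, hme⟩ := block_covers hN hN24 hi Sprev hV hm
        have hcov : covered chosen e = true := by
          by_contra hcon
          have hcon' : covered chosen e = false := by simpa using hcon
          have := (hrem e).mpr ⟨he, hcon'⟩
          simp at this
        rw [covered, List.any_eq_true] at hcov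
        obtain ⟨c, hc, hce⟩ := hcov
        obtain ⟨r0, -, -, huniq⟩ := elem_covered hN hN24 hi Sprev hV he
        rw [huniq m hm hme, ← huniq c (hsub c hc) hce]
        exact hc
    | cons e rest =>
      have he : e ∈ rowOf (dpL Sprev i (i + 4) (19 + i)) (i + 1) ∧ covered chosen e = false :=
        (hrem e).mp List.mem_cons_self
      obtain ⟨r, hr, hre, -⟩ := elem_covered hN hN24 hi Sprev hV he.1
      have node : ∀ (B1 : Set (Finset (Fin N))), Valid t i Sprev B1 →
          (∀ c ∈ chosen, c ∈ RmSet i B1) → ∀ r1 ∈ RmSet i B1, covers r1 e = true →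
          skipped rules chosen e r1 = false →
          ∃ σ : Equiv.Perm (Fin N), Valid t i Sprev (σ • B1) ∧
            ∃ sol ∈ searchS i (rowOf (dpL Sprev i (i + 4) (19 + i)) (i + 4)) rules (fuel + 1)
              (e :: rest) chosen, ∀ m, m ∈ sol ↔ m ∈ RmSet i (σ • B1) := by
        intro B1 hV1 hsub1 r1 hr1 hr1e hnskip
        have hr1c : r1 ∉ chosen := by
          intro hmem
          have : covered chosen e = true := by
            rw [covered, List.any_eq_true]
            exact ⟨r1, hmem, hr1e⟩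
          rw [he.2] at this
          exact Bool.false_ne_true this
        have hfilter : r1 ∈ (rowOf (dpL Sprev i (i + 4) (19 + i)) (i + 4)).filter
            (fun r => covers r e && chosen.all (fun c => popLe i (r &&& c)) &&
              !(skipped rules chosen e r)) := by
          rw [List.mem_filter]
          refine ⟨mem_cands hN hN24 hi Sprev hV1 hr1, ?_⟩
          rw [Bool.and_eq_true, Bool.and_eq_true, List.all_eq_true]
          refine ⟨⟨hr1e, fun c hc => ?_⟩, by rw [hnskip]; rfl⟩
          exact compat hN hN24 hi Sprev hV1 hr1 (hsub1 c hc) (fun h => hr1c (h ▸ hc))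
        have hrem' : ∀ x, x ∈ rest.filter (fun x => !(covers r1 x)) ↔
            x ∈ rowOf (dpL Sprev i (i + 4) (19 + i)) (i + 1) ∧
              covered (r1 :: chosen) x = false := by
          intro x
          have hcons : covered (r1 :: chosen) x = (covers r1 x || covered chosen x) := by
            rw [covered, covered, List.any_cons]
          rw [hcons, List.mem_filter]
          constructor
          · rintro ⟨hx, hcx⟩
            have h1 := (hrem x).mp (List.mem_cons_of_mem _ hx)
            have hcx' : covers r1 x = false := by simpa using hcx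
            exact ⟨h1.1, by rw [hcx', h1.2]; rfl⟩
          · rintro ⟨hx, hcx⟩
            have hcx' : covers r1 x = false ∧ covered chosen x = false := by
              simpa using hcx
            have h1 := (hrem x).mpr ⟨hx, hcx'.2⟩
            rcases List.mem_cons.mp h1 with rfl | h1
            · rw [hr1e] at hcx'
              exact absurd hcx'.1 (by simp)
            · exact ⟨h1, by rw [hcx'.1]; rfl⟩
        obtain ⟨σ, hVσ, sol, hsol, hsolm⟩ := ih B1 hV1 (rest.filter (fun x => !(covers r1 x)))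
          (r1 :: chosen) (List.nodup_cons.mpr ⟨hr1c, hnd⟩)
          (by
            intro c hc
            rcases List.mem_cons.mp hc with rfl | hc
            · exact hr1
            · exact hsub1 c hc)
          hrem'
          (by rw [List.length_cons]; omega)
        refine ⟨σ, hVσ, sol, ?_, hsolm⟩
        rw [searchS_cons, List.mem_flatMap]
        exact ⟨r1, hfilter, hsol⟩
      by_cases hskip : skipped rules chosen e r = true
      · rw [skipped, List.any_eq_true] at hskip
        obtain ⟨ru, hru, hmatch⟩ := hskip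
        rw [Bool.and_eq_true, Bool.and_eq_true, beq_iff_eq, beq_iff_eq, beq_iff_eq] at hmatch
        obtain ⟨⟨hR, hE⟩, hC⟩ := hmatch
        have hok := hrules ru hru
        simp only [ruleOk, Bool.and_eq_true, List.all_eq_true, List.contains_eq_mem,
          decide_eq_true_eq, Bool.not_eq_eq_eq_not, Bool.not_true] at hok
        obtain ⟨⟨⟨⟨⟨⟨htab, hS1⟩, hS2⟩, hC1⟩, hC2⟩, hcov⟩, hns⟩ := hok
        rw [hE, hR] at hcov
        rw [hC, hE, hR] at hns
        rw [hC] at hC2
        have hV1 := valid_smul_tab hN hN24 hi Sprev hV ru.tbl ru.inv htab hS1 hS2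
        have hsub1 : ∀ c ∈ chosen, c ∈
            RmSet i ((tabPerm (19 + i) ru.tbl ru.inv htab (by omega : 19 + i ≤ N)) • B) :=
          fun c hc => rm_smul_inv hN hN24 hi ru.tbl ru.inv htab (hsub c hc) (hsub _ (hC2 c hc))
        have hr1 := rm_smul hN hN24 hi ru.tbl ru.inv htab hr
        obtain ⟨σ, hVσ, sol, hsol, hsolm⟩ := node _ hV1 hsub1 _ hr1 hcov hns
        refine ⟨σ * (tabPerm (19 + i) ru.tbl ru.inv htab (by omega : 19 + i ≤ N)), ?_, sol,
          hsol, ?_⟩
        · rw [mul_smul]
          exact hVσ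
        · rw [mul_smul]
          exact hsolm
      · exact node B hV hsub r hr hre (by simpa using hskip)

end complete

theorem step {t i : ℕ} (hN : N = t + 19) (hN24 : N ≤ 24) (hi : i < t)
    (Sprev Snext : List ℕ) (fuel : ℕ) (rules : List Rule) (tabs : List (List ℕ × List ℕ))
    (hchk : levelCheck i Sprev Snext fuel rules tabs = true)
    {B : Set (Finset (Fin N))} (hV : Valid t i Sprev B) :
    ∃ τ : Equiv.Perm (Fin N), enc '' lev (i + 1) (τ • B) = {m | m ∈ Snext} := by
  have hpN : 19 + i < N := by omega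
  simp only [levelCheck, levelCheckAux, Bool.and_eq_true, List.all_eq_true, decide_eq_true_eq,
    List.any_eq_true] at hchk
  obtain ⟨⟨⟨hSnextlt, hfuel⟩, hrules⟩, hsols⟩ := hchk
  obtain ⟨σ, hVσ, sol, hsol, hsolm⟩ := search_complete_sym hN hN24 hi Sprev rules hrules fuel B hV
    (rowOf (dpL Sprev i (i + 4) (19 + i)) (i + 1)) [] List.nodup_nil (by simp)
    (by intro x; simp [covered]) (by simpa using hfuel)
  obtain ⟨tab, -, htab⟩ := hsols sol hsol
  simp only [tabCheck, Bool.and_eq_true, List.all_eq_true, List.contains_eq_mem,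
    decide_eq_true_eq] at htab
  obtain ⟨⟨hok, hfwd⟩, hbwd⟩ := htab
  have hext : ∀ m, m ∈ extOf i Sprev sol ↔ ∃ d ∈ lev (i + 1) (σ • B), enc d = m := by
    intro m
    rw [extOf, List.mem_append, List.mem_map]
    constructor
    · rintro (⟨s, hs, rfl⟩ | hm)
      · obtain ⟨d', hd', rfl⟩ := (memSprev hN hN24 hi Sprev hVσ s).mp hs
        exact ⟨insert (⟨19 + i, hpN⟩ : Fin N) d', (mem_lev_succ hpN _ hd'.1).mpr hd',
          enc_insert_of_notMem d' _⟩
      · obtain ⟨d, ⟨hd, -⟩, rfl⟩ := (hsolm m).mp hm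
        exact ⟨d, hd, rfl⟩
    · rintro ⟨d, hd, rfl⟩
      by_cases hpd : (⟨19 + i, hpN⟩ : Fin N) ∈ d
      · left
        refine ⟨enc (d.erase ⟨19 + i, hpN⟩),
          (memSprev hN hN24 hi Sprev hVσ _).mpr ⟨_, erase_mem_lev hpN hd hpd, rfl⟩, ?_⟩
        rw [← enc_insert_of_notMem (d.erase ⟨19 + i, hpN⟩) ⟨19 + i, hpN⟩, Finset.insert_erase hpd]
      · right
        apply (hsolm _).mpr
        refine ⟨d, ⟨hd, ?_⟩, rfl⟩
        intro x hx hxv
        apply hpd
        have : x = (⟨19 + i, hpN⟩ : Fin N) := Fin.ext hxv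
        rw [← this]
        exact hx
  have hX : enc '' lev (i + 1) (σ • B) = {m | m ∈ extOf i Sprev sol} := by
    ext m
    constructor
    · rintro ⟨d, hd, rfl⟩
      exact (hext _).mpr ⟨d, hd, rfl⟩
    · intro hm
      obtain ⟨d, hd, hdm⟩ := (hext m).mp hm
      exact ⟨d, hd, hdm⟩
  have hlt : ∀ s ∈ Snext, s < 2 ^ N := by
    intro s hs
    exact lt_of_lt_of_le (hSnextlt s hs) (Nat.pow_le_pow_right (by norm_num) (by omega))
  have hfin := enc_image_smul_tab (19 + i) tab.1 tab.2 hok (by omega) hN24 (lev (i + 1) (σ • B))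
    (extOf i Sprev sol) Snext hX hfwd hbwd hlt
  refine ⟨(tabPerm (19 + i) tab.1 tab.2 hok (by omega : 19 + i ≤ N)) * σ, ?_⟩
  rw [mul_smul, lev_smul _ (19 + i) (tabPerm_fix (19 + i) tab.1 tab.2 hok (by omega)) (i + 1)
    (by omega)]
  exact hfin

end Cfsg.Agent.Lib.Helper95.Big
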