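import Mathlib
import Cfsg.Prelude.Def_Sporadic_a
import Cfsg.Agent.Lib.Helper95.BigStep

set_option autoImplicit false

/-! The chain of extension steps for the large Steiner systems, on `Fin N`. -/

namespace Cfsg.Agent.Lib.Helper95.Big

open Cfsg.Agent.Lib.Helper95.FinMask Cfsg.Agent.Lib.Helper95.ExactCover
open scoped Pointwise

variable {N : ℕ}

/-- some permutation brings level `i` of `B` to the mask list `S` -/
def Reach (i : ℕ) (S : List ℕ) (B : Set (Finset (Fin N))) : Prop :=
  ∃ τ : Equiv.Perm (Fin N), enc '' lev i (τ • B) = {m | m ∈ S}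

theorem reach_step {t i : ℕ} (hN : N = t + 19) (hN24 : N ≤ 24) (hi : i < t)
    (Sprev Snext : List ℕ) (fuel : ℕ) (rules : List Rule) (tabs : List (List ℕ × List ℕ))
    (hchk : levelCheck i Sprev Snext fuel rules tabs = true)
    {B : Set (Finset (Fin N))} (hB : Cfsg.IsSteinerSystem t (t + 3) B)
    (h : Reach i Sprev B) : Reach (i + 1) Snext B := by
  obtain ⟨τ, hinv⟩ := h
  obtain ⟨τ', h'⟩ := step hN hN24 hi Sprev Snext fuel rules tabs hchk
    (B := τ • B) ⟨steiner_smul τ hB, hinv⟩
  refine ⟨τ' * τ, ?_⟩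
  rw [mul_smul]
  exact h'

theorem reach_zero {t : ℕ} (hN : N = t + 19) {B : Set (Finset (Fin N))}
    (hB : Cfsg.IsSteinerSystem t (t + 3) B) : Reach 0 [7] B := by
  classical
  obtain ⟨d, hd, -⟩ := lev_exists hN (Nat.zero_le t) hB ∅ (by simp) rfl
  have hdc : d.card = 3 := by
    have := lev_card hN (Nat.zero_le t) hB hd
    omega
  have hL : lev 0 B = {d} := by
    ext d'
    constructor
    · intro hd'
      exact lev_unique hN (Nat.zero_le t) hB ∅ (by simp) rfl hd' hd (Finset.empty_subset _)
        (Finset.empty_subset _)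
    · intro h
      rw [Set.mem_singleton_iff] at h
      rw [h]
      exact hd
  have hdlt : ∀ x ∈ d, x.val < 19 := by
    intro x hx
    have := hd.1 x hx
    omega
  -- the two embeddings of `Fin 3` into the points below 19
  let u : Fin 3 ↪ {x : Fin N // x.val < 19} :=
    ⟨fun j => ⟨d.orderEmbOfFin hdc j, hdlt _ (Finset.orderEmbOfFin_mem d hdc j)⟩, by
      intro a b hab
      have h1 : d.orderEmbOfFin hdc a = d.orderEmbOfFin hdc b :=
        congrArg (fun z : {x : Fin N // x.val < 19} => z.1) hab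
      exact (d.orderEmbOfFin hdc).injective h1⟩
  let v : Fin 3 ↪ {x : Fin N // x.val < 19} :=
    ⟨fun j => ⟨⟨j.val, by have := j.isLt; omega⟩, by have := j.isLt; simp only; omega⟩, by
      intro a b hab
      have h1 := congrArg (fun z : {x : Fin N // x.val < 19} => z.1.val) hab
      exact Fin.ext h1⟩
  obtain ⟨f, hf⟩ := Equiv.Perm.exists_smul_eq_embedding u v
  have hfix : ∀ x : Fin N, 19 ≤ x.val → (Equiv.Perm.ofSubtype f) x = x := by
    intro x hx
    exact Equiv.Perm.ofSubtype_apply_of_not_mem f (by omega)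
  have hu : ∀ j : Fin 3, (Equiv.Perm.ofSubtype f) (d.orderEmbOfFin hdc j) =
      ⟨j.val, by have := j.isLt; omega⟩ := by
    intro j
    have h1 : f (u j) = v j := DFunLike.congr_fun hf j
    have h2 := Equiv.Perm.ofSubtype_apply_of_mem f (a := d.orderEmbOfFin hdc j)
      (hdlt _ (Finset.orderEmbOfFin_mem d hdc j))
    rw [h2]
    exact congrArg Subtype.val h1
  refine ⟨Equiv.Perm.ofSubtype f, ?_⟩
  rw [lev_smul _ 19 hfix 0 (le_refl _), hL, Set.smul_set_singleton, Set.image_singleton]
  have henc : enc ((Equiv.Perm.ofSubtype f) • d) = 7 := by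
    apply enc_eq_of_testBit
    · have : (7 : ℕ) < 2 ^ 19 := by norm_num
      exact lt_of_lt_of_le this (Nat.pow_le_pow_right (by norm_num) (by omega))
    · intro x
      have h7 : (7 : ℕ).testBit x.val = decide (x.val < 3) := by
        have : (7 : ℕ) = 2 ^ 3 - 1 := by norm_num
        rw [this, Nat.testBit_two_pow_sub_one]
      rw [h7, decide_eq_true_eq, Finset.mem_smul_finset]
      constructor
      · rintro ⟨y, hy, rfl⟩
        have hy' : y ∈ Set.range (d.orderEmbOfFin hdc) := by
          rw [Finset.range_orderEmbOfFin]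
          exact hy
        obtain ⟨j, rfl⟩ := hy'
        rw [Equiv.Perm.smul_def, hu j]
        exact j.isLt
      · intro hx
        refine ⟨d.orderEmbOfFin hdc ⟨x.val, hx⟩, Finset.orderEmbOfFin_mem d hdc _, ?_⟩
        rw [Equiv.Perm.smul_def, hu]
  rw [henc]
  ext m
  simp

theorem reach_top {t : ℕ} (hN : N = t + 19) {S : List ℕ} {B : Set (Finset (Fin N))}
    (h : Reach t S B) :
    ∃ τ : Equiv.Perm (Fin N), τ • B = {b | enc b ∈ S} := by
  obtain ⟨τ, h⟩ := h
  refine ⟨τ, ?_⟩
  rw [lev_top hN] at h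
  ext b
  constructor
  · intro hb
    have : enc b ∈ enc '' (τ • B) := ⟨b, hb, rfl⟩
    rw [h] at this
    exact this
  · intro hb
    have : enc b ∈ enc '' (τ • B) := by
      rw [h]
      exact hb
    obtain ⟨b', hb', hbb⟩ := this
    rw [← enc_injective hbb]
    exact hb'

/-! ### set systems under bijections -/

section imgSys

variable {α β γ : Type*} [DecidableEq β] [DecidableEq γ]

/-- the image of a set system under a bijection -/
def imgSys (e : α ≃ β) (B : Set (Finset α)) : Set (Finset β) := (fun b => b.image e) '' B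

theorem imgSys_trans (e : α ≃ β) (f : β ≃ γ) (B : Set (Finset α)) :
    imgSys (e.trans f) B = imgSys f (imgSys e B) := by
  unfold imgSys
  rw [Set.image_image]
  apply Set.image_congr
  intro b _
  rw [Finset.image_image]
  rfl

theorem imgSys_refl [DecidableEq α] (B : Set (Finset α)) : imgSys (Equiv.refl α) B = B := by
  unfold imgSys
  have : (fun b : Finset α => b.image (Equiv.refl α)) = id := by
    funext b
    simp
  rw [this, Set.image_id]

theorem imgSys_symm [DecidableEq α] (e : α ≃ β) (B : Set (Finset α)) :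
    imgSys e.symm (imgSys e B) = B := by
  rw [← imgSys_trans, Equiv.self_trans_symm, imgSys_refl]

theorem smul_eq_imgSys [DecidableEq α] (g : Equiv.Perm α) (B : Set (Finset α)) :
    g • B = imgSys g B := rfl

theorem steiner_imgSys (e : α ≃ β) {t k : ℕ} {B : Set (Finset α)}
    (hB : Cfsg.IsSteinerSystem t k B) : Cfsg.IsSteinerSystem t k (imgSys e B) :=
  steiner_image e hB

end imgSys

/-- uniqueness from a normal form on `Fin N` -/
theorem setSystemIso_of_norm {t k : ℕ} (Std : Set (Finset (Fin N)))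
    (hnorm : ∀ B : Set (Finset (Fin N)), Cfsg.IsSteinerSystem t k B →
      ∃ τ : Equiv.Perm (Fin N), τ • B = Std)
    {α β : Type*} [Fintype α] [DecidableEq α] [Fintype β] [DecidableEq β]
    (hα : Fintype.card α = N) (hβ : Fintype.card β = N) {B : Set (Finset α)}
    {B' : Set (Finset β)} (hB : Cfsg.IsSteinerSystem t k B)
    (hB' : Cfsg.IsSteinerSystem t k B') : Cfsg.SetSystemIso B B' := by
  obtain ⟨τ, hτ⟩ := hnorm _ (steiner_imgSys (Fintype.equivFinOfCardEq hα) hB)
  obtain ⟨τ', hτ'⟩ := hnorm _ (steiner_imgSys (Fintype.equivFinOfCardEq hβ) hB')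
  rw [smul_eq_imgSys, ← imgSys_trans] at hτ hτ'
  refine ⟨((Fintype.equivFinOfCardEq hα).trans τ).trans
    ((Fintype.equivFinOfCardEq hβ).trans τ').symm, ?_⟩
  show imgSys _ B = B'
  rw [imgSys_trans, hτ, ← hτ', imgSys_symm]

end Cfsg.Agent.Lib.Helper95.Big
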