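import Mathlib
import Cfsg.Prelude.Def_Sporadic_a
import Cfsg.Agent.Lib.Helper95.BigChain
import Cfsg.Agent.Lib.Helper95.BigCheck0
import Cfsg.Agent.Lib.Helper95.BigCheck1

set_option autoImplicit false

/-! Normal form of the Steiner systems `S(2,5,21)` on `Fin 21`. -/

namespace Cfsg.Agent.Lib.Helper95.Big

open Cfsg.Agent.Lib.Helper95.FinMask
open scoped Pointwise

/-- the standard `S(2,5,21)` -/
def Std21 : Set (Finset (Fin 21)) := {b | enc b ∈ lvl2}

theorem reach2 {N t : ℕ} (hN : N = t + 19) (hN24 : N ≤ 24) (ht : 2 ≤ t)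
    {B : Set (Finset (Fin N))} (hB : Cfsg.IsSteinerSystem t (t + 3) B) : Reach 2 lvl2 B := by
  have h0 : Reach 0 lvl0 B := reach_zero hN hB
  have h1 := reach_step hN hN24 (by omega) _ _ _ _ _ levelCheck0 hB h0
  exact reach_step hN hN24 (by omega) _ _ _ _ _ levelCheck1 hB h1

theorem norm21 (B : Set (Finset (Fin 21))) (hB : Cfsg.IsSteinerSystem 2 5 B) :
    ∃ τ : Equiv.Perm (Fin 21), τ • B = Std21 := by
  have hB' : Cfsg.IsSteinerSystem 2 (2 + 3) B := hB
  exact reach_top (t := 2) rfl (reach2 (t := 2) rfl (by norm_num) (le_refl _) hB')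

end Cfsg.Agent.Lib.Helper95.Big
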