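import Mathlib
import Cfsg.Prelude.Def_Sporadic_a
import Cfsg.Agent.Lib.Helper95.BigNorm
import Cfsg.Agent.Lib.Helper95.BigCheck2

set_option autoImplicit false

/-! Normal form of the Steiner systems `S(3,6,22)` on `Fin 22`. -/

namespace Cfsg.Agent.Lib.Helper95.Big

open Cfsg.Agent.Lib.Helper95.FinMask
open scoped Pointwise

/-- the standard `S(3,6,22)` -/
def Std22 : Set (Finset (Fin 22)) := {b | enc b ∈ lvl3}

theorem reach3 {N t : ℕ} (hN : N = t + 19) (hN24 : N ≤ 24) (ht : 3 ≤ t)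
    {B : Set (Finset (Fin N))} (hB : Cfsg.IsSteinerSystem t (t + 3) B) : Reach 3 lvl3 B :=
  reach_step hN hN24 (by omega) _ _ _ _ _ levelCheck2 hB (reach2 hN hN24 (by omega) hB)

theorem norm22 (B : Set (Finset (Fin 22))) (hB : Cfsg.IsSteinerSystem 3 6 B) :
    ∃ τ : Equiv.Perm (Fin 22), τ • B = Std22 := by
  have hB' : Cfsg.IsSteinerSystem 3 (3 + 3) B := hB
  exact reach_top (t := 3) rfl (reach3 (t := 3) rfl (by norm_num) (le_refl _) hB')

end Cfsg.Agent.Lib.Helper95.Big
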