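import Mathlib
import Cfsg.Prelude.Def_Sporadic_a
import Cfsg.Agent.Lib.Helper95.BigNorm22
import Cfsg.Agent.Lib.Helper95.BigCheck3
import Cfsg.Agent.Lib.Helper95.BigExt

set_option autoImplicit false

/-! Normal form of the Steiner systems `S(4,7,23)` on `Fin 23`, and of `S(5,8,24)` on `Fin 24`. -/

namespace Cfsg.Agent.Lib.Helper95.Big

open Cfsg.Agent.Lib.Helper95.FinMask
open scoped Pointwise

/-- the standard `S(4,7,23)` -/
def Std23 : Set (Finset (Fin 23)) := {b | enc b ∈ lvl4}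

theorem reach4 {N t : ℕ} (hN : N = t + 19) (hN24 : N ≤ 24) (ht : 4 ≤ t)
    {B : Set (Finset (Fin N))} (hB : Cfsg.IsSteinerSystem t (t + 3) B) : Reach 4 lvl4 B :=
  reach_step hN hN24 (by omega) _ _ _ _ _ levelCheck3 hB (reach3 hN hN24 (by omega) hB)

theorem norm23 (B : Set (Finset (Fin 23))) (hB : Cfsg.IsSteinerSystem 4 7 B) :
    ∃ τ : Equiv.Perm (Fin 23), τ • B = Std23 := by
  have hB' : Cfsg.IsSteinerSystem 4 (4 + 3) B := hB
  exact reach_top (t := 4) rfl (reach4 (t := 4) rfl (by norm_num) (le_refl _) hB')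

/-- the blocks through the last point are given by level 4 -/
theorem mem_iff_erase_mem_lev (B : Set (Finset (Fin 24))) (b : Finset (Fin 24))
    (hb : (23 : Fin 24) ∈ b) : b ∈ B ↔ b.erase 23 ∈ lev 4 B := by
  have hmk : mk 24 4 = {(23 : Fin 24)} := by
    ext x
    rw [mem_mk, Finset.mem_singleton]
    constructor
    · intro h
      apply Fin.ext
      have := x.isLt
      show x.val = 23
      omega
    · intro h
      rw [h]
      show 19 + 4 ≤ 23
      norm_num
  have hunion : b.erase 23 ∪ mk 24 4 = b := by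
    rw [hmk, Finset.union_comm, ← Finset.insert_eq, Finset.insert_erase hb]
  constructor
  · intro h
    refine ⟨?_, by rw [hunion]; exact h⟩
    intro x hx
    have h1 := (Finset.mem_erase.mp hx).1
    have h2 : x.val ≠ 23 := fun h => h1 (Fin.ext h)
    have := x.isLt
    omega
  · intro h
    have := h.2
    rwa [hunion] at this

theorem norm24 (B B' : Set (Finset (Fin 24))) (hB : Cfsg.IsSteinerSystem 5 8 B)
    (hB' : Cfsg.IsSteinerSystem 5 8 B') :
    ∃ τ τ' : Equiv.Perm (Fin 24), τ • B = τ' • B' := by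
  have h1 : Cfsg.IsSteinerSystem 5 (5 + 3) B := hB
  have h2 : Cfsg.IsSteinerSystem 5 (5 + 3) B' := hB'
  obtain ⟨τ, hτ⟩ := reach4 (N := 24) (t := 5) rfl (le_refl _) (by norm_num) h1
  obtain ⟨τ', hτ'⟩ := reach4 (N := 24) (t := 5) rfl (le_refl _) (by norm_num) h2
  refine ⟨τ, τ', ?_⟩
  have hlev : lev 4 (τ • B) = lev 4 (τ' • B') := by
    apply (Set.image_eq_image enc_injective).mp
    rw [hτ, hτ']
  apply ext_unique (by simp) (steiner_smul τ hB) (steiner_smul τ' hB') (23 : Fin 24)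
  intro b hb
  rw [mem_iff_erase_mem_lev _ b hb, mem_iff_erase_mem_lev _ b hb, hlev]

/-- uniqueness from a two-sided normal form on `Fin N` -/
theorem setSystemIso_of_norm' {N t k : ℕ}
    (hnorm : ∀ B B' : Set (Finset (Fin N)), Cfsg.IsSteinerSystem t k B →
      Cfsg.IsSteinerSystem t k B' → ∃ τ τ' : Equiv.Perm (Fin N), τ • B = τ' • B')
    {α β : Type*} [Fintype α] [DecidableEq α] [Fintype β] [DecidableEq β]
    (hα : Fintype.card α = N) (hβ : Fintype.card β = N) {B : Set (Finset α)}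
    {B' : Set (Finset β)} (hB : Cfsg.IsSteinerSystem t k B)
    (hB' : Cfsg.IsSteinerSystem t k B') : Cfsg.SetSystemIso B B' := by
  obtain ⟨τ, τ', hτ⟩ := hnorm _ _ (steiner_imgSys (Fintype.equivFinOfCardEq hα) hB)
    (steiner_imgSys (Fintype.equivFinOfCardEq hβ) hB')
  rw [smul_eq_imgSys, smul_eq_imgSys, ← imgSys_trans, ← imgSys_trans] at hτ
  refine ⟨((Fintype.equivFinOfCardEq hα).trans τ).trans
    ((Fintype.equivFinOfCardEq hβ).trans τ').symm, ?_⟩
  show imgSys _ B = B'
  rw [imgSys_trans, hτ, imgSys_symm]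

end Cfsg.Agent.Lib.Helper95.Big
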