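import Mathlib
import Cfsg.Prelude.Def_Sporadic_a
import Cfsg.Agent.Lib.Helper95.BigChain

set_option autoImplicit false

/-! Binary codes spanned by their words of weight 8 are determined by these words. -/

namespace Cfsg.Agent.Lib.Helper95.Big

open Cfsg

section

variable {α β : Type*} [Fintype α] [Fintype β] [DecidableEq α] [DecidableEq β]

omit [DecidableEq α] in
theorem eq_of_support₂_eq (v w : α → ZMod 2) (h : support₂ v = support₂ w) : v = w := by
  funext a
  have h1 : a ∈ support₂ v ↔ a ∈ support₂ w := by rw [h]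
  simp only [support₂, Finset.mem_filter, Finset.mem_univ, true_and] at h1
  have key : ∀ x : ZMod 2, x = 0 ∨ x = 1 := by decide
  rcases key (v a) with hv | hv <;> rcases key (w a) with hw | hw
  · rw [hv, hw]
  · rw [hv, hw] at h1
    simp at h1
  · rw [hv, hw] at h1
    simp at h1
  · rw [hv, hw]

omit [DecidableEq α] in
theorem support₂_comp (e : α ≃ β) (w : β → ZMod 2) :
    (support₂ (fun i => w (e i))).image e = support₂ w := by
  ext b
  simp only [support₂, Finset.mem_image, Finset.mem_filter, Finset.mem_univ, true_and]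
  constructor
  · rintro ⟨i, hi, rfl⟩
    exact hi
  · intro hb
    exact ⟨e.symm b, by rw [e.apply_symm_apply]; exact hb, e.apply_symm_apply b⟩

omit [DecidableEq α] [DecidableEq β] in
theorem hammingNorm_comp (e : α ≃ β) (w : β → ZMod 2) :
    hammingNorm (fun i => w (e i)) = hammingNorm w := by
  classical
  have h1 : hammingNorm (fun i => w (e i)) = (support₂ (fun i => w (e i))).card := rfl
  have h2 : hammingNorm w = (support₂ w).card := rfl
  rw [h1, h2, ← support₂_comp e w, Finset.card_image_of_injective _ e.injective]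

omit [DecidableEq α] [DecidableEq β] in
theorem mem_wordsOfWeight (C : Submodule (ZMod 2) (α → ZMod 2)) (b : Finset α) :
    b ∈ wordsOfWeight (C : Set (α → ZMod 2)) 8 ↔
      ∃ v : α → ZMod 2, v ∈ C ∧ hammingNorm v = 8 ∧ support₂ v = b := by
  constructor
  · rintro ⟨⟨v, hv, rfl⟩, hc⟩
    exact ⟨v, hv, hc, rfl⟩
  · rintro ⟨v, hv, hc, rfl⟩
    exact ⟨⟨v, hv, rfl⟩, hc⟩

/-- two codes spanned by their words of weight 8, whose words of weight 8 correspond under a
bijection of the coordinates, correspond under that bijection -/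
theorem code_iff_of_imgSys (C : Submodule (ZMod 2) (α → ZMod 2))
    (G : Submodule (ZMod 2) (β → ZMod 2))
    (hC : Submodule.span (ZMod 2) {w : α → ZMod 2 | w ∈ C ∧ hammingNorm w = 8} = C)
    (hG : Submodule.span (ZMod 2) {w : β → ZMod 2 | w ∈ G ∧ hammingNorm w = 8} = G)
    (e : α ≃ β)
    (he : imgSys e (wordsOfWeight (C : Set (α → ZMod 2)) 8) =
      wordsOfWeight (G : Set (β → ZMod 2)) 8) :
    ∀ w : β → ZMod 2, w ∈ G ↔ (fun i => w (e i)) ∈ C := by
  have hΦ : ∀ w : β → ZMod 2, LinearMap.funLeft (ZMod 2) (ZMod 2) e w = fun i => w (e i) :=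
    fun w => rfl
  -- words of weight 8 of `G` go to `C`
  have claim1 : ∀ w : β → ZMod 2, w ∈ G → hammingNorm w = 8 → (fun i => w (e i)) ∈ C := by
    intro w hw h8
    have hmem : support₂ w ∈ wordsOfWeight (G : Set (β → ZMod 2)) 8 :=
      (mem_wordsOfWeight G _).mpr ⟨w, hw, h8, rfl⟩
    rw [← he] at hmem
    obtain ⟨b, hb, hbw⟩ := hmem
    obtain ⟨v, hv, -, rfl⟩ := (mem_wordsOfWeight C b).mp hb
    have h1 : (support₂ (fun i => w (e i))).image e = (support₂ v).image e := by
      rw [support₂_comp]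
      exact hbw.symm
    have h2 := Finset.image_injective e.injective h1
    rw [eq_of_support₂_eq _ _ h2]
    exact hv
  -- words of weight 8 of `C` come from `G`
  have claim2 : ∀ v : α → ZMod 2, v ∈ C → hammingNorm v = 8 →
      ∃ w : β → ZMod 2, w ∈ G ∧ (fun i => w (e i)) = v := by
    intro v hv h8
    have hmem : (support₂ v).image e ∈ imgSys e (wordsOfWeight (C : Set (α → ZMod 2)) 8) :=
      ⟨support₂ v, (mem_wordsOfWeight C _).mpr ⟨v, hv, h8, rfl⟩, rfl⟩
    rw [he] at hmem
    obtain ⟨w, hw, -, hsw⟩ := (mem_wordsOfWeight G _).mp hmem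
    refine ⟨w, hw, ?_⟩
    apply eq_of_support₂_eq
    apply Finset.image_injective e.injective
    rw [support₂_comp]
    exact hsw
  have hle1 : G.map (LinearMap.funLeft (ZMod 2) (ZMod 2) e) ≤ C := by
    rw [← hG, Submodule.map_span, Submodule.span_le]
    rintro _ ⟨w, ⟨hw, h8⟩, rfl⟩
    rw [hΦ]
    exact claim1 w hw h8
  have hle2 : C ≤ G.map (LinearMap.funLeft (ZMod 2) (ZMod 2) e) := by
    conv_lhs => rw [← hC]
    rw [Submodule.span_le]
    rintro v ⟨hv, h8⟩
    obtain ⟨w, hw, hwv⟩ := claim2 v hv h8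
    exact ⟨w, hw, hwv⟩
  intro w
  constructor
  · intro hw
    exact hle1 ⟨w, hw, rfl⟩
  · intro hw
    obtain ⟨w', hw', hww⟩ := hle2 hw
    have : w' = w := by
      funext b
      have := congrFun hww (e.symm b)
      rw [hΦ] at this
      simpa using this
    rw [← this]
    exact hw'

/-- a code spanned by its words of weight 8, of the same dimension as a second code whose words of
weight 8 correspond under a bijection of the coordinates, corresponds to it under that bijection -/
theorem code_iff_of_imgSys' (C : Submodule (ZMod 2) (α → ZMod 2))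
    (G : Submodule (ZMod 2) (β → ZMod 2))
    (hC : Submodule.span (ZMod 2) {w : α → ZMod 2 | w ∈ C ∧ hammingNorm w = 8} = C)
    (hdim : Module.finrank (ZMod 2) C = Module.finrank (ZMod 2) G)
    (e : α ≃ β)
    (he : imgSys e (wordsOfWeight (C : Set (α → ZMod 2)) 8) =
      wordsOfWeight (G : Set (β → ZMod 2)) 8) :
    ∀ w : β → ZMod 2, w ∈ G ↔ (fun i => w (e i)) ∈ C := by
  have hΦ : ∀ w : β → ZMod 2, LinearMap.funLeft (ZMod 2) (ZMod 2) e w = fun i => w (e i) :=
    fun w => rfl
  have hinj : Function.Injective (LinearMap.funLeft (ZMod 2) (ZMod 2) e) :=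
    LinearMap.funLeft_injective_of_surjective _ _ _ e.surjective
  -- words of weight 8 of `C` come from `G`
  have claim2 : ∀ v : α → ZMod 2, v ∈ C → hammingNorm v = 8 →
      ∃ w : β → ZMod 2, w ∈ G ∧ (fun i => w (e i)) = v := by
    intro v hv h8
    have hmem : (support₂ v).image e ∈ imgSys e (wordsOfWeight (C : Set (α → ZMod 2)) 8) :=
      ⟨support₂ v, (mem_wordsOfWeight C _).mpr ⟨v, hv, h8, rfl⟩, rfl⟩
    rw [he] at hmem
    obtain ⟨w, hw, -, hsw⟩ := (mem_wordsOfWeight G _).mp hmem
    refine ⟨w, hw, ?_⟩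
    apply eq_of_support₂_eq
    apply Finset.image_injective e.injective
    rw [support₂_comp]
    exact hsw
  have hle2 : C ≤ G.map (LinearMap.funLeft (ZMod 2) (ZMod 2) e) := by
    conv_lhs => rw [← hC]
    rw [Submodule.span_le]
    rintro v ⟨hv, h8⟩
    obtain ⟨w, hw, hwv⟩ := claim2 v hv h8
    exact ⟨w, hw, hwv⟩
  have hfr : Module.finrank (ZMod 2) (G.map (LinearMap.funLeft (ZMod 2) (ZMod 2) e)) =
      Module.finrank (ZMod 2) G :=
    (LinearEquiv.finrank_eq (Submodule.equivMapOfInjective _ hinj G)).symm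
  have heq : C = G.map (LinearMap.funLeft (ZMod 2) (ZMod 2) e) :=
    Submodule.eq_of_le_of_finrank_eq hle2 (by rw [hfr, hdim])
  intro w
  constructor
  · intro hw
    rw [heq]
    exact ⟨w, hw, rfl⟩
  · intro hw
    rw [heq] at hw
    obtain ⟨w', hw', hww⟩ := hw
    have : w' = w := hinj hww
    rw [← this]
    exact hw'

end

end Cfsg.Agent.Lib.Helper95.Big
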