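import Mathlib
import Cfsg.Agent.Lib.Helper41.OmBNDefs

/-!
# S2549 hive (OmBN), common tools for the leaves CONJS / CONJL / CONJNE (helper95)

* `conjs_actsAs_conj` : `n⁻¹ E(u,v) n = E(n⁻¹ u, n⁻¹ v)`.
* `conjs_bmono_single`, `conjs_bmono_vw` : the action of a block monomial matrix on `δ_s` and on `W`.
* `conjs_symm` : the permutation of a block monomial isometry commutes with `e_i ↔ f_i`.
* `conjs_mem_B` : `E(α δ_s, β δ_t) ∈ B` if `oord s + oord t ≤ 2m`.
* `conjl_mem_B` : `E(α δ_s, c) ∈ B`, `c ∈ W`, if `oord s ≤ m`.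
-/

set_option autoImplicit false
set_option linter.unusedVariables false
set_option linter.unusedSectionVars false

namespace Cfsg.Agent.Lib.Helper41.OmBN

open Matrix Cfsg Cfsg.Agent.Lib.Helper13 Cfsg.Agent.Lib.Helper8 Cfsg.Agent.Lib.Helper43
  Cfsg.Agent.Lib.Helper41.SpBN

variable {F : Type*} [Field F] {m : ℕ} {a b : F}

/-- `n⁻¹ E(u,v) n = E(n⁻¹ u, n⁻¹ v)` -/
theorem conjs_actsAs_conj {g : OG F m a b} {u v : MIdx m → F} (hg : ActsAs F m a b g u v)
    (n : OG F m a b) :
    ActsAs F m a b (n⁻¹ * g * n) (mat n⁻¹ *ᵥ u) (mat n⁻¹ *ᵥ v) := by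
  intro x
  have h1 : mat (n⁻¹ * g * n) *ᵥ x = mat n⁻¹ *ᵥ (mat g *ᵥ (mat n *ᵥ x)) := by
    rw [mat_mul, mat_mul, ← Matrix.mulVec_mulVec, ← Matrix.mulVec_mulVec]
  have h2 : ∀ w : MIdx m → F, QuadraticMap.polar (⇑(minusForm m F a b)) w (mat n *ᵥ x)
      = QuadraticMap.polar (⇑(minusForm m F a b)) (mat n⁻¹ *ᵥ w) x := by
    intro w
    have := iso_polar (minusForm m F a b) n⁻¹ w (mat n *ᵥ x)
    rw [coe_inv_mulVec'] at this
    exact this.symm
  have h3 : minusForm m F a b (mat n⁻¹ *ᵥ v) = minusForm m F a b v := mat_preserves n⁻¹ v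
  have h4 : mat n⁻¹ *ᵥ (mat n *ᵥ x) = x := coe_inv_mulVec' (minusForm m F a b) n x
  rw [h1, hg (mat n *ᵥ x), eichlerLin_apply, eichlerLin_apply, h2 u, h2 v, h3]
  simp only [Matrix.mulVec_add, Matrix.mulVec_sub, Matrix.mulVec_smul, h4]

/-- a block monomial matrix maps `δ_s` to `d s • δ_{π s}` -/
theorem conjs_bmono_single {M : Matrix (MIdx m) (MIdx m) F} {π : Equiv.Perm (Idx m)}
    {d : Idx m → F} (h : IsBMono M π d) (s : Idx m) :
    M *ᵥ Pi.single (Sum.inl s) 1 = d s • Pi.single (Sum.inl (π s)) 1 := by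
  ext i
  rw [Matrix.mulVec_single_one, Matrix.col_apply]
  rcases i with i | j
  · have h1 : M (Sum.inl i) (Sum.inl s) = M.toBlocks₁₁ i s := rfl
    rw [h1, h.1 i s]
    by_cases hi : i = π s
    · subst hi
      simp
    · rw [if_neg hi]
      simp [Pi.single_apply, hi]
  · have h1 : M (Sum.inr j) (Sum.inl s) = M.toBlocks₂₁ j s := rfl
    rw [h1, h.2.2]
    simp

/-- a block monomial matrix maps `W` to `W` -/
theorem conjs_bmono_vw {M : Matrix (MIdx m) (MIdx m) F} {π : Equiv.Perm (Idx m)}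
    {d : Idx m → F} (h : IsBMono M π d) (c : Fin 2 → F) :
    M *ᵥ vw F m c = vw F m (M.toBlocks₂₂ *ᵥ c) := by
  ext i
  rw [Matrix.mulVec, dotProduct, Fintype.sum_sum_type]
  rcases i with i | j
  · have h1 : ∀ t : Fin 2, M (Sum.inl i) (Sum.inr t) = 0 := by
      intro t
      have : M (Sum.inl i) (Sum.inr t) = M.toBlocks₁₂ i t := rfl
      rw [this, h.2.1]; rfl
    simp [vw, h1]
  · have h2 : ∀ t : Idx m, M (Sum.inr j) (Sum.inl t) * vw F m c (Sum.inl t) = 0 := by
      intro t; simp [vw]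
    simp only [h2, Finset.sum_const_zero, zero_add]
    rfl

/-- `B(δ_s, x) = x (s.swap)` -/
theorem conjs_polar_single (s : Idx m) (x : MIdx m → F) :
    QuadraticMap.polar (⇑(minusForm m F a b)) (Pi.single (Sum.inl s) 1) x = x (Sum.inl s.swap) := by
  rcases s with i | i
  · exact polar_minusForm_inl m F a b i x
  · exact polar_minusForm_inr m F a b i x

/-- `Q(δ_s) = 0` -/
theorem conjs_Q_single (s : Idx m) :
    minusForm m F a b (Pi.single (Sum.inl s) 1) = 0 := by
  rcases s with i | i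
  · exact minusForm_single_inl m F a b i
  · exact minusForm_single_inr m F a b i

/-- the permutation of a block monomial isometry commutes with `e_i ↔ f_i` -/
theorem conjs_symm {g : OG F m a b} {π : Equiv.Perm (Idx m)} {d : Idx m → F}
    (h : IsBMono (mat g) π d) (s : Idx m) : π s.swap = (π s).swap := by
  have h1 := iso_polar (minusForm m F a b) g (Pi.single (Sum.inl s) 1)
    (Pi.single (Sum.inl s.swap) 1)
  rw [conjs_polar_single (a := a) (b := b) s, Pi.single_eq_same] at h1
  have h2 : mat g *ᵥ Pi.single (Sum.inl s) 1 = d s • Pi.single (Sum.inl (π s)) 1 :=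
    conjs_bmono_single h s
  have h3 : mat g *ᵥ Pi.single (Sum.inl s.swap) 1 = d s.swap • Pi.single (Sum.inl (π s.swap)) 1 :=
    conjs_bmono_single h s.swap
  rw [h2, h3, QuadraticMap.polar_smul_left, QuadraticMap.polar_smul_right,
    conjs_polar_single (a := a) (b := b)] at h1
  by_contra hne
  rw [Pi.single_apply, if_neg] at h1
  · simp at h1
  · intro h4
    apply hne
    exact (Sum.inl_injective h4).symm

theorem conjs_oord_swap (s : Idx m) :
    oord m (Sum.inl s.swap) + oord m (Sum.inl s) = 2 * m := by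
  rcases s with i | i
  · show 2 * m - (i : ℕ) + (i : ℕ) = 2 * m
    have := i.2
    omega
  · show (i : ℕ) + (2 * m - (i : ℕ)) = 2 * m
    have := i.2
    omega

theorem conjs_mat_apply (g : OG F m a b) (i j : MIdx m) :
    mat g i j = (mat g *ᵥ Pi.single j 1) i := by
  rw [Matrix.mulVec_single_one, Matrix.col_apply]

/-- `E(α δ_s, β δ_t) ∈ B` if `oord s + oord t ≤ 2m` -/
theorem conjs_mem_B {g : OG F m a b} {s t : Idx m} {α β : F}
    (hg : ActsAs F m a b g (α • Pi.single (Sum.inl s) 1) (β • Pi.single (Sum.inl t) 1))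
    (h : oord m (Sum.inl s) + oord m (Sum.inl t) ≤ 2 * m) : g ∈ Bo F m a b := by
  rw [mem_Bo_iff]
  intro i j hij
  have hne : j ≠ i := by
    intro h0; rw [h0] at hij; exact lt_irrefl _ hij
  rw [conjs_mat_apply, hg, eichlerLin_apply]
  simp only [QuadraticMap.polar_smul_left, QuadraticMap.map_smul, conjs_polar_single,
    conjs_Q_single, smul_eq_mul, mul_zero, zero_mul, zero_smul, sub_zero, Pi.add_apply,
    Pi.sub_apply, Pi.smul_apply]
  rw [Pi.single_eq_of_ne hne.symm, zero_add]
  simp only [Pi.zero_apply, sub_zero]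
  have hs := conjs_oord_swap s
  have ht := conjs_oord_swap t
  have e1 : (Pi.single j (1 : F) : MIdx m → F) (Sum.inl s.swap) * (Pi.single (Sum.inl t) (1 : F) : MIdx m → F) i = 0 := by
    by_cases h1 : (Sum.inl s.swap : MIdx m) = j
    · by_cases h2 : i = Sum.inl t
      · exfalso
        rw [← h1, h2] at hij
        omega
      · rw [Pi.single_eq_of_ne h2, mul_zero]
    · rw [Pi.single_eq_of_ne h1, zero_mul]
  have e2 : (Pi.single j (1 : F) : MIdx m → F) (Sum.inl t.swap) * (Pi.single (Sum.inl s) (1 : F) : MIdx m → F) i = 0 := by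
    by_cases h1 : (Sum.inl t.swap : MIdx m) = j
    · by_cases h2 : i = Sum.inl s
      · exfalso
        rw [← h1, h2] at hij
        omega
      · rw [Pi.single_eq_of_ne h2, mul_zero]
    · rw [Pi.single_eq_of_ne h1, zero_mul]
  linear_combination (α * β) * e1 - (α * β) * e2

/-- `B(c, δ_t) = 0` for `c ∈ W` and `t` an `e`/`f`-index -/
theorem conjl_polar_vw_inl (c : Fin 2 → F) (t : Idx m) :
    QuadraticMap.polar (⇑(minusForm m F a b)) (vw F m c) (Pi.single (Sum.inl t) 1) = 0 := by
  rw [QuadraticMap.polar_comm, conjs_polar_single]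
  rfl

/-- `E(α δ_s, c) ∈ B`, `c ∈ W`, if `oord s ≤ m` -/
theorem conjl_mem_B {g : OG F m a b} {s : Idx m} {α : F} {c : Fin 2 → F}
    (hg : ActsAs F m a b g (α • Pi.single (Sum.inl s) 1) (vw F m c))
    (h : oord m (Sum.inl s) ≤ m) : g ∈ Bo F m a b := by
  rw [mem_Bo_iff]
  intro i j hij
  have hne : j ≠ i := by
    intro h0; rw [h0] at hij; exact lt_irrefl _ hij
  rw [conjs_mat_apply, hg, eichlerLin_apply]
  simp only [QuadraticMap.polar_smul_left, conjs_polar_single, smul_eq_mul, Pi.add_apply,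
    Pi.sub_apply, Pi.smul_apply]
  rw [Pi.single_eq_of_ne hne.symm, zero_add]
  have hs := conjs_oord_swap s
  have e1 : (Pi.single j (1 : F) : MIdx m → F) (Sum.inl s.swap) * vw F m c i = 0 := by
    by_cases h1 : (Sum.inl s.swap : MIdx m) = j
    · rcases i with i | w
      · have : vw F m c (Sum.inl i) = 0 := rfl
        rw [this, mul_zero]
      · exfalso
        rw [← h1] at hij
        simp only [oord_w] at hij
        omega
    · rw [Pi.single_eq_of_ne h1, zero_mul]
  have e2 : QuadraticMap.polar (⇑(minusForm m F a b)) (vw F m c) (Pi.single j 1)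
      * (Pi.single (Sum.inl s) (1 : F) : MIdx m → F) i = 0 := by
    by_cases h2 : i = Sum.inl s
    · rcases j with t | w
      · rw [conjl_polar_vw_inl, zero_mul]
      · exfalso
        rw [h2] at hij
        simp only [oord_w] at hij
        omega
    · rw [Pi.single_eq_of_ne h2, mul_zero]
  have e3 : (Pi.single j (1 : F) : MIdx m → F) (Sum.inl s.swap)
      * (Pi.single (Sum.inl s) (1 : F) : MIdx m → F) i = 0 := by
    by_cases h1 : (Sum.inl s.swap : MIdx m) = j
    · by_cases h2 : i = Sum.inl s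
      · exfalso
        rw [← h1, h2] at hij
        omega
      · rw [Pi.single_eq_of_ne h2, mul_zero]
    · rw [Pi.single_eq_of_ne h1, zero_mul]
  linear_combination α * e1 - α * e2 - (minusForm m F a b (vw F m c) * α * α) * e3

end Cfsg.Agent.Lib.Helper41.OmBN
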