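import Mathlib
import Cfsg.Agent.Lib.Helper41.OmBNDefs
import Cfsg.Agent.Lib.Helper95.OmBN_CONJcore

/-!
# S2549 hive (OmBN), leaf CONJL (helper95)
-/

set_option autoImplicit false
set_option linter.unusedVariables false

namespace Cfsg.Agent.Lib.Helper41.OmBN

open Matrix Cfsg Cfsg.Agent.Lib.Helper13 Cfsg.Agent.Lib.Helper8 Cfsg.Agent.Lib.Helper43
  Cfsg.Agent.Lib.Helper41.SpBN

variable {F : Type*} [Field F] {m : ℕ} {a b : F}

/-- LEAF CONJL -/
theorem conjL [Fintype F] (hab : Aniso a b) (k : Fin m) :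
    ∀ n ∈ No F m a b, (∀ x ∈ XL F m a b k, n⁻¹ * x * n ∈ Bo F m a b) ∨
      (∀ y ∈ XLm F m a b k, n⁻¹ * y * n ∈ Bo F m a b) := by
  rintro n ⟨π, d, hn⟩
  have hni : IsBMono (mat n⁻¹) π.symm (fun s => (d (π.symm s))⁻¹) :=
    isBMono_inv (mat_inv_mul n) (mat_mul_inv n) hn
  have hsym : ∀ s, π.symm s.swap = (π.symm s).swap := fun s => conjs_symm hni s
  have hp := conjs_oord_swap (π.symm (Sum.inl k))
  have hk : π.symm (Sum.inr k) = (π.symm (Sum.inl k)).swap := hsym (Sum.inl k)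
  by_cases hpm : oord m (Sum.inl (π.symm (Sum.inl k))) ≤ m
  · left
    rintro x ⟨c, hx⟩
    have h1 := conjs_actsAs_conj hx n
    rw [ve, conjs_bmono_single hni, conjs_bmono_vw hni] at h1
    exact conjl_mem_B h1 hpm
  · right
    rintro y ⟨c, hy⟩
    have h1 := conjs_actsAs_conj hy n
    rw [vf, conjs_bmono_single hni, conjs_bmono_vw hni] at h1
    apply conjl_mem_B h1
    rw [hk]
    omega

end Cfsg.Agent.Lib.Helper41.OmBN
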