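import Mathlib
import Cfsg.Agent.Lib.Helper41.OmBNDefs
import Cfsg.Agent.Lib.Helper95.OmBN_CONJcore

/-!
# S2549 hive (OmBN), leaf CONJNE (helper95)

A simple reflection does not normalise the Borel subgroup.
-/

set_option autoImplicit false
set_option linter.unusedVariables false

namespace Cfsg.Agent.Lib.Helper41.OmBN

open Matrix Cfsg Cfsg.Agent.Lib.Helper13 Cfsg.Agent.Lib.Helper8 Cfsg.Agent.Lib.Helper43
  Cfsg.Agent.Lib.Helper41.SpBN

variable {F : Type*} [Field F] {m : ℕ} {a b : F}

theorem conjne_permBlock_single (σ : Equiv.Perm (Idx m)) (s : Idx m) :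
    (permBlock σ : Matrix (MIdx m) (MIdx m) F) *ᵥ Pi.single (Sum.inl s) 1
      = Pi.single (Sum.inl (σ s)) 1 := by
  rw [conjs_bmono_single (permBlock_isBMono σ), one_smul]

theorem conjne_permBlock_vw (σ : Equiv.Perm (Idx m)) (c : Fin 2 → F) :
    (permBlock σ : Matrix (MIdx m) (MIdx m) F) *ᵥ vw F m c = vw F m c := by
  rw [conjs_bmono_vw (permBlock_isBMono σ)]
  congr 1
  rw [permBlock, Matrix.toBlocks_fromBlocks₂₂, Matrix.one_mulVec]

/-- LEAF CONJNE -/
theorem S_conj_ne [Fintype F] (hab : Aniso a b) : ∀ s ∈ So F m a b,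
    (fun g : OG F m a b => s * g * s) '' (Bo F m a b : Set (OG F m a b)) ≠ (Bo F m a b : Set (OG F m a b)) := by
  rintro s ⟨σ, hσ, hs⟩ heq
  suffices h : ∃ g ∈ Bo F m a b, s * g * s ∉ Bo F m a b by
    obtain ⟨g, hg, hsg⟩ := h
    apply hsg
    have : s * g * s ∈ (fun g : OG F m a b => s * g * s) '' (Bo F m a b : Set (OG F m a b)) :=
      ⟨g, hg, rfl⟩
    rw [heq] at this
    exact this
  have hvec : ∀ (g : OG F m a b) (x : MIdx m → F),
      mat (s * g * s) *ᵥ x = mat s *ᵥ (mat g *ᵥ (mat s *ᵥ x)) := by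
    intro g x
    rw [mat_mul, mat_mul, ← Matrix.mulVec_mulVec, ← Matrix.mulVec_mulVec]
  rcases hσ with ⟨k, k', hkk, rfl⟩ | ⟨k, hk, rfl⟩
  · have hne : k ≠ k' := by
      intro h; rw [h] at hkk; omega
    obtain ⟨g, hg⟩ := eichler_exists (m := m) hab (ve F k) ((1 : F) • vf F k')
      (minusForm_single_inl m F a b k) (by
        rw [QuadraticMap.polar_smul_right, ve, vf, polar_minusForm_inl, Pi.single_apply, if_neg]
        · simp
        · intro h
          exact hne (Sum.inr_injective (Sum.inl_injective h)))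
    have hσ1 : simpleShort k k' (Sum.inl k) = Sum.inl k' := by
      simp [simpleShort, Equiv.swap_apply_def]
    have hσ2 : simpleShort k k' (Sum.inl k') = Sum.inl k := by
      simp [simpleShort, Equiv.swap_apply_def]
    refine ⟨g, ?_, ?_⟩
    · have hg' : ActsAs F m a b g ((1 : F) • Pi.single (Sum.inl (Sum.inl k)) 1)
          ((1 : F) • Pi.single (Sum.inl (Sum.inr k')) 1) := by
        rw [one_smul]
        exact hg
      apply conjs_mem_B hg'
      simp only [oord_e, oord_f]
      have := k'.2
      omega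
    · intro hmem
      rw [mem_Bo_iff] at hmem
      have h1 := hmem (Sum.inl (Sum.inl k')) (Sum.inl (Sum.inl k)) (by simp only [oord_e]; omega)
      rw [conjs_mat_apply, hvec, hs, conjne_permBlock_single, hσ1, hg, eichlerLin_apply] at h1
      simp only [ve, vf, QuadraticMap.polar_smul_left, QuadraticMap.map_smul,
        conjs_polar_single (a := a) (b := b), conjs_Q_single (a := a) (b := b),
        smul_eq_mul, mul_zero, zero_mul, zero_smul, sub_zero, one_mul, one_smul,
        Matrix.mulVec_add, Matrix.mulVec_sub, Matrix.mulVec_smul, conjne_permBlock_single, hσ1,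
        hσ2, Sum.swap_inl, Sum.swap_inr] at h1
      have hsb : simpleShort k k' (Sum.inr k') = Sum.inr k := by
        simp [simpleShort, Equiv.swap_apply_def]
      simp [hsb, hne, Ne.symm hne] at h1
  · obtain ⟨g, hg⟩ := eichler_exists (m := m) hab (ve F k) (vw F m (Pi.single 0 1))
      (minusForm_single_inl m F a b k) (by
        rw [ve, polar_minusForm_inl]; rfl)
    have hσ1 : simpleLong k (Sum.inl k) = Sum.inr k := by
      simp [simpleLong]
    have hσ2 : simpleLong k (Sum.inr k) = Sum.inl k := by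
      simp [simpleLong]
    refine ⟨g, ?_, ?_⟩
    · have hg' : ActsAs F m a b g ((1 : F) • Pi.single (Sum.inl (Sum.inl k)) 1)
          (vw F m (Pi.single 0 1)) := by
        rw [one_smul]
        exact hg
      apply conjl_mem_B hg'
      simp only [oord_e]
      exact k.2.le
    · intro hmem
      rw [mem_Bo_iff] at hmem
      have h1 := hmem (Sum.inr 0) (Sum.inl (Sum.inl k)) (by simp only [oord_e, oord_w]; exact k.2)
      rw [conjs_mat_apply, hvec, hs, conjne_permBlock_single, hσ1, hg, eichlerLin_apply] at h1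
      simp only [ve, conjs_polar_single (a := a) (b := b), smul_eq_mul,
        Matrix.mulVec_add, Matrix.mulVec_sub, Matrix.mulVec_smul, conjne_permBlock_single,
        conjne_permBlock_vw, hσ1, hσ2, Sum.swap_inl, Sum.swap_inr, Pi.single_eq_same,
        Pi.add_apply, Pi.sub_apply, Pi.smul_apply] at h1
      simp [vw] at h1

end Cfsg.Agent.Lib.Helper41.OmBN
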