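import Mathlib
import Cfsg.Agent.Lib.Helper41.OmBNDefs
import Cfsg.Agent.Lib.Helper95.OmBN_CONJcore

/-!
# S2549 hive (OmBN), leaf CONJS (helper95)
-/

set_option autoImplicit false
set_option linter.unusedVariables false

namespace Cfsg.Agent.Lib.Helper41.OmBN

open Matrix Cfsg Cfsg.Agent.Lib.Helper13 Cfsg.Agent.Lib.Helper8 Cfsg.Agent.Lib.Helper43
  Cfsg.Agent.Lib.Helper41.SpBN

variable {F : Type*} [Field F] {m : ℕ} {a b : F}

/-- LEAF CONJS -/
theorem conjS [Fintype F] (hab : Aniso a b) {k k' : Fin m} (hkk : k ≠ k') :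
    ∀ n ∈ No F m a b, (∀ x ∈ XS F m a b k k', n⁻¹ * x * n ∈ Bo F m a b) ∨
      (∀ y ∈ XS F m a b k' k, n⁻¹ * y * n ∈ Bo F m a b) := by
  rintro n ⟨π, d, hn⟩
  have hni : IsBMono (mat n⁻¹) π.symm (fun s => (d (π.symm s))⁻¹) :=
    isBMono_inv (mat_inv_mul n) (mat_mul_inv n) hn
  have hsym : ∀ s, π.symm s.swap = (π.symm s).swap := fun s => conjs_symm hni s
  have hp := conjs_oord_swap (π.symm (Sum.inl k))
  have hq := conjs_oord_swap (π.symm (Sum.inl k'))
  have hk : π.symm (Sum.inr k) = (π.symm (Sum.inl k)).swap := hsym (Sum.inl k)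
  have hk' : π.symm (Sum.inr k') = (π.symm (Sum.inl k')).swap := hsym (Sum.inl k')
  by_cases hpq : oord m (Sum.inl (π.symm (Sum.inl k))) ≤ oord m (Sum.inl (π.symm (Sum.inl k')))
  · left
    rintro x ⟨t, hx⟩
    have h1 := conjs_actsAs_conj hx n
    rw [ve, vf, Matrix.mulVec_smul, conjs_bmono_single hni, conjs_bmono_single hni, smul_smul]
      at h1
    apply conjs_mem_B h1
    rw [hk']
    omega
  · right
    rintro y ⟨t, hy⟩
    have h1 := conjs_actsAs_conj hy n
    rw [ve, vf, Matrix.mulVec_smul, conjs_bmono_single hni, conjs_bmono_single hni, smul_smul]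
      at h1
    apply conjs_mem_B h1
    rw [hk]
    omega

end Cfsg.Agent.Lib.Helper41.OmBN
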