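import Mathlib
import Cfsg.Agent.Lib.Helper41.SpBNDefs

/-!
# S2545 hive, leaf CONJS (helper95)

Conjugating the short root subgroups by a monomial matrix.
-/

set_option autoImplicit false

namespace Cfsg.Agent.Lib.Helper41.SpBN

open Matrix Cfsg Cfsg.Agent.Lib.Helper13

variable {F : Type*} [Field F] {m : ℕ}

/-- entries of a matrix sandwiched between two monomial matrices -/
theorem conjs_mul_mul_apply {S S' X : Matrix (Idx m) (Idx m) F} {σ σ' : Equiv.Perm (Idx m)}
    {c c' : Idx m → F} (hS : IsMono S σ c) (hS' : IsMono S' σ' c') (u v : Idx m) :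
    (S * X * S') u v = c (σ.symm u) * X (σ.symm u) (σ' v) * c' v := by
  rw [Matrix.mul_apply, Finset.sum_eq_single (σ' v)]
  · rw [Matrix.mul_apply, Finset.sum_eq_single (σ.symm u)]
    · rw [hS u (σ.symm u), hS' (σ' v) v, if_pos (by simp), if_pos rfl]
    · intro r _ hr
      rw [hS u r, if_neg, zero_mul]
      intro h
      apply hr
      rw [h]; simp
    · intro h; exact absurd (Finset.mem_univ _) h
  · intro w _ hw
    rw [hS' w v, if_neg hw, mul_zero]
  · intro h; exact absurd (Finset.mem_univ _) h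

/-- the positions that must vanish in an element of the Borel subgroup -/
def conjs_bad : Idx m → Idx m → Prop
  | Sum.inl i, Sum.inl j => (j : ℕ) < (i : ℕ)
  | Sum.inr _, Sum.inl _ => True
  | _, _ => False

theorem conjs_mem_Bsp_iff (g : SpG F m) :
    g ∈ Bsp F m ↔ ∀ u v : Idx m, conjs_bad u v → g.1 u v = 0 := by
  rw [mem_Bsp_iff]
  constructor
  · rintro ⟨h1, h2⟩ u v huv
    rcases u with i | i <;> rcases v with j | j
    · exact h1 i j huv
    · exact absurd huv (by simp [conjs_bad])
    · exact h2 i j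
    · exact absurd huv (by simp [conjs_bad])
  · intro h
    exact ⟨fun i j hij => h (Sum.inl i) (Sum.inl j) hij, fun i j => h (Sum.inr i) (Sum.inl j) trivial⟩

theorem conjs_bad_ne {u v : Idx m} (h : conjs_bad u v) : u ≠ v := by
  rintro rfl
  rcases u with i | i
  · exact absurd h (by simp [conjs_bad])
  · exact absurd h (by simp [conjs_bad])

/-- a conjugate `n⁻¹ x n` by a monomial `n` lies in `B` as soon as `x` vanishes at the `π`-images of the
bad positions -/
theorem conjs_conj_mem {n x : SpG F m} {π : Equiv.Perm (Idx m)} {d : Idx m → F}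
    (hn : IsMono n.1 π d) (h : ∀ u v : Idx m, conjs_bad u v → x.1 (π u) (π v) = 0) :
    n⁻¹ * x * n ∈ Bsp F m := by
  rw [conjs_mem_Bsp_iff]
  intro u v huv
  have h1 : (n⁻¹ * x * n).1 = (n⁻¹).1 * x.1 * n.1 := rfl
  rw [h1, conjs_mul_mul_apply (isMono_inv n hn) hn, Equiv.symm_symm, h u v huv, mul_zero, zero_mul]

/-- entries of the root element with two off-diagonal entries -/
theorem conjs_root_apply_eq_zero (a b a' b' : Idx m) (t : F) {r s : Idx m} (hrs : r ≠ s)
    (h1 : ¬ (r = a ∧ s = b)) (h2 : ¬ (r = a' ∧ s = b')) :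
    (1 + t • Matrix.single a b (1 : F) - t • Matrix.single a' b' (1 : F) :
      Matrix (Idx m) (Idx m) F) r s = 0 := by
  rw [Matrix.sub_apply, Matrix.add_apply, Matrix.one_apply_ne hrs, Matrix.smul_apply,
    Matrix.smul_apply, Matrix.single_apply, Matrix.single_apply, if_neg, if_neg]
  · simp
  · rintro ⟨rfl, rfl⟩; exact h2 ⟨rfl, rfl⟩
  · rintro ⟨rfl, rfl⟩; exact h1 ⟨rfl, rfl⟩

/-- **LEAF CONJS**. -/
theorem conjS {k k' : Fin m} (hkk : k ≠ k') :
    ∀ n ∈ Nsp F m, (∀ x ∈ XS F m k k', n⁻¹ * x * n ∈ Bsp F m) ∨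
      (∀ y ∈ XSm F m k k', n⁻¹ * y * n ∈ Bsp F m) := by
  rintro n ⟨π, d, hn⟩
  have hπ : ∀ s, π s.swap = (π s).swap := (hn.symp n.2).1
  -- preimages
  obtain ⟨p, hp⟩ : ∃ p, π p = Sum.inl k := ⟨π.symm (Sum.inl k), by simp⟩
  obtain ⟨q, hq⟩ : ∃ q, π q = Sum.inl k' := ⟨π.symm (Sum.inl k'), by simp⟩
  have hp' : π p.swap = Sum.inr k := by rw [hπ, hp]; rfl
  have hq' : π q.swap = Sum.inr k' := by rw [hπ, hq]; rfl
  -- the two criteria
  have crit1 : (¬ conjs_bad p q ∧ ¬ conjs_bad q.swap p.swap) →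
      ∀ x ∈ XS F m k k', n⁻¹ * x * n ∈ Bsp F m := by
    rintro ⟨g1, g2⟩ x ⟨t, hx⟩
    apply conjs_conj_mem hn
    intro u v huv
    rw [hx]
    apply conjs_root_apply_eq_zero
    · exact fun h => conjs_bad_ne huv (π.injective h)
    · rintro ⟨h1, h2⟩
      rw [← hp] at h1; rw [← hq] at h2
      rw [π.injective h1, π.injective h2] at huv
      exact g1 huv
    · rintro ⟨h1, h2⟩
      rw [← hq'] at h1; rw [← hp'] at h2
      rw [π.injective h1, π.injective h2] at huv
      exact g2 huv
  have crit2 : (¬ conjs_bad q p ∧ ¬ conjs_bad p.swap q.swap) →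
      ∀ y ∈ XSm F m k k', n⁻¹ * y * n ∈ Bsp F m := by
    rintro ⟨g1, g2⟩ x ⟨t, hx⟩
    apply conjs_conj_mem hn
    intro u v huv
    rw [hx]
    apply conjs_root_apply_eq_zero
    · exact fun h => conjs_bad_ne huv (π.injective h)
    · rintro ⟨h1, h2⟩
      rw [← hq] at h1; rw [← hp] at h2
      rw [π.injective h1, π.injective h2] at huv
      exact g1 huv
    · rintro ⟨h1, h2⟩
      rw [← hp'] at h1; rw [← hq'] at h2
      rw [π.injective h1, π.injective h2] at huv
      exact g2 huv
  rcases p with i | i <;> rcases q with j | j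
  · by_cases hij : (j : ℕ) < (i : ℕ)
    · right
      apply crit2
      simp only [conjs_bad, Sum.swap_inl, not_false_eq_true, and_true]
      omega
    · left
      apply crit1
      simp only [conjs_bad, Sum.swap_inl, not_false_eq_true, and_true]
      exact hij
  · left
    apply crit1
    simp [conjs_bad]
  · right
    apply crit2
    simp [conjs_bad]
  · by_cases hij : (i : ℕ) < (j : ℕ)
    · right
      apply crit2
      simp only [conjs_bad, Sum.swap_inr, not_false_eq_true, true_and]
      omega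
    · left
      apply crit1
      simp only [conjs_bad, Sum.swap_inr, not_false_eq_true, true_and]
      exact hij

end Cfsg.Agent.Lib.Helper41.SpBN
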