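import Mathlib
import Cfsg.Agent.Lib.Helper41.SpBNDefs
import Cfsg.Agent.Lib.Helper95.SpBN_CONJS

/-!
# S2545 hive, leaf CONJL (helper95)

Conjugating the long root subgroups by a monomial matrix.
-/

set_option autoImplicit false

namespace Cfsg.Agent.Lib.Helper41.SpBN

open Matrix Cfsg Cfsg.Agent.Lib.Helper13

variable {F : Type*} [Field F] {m : ℕ}

/-- entries of the root element with one off-diagonal entry -/
theorem conjl_root_apply_eq_zero (a b : Idx m) (t : F) {r s : Idx m} (hrs : r ≠ s)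
    (h1 : ¬ (r = a ∧ s = b)) :
    (1 + t • Matrix.single a b (1 : F) : Matrix (Idx m) (Idx m) F) r s = 0 := by
  rw [Matrix.add_apply, Matrix.one_apply_ne hrs, Matrix.smul_apply, Matrix.single_apply, if_neg]
  · simp
  · rintro ⟨rfl, rfl⟩; exact h1 ⟨rfl, rfl⟩

/-- **LEAF CONJL**. -/
theorem conjL (k : Fin m) :
    ∀ n ∈ Nsp F m, (∀ x ∈ XL F m k, n⁻¹ * x * n ∈ Bsp F m) ∨
      (∀ y ∈ XLm F m k, n⁻¹ * y * n ∈ Bsp F m) := by
  rintro n ⟨π, d, hn⟩
  have hπ : ∀ s, π s.swap = (π s).swap := (hn.symp n.2).1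
  obtain ⟨p, hp⟩ : ∃ p, π p = Sum.inl k := ⟨π.symm (Sum.inl k), by simp⟩
  have hp' : π p.swap = Sum.inr k := by rw [hπ, hp]; rfl
  have crit1 : ¬ conjs_bad p p.swap → ∀ x ∈ XL F m k, n⁻¹ * x * n ∈ Bsp F m := by
    rintro g1 x ⟨t, hx⟩
    apply conjs_conj_mem hn
    intro u v huv
    rw [hx]
    apply conjl_root_apply_eq_zero
    · exact fun h => conjs_bad_ne huv (π.injective h)
    · rintro ⟨h1, h2⟩
      rw [← hp] at h1; rw [← hp'] at h2
      rw [π.injective h1, π.injective h2] at huv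
      exact g1 huv
  have crit2 : ¬ conjs_bad p.swap p → ∀ y ∈ XLm F m k, n⁻¹ * y * n ∈ Bsp F m := by
    rintro g1 x ⟨t, hx⟩
    apply conjs_conj_mem hn
    intro u v huv
    rw [hx]
    apply conjl_root_apply_eq_zero
    · exact fun h => conjs_bad_ne huv (π.injective h)
    · rintro ⟨h1, h2⟩
      rw [← hp'] at h1; rw [← hp] at h2
      rw [π.injective h1, π.injective h2] at huv
      exact g1 huv
  rcases p with i | i
  · left
    apply crit1
    simp [conjs_bad]
  · right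
    apply crit2
    simp [conjs_bad]

end Cfsg.Agent.Lib.Helper41.SpBN
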