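import Mathlib
import Cfsg.Agent.Lib.Helper41.SpBNDefs
import Cfsg.Agent.Lib.Helper95.SpBN_CONJS

/-!
# S2545 hive, leaf CONJNE (helper95)

A simple reflection does not normalize the Borel subgroup.
-/

set_option autoImplicit false

namespace Cfsg.Agent.Lib.Helper41.SpBN

open Matrix Cfsg Cfsg.Agent.Lib.Helper13

variable {F : Type*} [Field F] {m : ℕ}

/-- the short root element `x_{e_k - e_k'}(1)` as a block diagonal symplectic matrix -/
def conjne_bS (k k' : Fin m) (hkk : k ≠ k') : SpG F m :=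
  ⟨fromBlocks (1 + Matrix.single k k' (1 : F)) 0 0 (1 - Matrix.single k' k (1 : F)), by
    have hE : Matrix.single k k' (1 : F) * Matrix.single k k' (1 : F) = 0 :=
      Matrix.single_mul_single_of_ne (c := (1 : F)) k k' k (Ne.symm hkk) 1
    have hE' : Matrix.single k' k (1 : F) * Matrix.single k' k (1 : F) = 0 :=
      Matrix.single_mul_single_of_ne (c := (1 : F)) k' k k' hkk 1
    rw [SymplecticGroup.mem_iff]
    simp [Matrix.J, fromBlocks_transpose, fromBlocks_multiply]
    constructor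
    · simp only [add_mul, mul_sub, neg_mul, one_mul, mul_one, hE]
      abel
    · simp only [sub_mul, mul_add, one_mul, mul_one, hE']
      abel⟩

/-- the long root element `x_{2 e_k}(1)` -/
def conjne_bL (k : Fin m) : SpG F m :=
  ⟨fromBlocks 1 (Matrix.single k k (1 : F)) 0 1, by
    rw [SymplecticGroup.mem_iff]
    simp [Matrix.J, fromBlocks_transpose, fromBlocks_multiply]⟩

theorem conjne_bS_mem (k k' : Fin m) (hkk : (k : ℕ) < (k' : ℕ)) (hne : k ≠ k') :
    conjne_bS (F := F) k k' hne ∈ Bsp F m := by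
  rw [mem_Bsp_iff]
  constructor
  · intro i j hij
    show (fromBlocks (1 + Matrix.single k k' (1 : F)) 0 0 (1 - Matrix.single k' k (1 : F)))
      (Sum.inl i) (Sum.inl j) = 0
    rw [fromBlocks_apply₁₁, Matrix.add_apply, Matrix.one_apply_ne (by
      intro h; rw [h] at hij; exact lt_irrefl _ hij), Matrix.single_apply, if_neg, add_zero]
    rintro ⟨rfl, rfl⟩
    omega
  · intro i j
    show (fromBlocks (1 + Matrix.single k k' (1 : F)) 0 0 (1 - Matrix.single k' k (1 : F)))
      (Sum.inr i) (Sum.inl j) = 0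
    rw [fromBlocks_apply₂₁]; rfl

theorem conjne_bL_mem (k : Fin m) : conjne_bL (F := F) k ∈ Bsp F m := by
  rw [mem_Bsp_iff]
  constructor
  · intro i j hij
    show (fromBlocks (1 : Matrix (Fin m) (Fin m) F) (Matrix.single k k (1 : F)) 0 1)
      (Sum.inl i) (Sum.inl j) = 0
    rw [fromBlocks_apply₁₁, Matrix.one_apply_ne (by
      intro h; rw [h] at hij; exact lt_irrefl _ hij)]
  · intro i j
    show (fromBlocks (1 : Matrix (Fin m) (Fin m) F) (Matrix.single k k (1 : F)) 0 1)
      (Sum.inr i) (Sum.inl j) = 0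
    rw [fromBlocks_apply₂₁]; rfl

/-- **LEAF CONJNE**. -/
theorem S_conj_ne : ∀ s ∈ Ssp F m,
    (fun b : SpG F m => s * b * s) '' (Bsp F m : Set (SpG F m)) ≠ (Bsp F m : Set (SpG F m)) := by
  rintro s ⟨σ, hσ, hs⟩ heq
  have hmono : IsMono s.1 σ (monoCoeff σ (1 : Fin m → Fˣ)) := by
    rw [hs]; exact monoMat_isMono σ 1
  have hc : ∀ i : Fin m, monoCoeff (F := F) σ (1 : Fin m → Fˣ) (Sum.inl i) = 1 := by
    intro i; simp [monoCoeff]
  rcases hσ with ⟨k, k', hkk, rfl⟩ | ⟨k, hk, rfl⟩
  · -- short reflection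
    have hne : k ≠ k' := by
      intro h; rw [h] at hkk; omega
    have hlt : (k : ℕ) < (k' : ℕ) := by omega
    have hmem : s * conjne_bS k k' hne * s ∈ (Bsp F m : Set (SpG F m)) := by
      rw [← heq]
      exact ⟨_, conjne_bS_mem k k' hlt hne, rfl⟩
    have h0 := ((mem_Bsp_iff _).mp hmem).1 k' k hlt
    have h1 : (s * conjne_bS k k' hne * s).1 = s.1 * (conjne_bS (F := F) k k' hne).1 * s.1 := rfl
    rw [h1, conjs_mul_mul_apply hmono hmono] at h0
    have e2 : (simpleShort k k') (Sum.inl k) = Sum.inl k' := by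
      have h2 : Equiv.swap (Sum.inr k : Idx m) (Sum.inr k') (Sum.inl k) = Sum.inl k :=
        Equiv.swap_apply_of_ne_of_ne (by simp) (by simp)
      unfold simpleShort
      rw [Equiv.Perm.mul_apply, h2, Equiv.swap_apply_left]
    have e1 : (simpleShort k k').symm (Sum.inl k') = Sum.inl k := by
      rw [Equiv.symm_apply_eq, e2]
    rw [e1, e2, hc] at h0
    have e3 : (conjne_bS (F := F) k k' hne).1 (Sum.inl k) (Sum.inl k') = 1 := by
      show (fromBlocks (1 + Matrix.single k k' (1 : F)) 0 0 (1 - Matrix.single k' k (1 : F)))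
        (Sum.inl k) (Sum.inl k') = 1
      rw [fromBlocks_apply₁₁, Matrix.add_apply, Matrix.one_apply_ne hne, Matrix.single_apply_same,
        zero_add]
    rw [e3] at h0
    simp at h0
  · -- long reflection
    have hmem : s * conjne_bL k * s ∈ (Bsp F m : Set (SpG F m)) := by
      rw [← heq]
      exact ⟨_, conjne_bL_mem k, rfl⟩
    have h0 := ((mem_Bsp_iff _).mp hmem).2 k k
    have h1 : (s * conjne_bL k * s).1 = s.1 * (conjne_bL (F := F) k).1 * s.1 := rfl
    rw [h1, conjs_mul_mul_apply hmono hmono] at h0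
    have e2 : (simpleLong k) (Sum.inl k) = (Sum.inr k : Idx m) := by
      unfold simpleLong
      rw [Equiv.swap_apply_left]
    have e1 : (simpleLong k).symm (Sum.inr k) = (Sum.inl k : Idx m) := by
      rw [Equiv.symm_apply_eq, e2]
    rw [e1, e2, hc] at h0
    have e3 : (conjne_bL (F := F) k).1 (Sum.inl k) (Sum.inr k) = 1 := by
      show (fromBlocks (1 : Matrix (Fin m) (Fin m) F) (Matrix.single k k (1 : F)) 0 1)
        (Sum.inl k) (Sum.inr k) = 1
      rw [fromBlocks_apply₁₂, Matrix.single_apply_same]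
    rw [e3] at h0
    simp at h0

end Cfsg.Agent.Lib.Helper41.SpBN
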