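import Mathlib
import Cfsg.Prelude.Def_GeometricClasses
import Cfsg.Agent.Lib.Helper44.OcDefs
import Cfsg.Agent.Lib.Helper44.OcIdbDefs

set_option autoImplicit false
open Matrix

/-! # Oc hive (helper44, S5977/S5978), backup route "Idb": leaf IDB-EMB (`idb_embed`) -/

namespace Cfsg.Agent.Lib.Helper44.Oc

universe v w

variable {F : Type v} [Field F] {ι : Type} [Fintype ι] [DecidableEq ι]

/-- the matrix of `T ∘ A ∘ T⁻¹` -/
noncomputable def idbemb_mat {E : Type w} [Field E] [Algebra F E] {d : ℕ}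
    (T : (Fin d → E) ≃ₗ[F] (ι → F)) (A : Matrix (Fin d) (Fin d) E) : Matrix ι ι F :=
  LinearMap.toMatrix' ((T : (Fin d → E) →ₗ[F] (ι → F)) ∘ₗ ((Matrix.toLin' A).restrictScalars F) ∘ₗ
    (T.symm : (ι → F) →ₗ[F] (Fin d → E)))

theorem idbemb_mat_mulVec {E : Type w} [Field E] [Algebra F E] {d : ℕ}
    (T : (Fin d → E) ≃ₗ[F] (ι → F)) (A : Matrix (Fin d) (Fin d) E) (y : ι → F) :
    idbemb_mat T A *ᵥ y = T (A *ᵥ T.symm y) := by
  unfold idbemb_mat
  rw [← Matrix.toLin'_apply, Matrix.toLin'_toMatrix']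
  simp

theorem idbemb_mat_mulVec_T {E : Type w} [Field E] [Algebra F E] {d : ℕ}
    (T : (Fin d → E) ≃ₗ[F] (ι → F)) (A : Matrix (Fin d) (Fin d) E) (x : Fin d → E) :
    idbemb_mat T A *ᵥ T x = T (A *ᵥ x) := by
  rw [idbemb_mat_mulVec, LinearEquiv.symm_apply_apply]

theorem idbemb_ext {M N : Matrix ι ι F} (h : ∀ y, M *ᵥ y = N *ᵥ y) : M = N := by
  apply Matrix.toLin'.injective
  apply LinearMap.ext
  intro y
  rw [Matrix.toLin'_apply, Matrix.toLin'_apply]
  exact h y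

theorem idbemb_extE {E : Type w} [Field E] {d : ℕ} {M N : Matrix (Fin d) (Fin d) E}
    (h : ∀ y, M *ᵥ y = N *ᵥ y) : M = N := by
  apply Matrix.toLin'.injective
  apply LinearMap.ext
  intro y
  rw [Matrix.toLin'_apply, Matrix.toLin'_apply]
  exact h y

/-- `A ↦ T A T⁻¹` as a monoid homomorphism of matrix monoids -/
noncomputable def idbemb_hom {E : Type w} [Field E] [Algebra F E] {d : ℕ}
    (T : (Fin d → E) ≃ₗ[F] (ι → F)) : Matrix (Fin d) (Fin d) E →* Matrix ι ι F where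
  toFun := idbemb_mat T
  map_one' := by
    apply idbemb_ext
    intro y
    rw [idbemb_mat_mulVec, Matrix.one_mulVec, Matrix.one_mulVec, LinearEquiv.apply_symm_apply]
  map_mul' := by
    intro A B
    apply idbemb_ext
    intro y
    rw [← Matrix.mulVec_mulVec, idbemb_mat_mulVec, idbemb_mat_mulVec, idbemb_mat_mulVec,
      LinearEquiv.symm_apply_apply, Matrix.mulVec_mulVec]

theorem idbemb_hom_injective {E : Type w} [Field E] [Algebra F E] {d : ℕ}
    (T : (Fin d → E) ≃ₗ[F] (ι → F)) : Function.Injective (idbemb_hom (F := F) (ι := ι) T) := by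
  intro A B hAB
  apply idbemb_extE
  intro x
  have h1 : idbemb_mat T A *ᵥ T x = idbemb_mat T B *ᵥ T x := by
    have : idbemb_mat T A = idbemb_mat T B := hAB
    rw [this]
  rw [idbemb_mat_mulVec_T, idbemb_mat_mulVec_T] at h1
  exact T.injective h1

/-- IDB-EMB : the isometry group of the model embeds in `C_{O(Q)}(J)`: `g ↦ T ∘ g ∘ T⁻¹`. -/
theorem idb_embed {E : Type w} [Field E] [Algebra F E] (Q : (ι → F) → F) (J : Matrix ι ι F) (wE : E) {d : ℕ}
    (c : Fin d → E) (T : (Fin d → E) ≃ₗ[F] (ι → F)) (π : E →ₗ[F] F) (hM : IsIdbModel Q J wE c T π) :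
    ∃ H : Subgroup (GL ι F), (∀ g ∈ H, (g : Matrix ι ι F) * J = J * (g : Matrix ι ι F)) ∧
      H ≤ Cfsg.isometryGroup F Q ∧ Nat.card H = Nat.card (Cfsg.isometryGroup E (idbQE c)) := by
  obtain ⟨_, hJ, hQ⟩ := hM
  have hinj : Function.Injective (Units.map (idbemb_hom (F := F) (ι := ι) T)) :=
    Units.map_injective (idbemb_hom_injective T)
  refine ⟨(Cfsg.isometryGroup E (idbQE c)).map (Units.map (idbemb_hom (F := F) (ι := ι) T)),
    ?_, ?_, ?_⟩
  · rintro g ⟨A, _, rfl⟩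
    apply idbemb_ext
    intro y
    obtain ⟨x, rfl⟩ := T.surjective y
    show (idbemb_mat T (A : Matrix (Fin d) (Fin d) E) * J) *ᵥ T x
      = (J * idbemb_mat T (A : Matrix (Fin d) (Fin d) E)) *ᵥ T x
    rw [← Matrix.mulVec_mulVec, ← Matrix.mulVec_mulVec, ← hJ, idbemb_mat_mulVec_T,
      idbemb_mat_mulVec_T, ← hJ, Matrix.mulVec_smul]
  · rintro g ⟨A, hA, rfl⟩
    intro u _
    obtain ⟨x, rfl⟩ := T.surjective u
    show Q (idbemb_mat T (A : Matrix (Fin d) (Fin d) E) *ᵥ T x) = Q (T x)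
    rw [idbemb_mat_mulVec_T, hQ, hQ]
    congr 1
    exact hA x x
  · exact Nat.card_congr
      (Subgroup.equivMapOfInjective _ _ hinj).symm.toEquiv

end Cfsg.Agent.Lib.Helper44.Oc
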