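import Mathlib
import Cfsg.Agent.Lib.Helper95.FinMask
import Cfsg.Agent.Lib.Helper95.ExactCover

set_option autoImplicit false

/-! Permutations of `Fin N` moving only the points `1..6`, given by tables, and their action on
bit masks; level data checks for the Steiner extension chain. -/

namespace Cfsg.Agent.Lib.Helper95.Steiner

open Cfsg.Agent.Lib.Helper95.FinMask Cfsg.Agent.Lib.Helper95.ExactCover
open Cfsg.Agent.Lib.Helper26 (pc ofBitsL testBit_ofBitsL ofBitsL_lt)
open scoped Pointwise

variable {N : ℕ}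

/-- the function of a table on the points `0..6`, extended by the identity -/
def tabFun (tbl : List ℕ) (i : ℕ) : ℕ := if i < 7 then tbl.getD i 0 else i

/-- two tables are inverse permutations of `0..6` fixing `0` -/
def tabOk (tbl inv : List ℕ) : Bool :=
  (List.range 7).all (fun i => decide (tbl.getD i 0 < 7) && decide (inv.getD i 0 < 7) &&
    (inv.getD (tbl.getD i 0) 0 == i) && (tbl.getD (inv.getD i 0) 0 == i)) && (tbl.getD 0 0 == 0)

theorem tabOk_spec {tbl inv : List ℕ} (h : tabOk tbl inv = true) :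
    (∀ i, i < 7 → tbl.getD i 0 < 7 ∧ inv.getD i 0 < 7 ∧ inv.getD (tbl.getD i 0) 0 = i ∧
      tbl.getD (inv.getD i 0) 0 = i) ∧ tbl.getD 0 0 = 0 := by
  simp only [tabOk, Bool.and_eq_true, List.all_eq_true, List.mem_range, decide_eq_true_eq,
    beq_iff_eq] at h
  refine ⟨fun i hi => ?_, h.2⟩
  obtain ⟨⟨⟨a, b⟩, c⟩, d⟩ := h.1 i hi
  exact ⟨a, b, c, d⟩

theorem tabOk_symm {tbl inv : List ℕ} (h : tabOk tbl inv = true) : tabOk inv tbl = true := by
  obtain ⟨h1, h0⟩ := tabOk_spec h
  simp only [tabOk, Bool.and_eq_true, List.all_eq_true, List.mem_range, decide_eq_true_eq,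
    beq_iff_eq]
  refine ⟨fun i hi => ?_, ?_⟩
  · obtain ⟨a, b, c, d⟩ := h1 i hi
    exact ⟨⟨⟨b, a⟩, d⟩, c⟩
  · have := (h1 0 (by norm_num)).2.2.1
    rw [h0] at this
    exact this

theorem tabFun_lt {tbl inv : List ℕ} (h : tabOk tbl inv = true) (hN : 7 ≤ N) (i : ℕ) (hi : i < N) :
    tabFun tbl i < N := by
  unfold tabFun
  split
  · rename_i h7
    have := ((tabOk_spec h).1 i h7).1
    omega
  · exact hi

theorem tabFun_inv {tbl inv : List ℕ} (h : tabOk tbl inv = true) (i : ℕ) :
    tabFun inv (tabFun tbl i) = i := by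
  unfold tabFun
  by_cases h7 : i < 7
  · obtain ⟨a, -, c, -⟩ := (tabOk_spec h).1 i h7
    rw [if_pos h7, if_pos a, c]
  · rw [if_neg h7, if_neg h7]

theorem tabFun_of_ge (tbl : List ℕ) (i : ℕ) (hi : 7 ≤ i) : tabFun tbl i = i := by
  unfold tabFun
  rw [if_neg (by omega)]

theorem tabFun_zero {tbl inv : List ℕ} (h : tabOk tbl inv = true) : tabFun tbl 0 = 0 := by
  unfold tabFun
  rw [if_pos (by norm_num)]
  exact (tabOk_spec h).2

theorem tabFun_lt_of_lt {tbl inv : List ℕ} (h : tabOk tbl inv = true) (i n : ℕ) (hn : 7 ≤ n)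
    (hi : i < n) : tabFun tbl i < n := by
  unfold tabFun
  split
  · rename_i h7
    have := ((tabOk_spec h).1 i h7).1
    omega
  · exact hi

/-- the permutation of `Fin N` of a table -/
def tabPerm (tbl inv : List ℕ) (h : tabOk tbl inv = true) (hN : 7 ≤ N) : Equiv.Perm (Fin N) where
  toFun x := ⟨tabFun tbl x.val, tabFun_lt h hN x.val x.isLt⟩
  invFun x := ⟨tabFun inv x.val, tabFun_lt (tabOk_symm h) hN x.val x.isLt⟩
  left_inv x := Fin.ext (tabFun_inv h x.val)
  right_inv x := Fin.ext (tabFun_inv (tabOk_symm h) x.val)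

theorem tabPerm_apply (tbl inv : List ℕ) (h : tabOk tbl inv = true) (hN : 7 ≤ N) (x : Fin N) :
    ((tabPerm tbl inv h hN) x).val = tabFun tbl x.val := rfl

theorem tabPerm_inv_apply (tbl inv : List ℕ) (h : tabOk tbl inv = true) (hN : 7 ≤ N) (x : Fin N) :
    (((tabPerm tbl inv h hN)⁻¹) x).val = tabFun inv x.val := rfl

theorem tabPerm_inv (tbl inv : List ℕ) (h : tabOk tbl inv = true) (hN : 7 ≤ N) :
    (tabPerm tbl inv h hN)⁻¹ = tabPerm (N := N) inv tbl (tabOk_symm h) hN := by
  apply Equiv.ext
  intro x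
  apply Fin.ext
  rfl

/-- the action of a table on bit masks of width 12: bit `i` of the result is bit `f i`. -/
def applyTab (f : List ℕ) (m : ℕ) : ℕ :=
  ofBitsL ((List.range 12).map (fun i => m.testBit (tabFun f i)))

theorem testBit_applyTab (f : List ℕ) (m i : ℕ) :
    (applyTab f m).testBit i = if i < 12 then m.testBit (tabFun f i) else false := by
  rw [applyTab, testBit_ofBitsL]
  by_cases hi : i < 12
  · rw [if_pos hi, List.getD_eq_getElem _ _ (by simpa using hi)]
    simp
  · rw [if_neg hi, List.getD_eq_default _ _ (by simpa using hi)]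

/-- the mask of the image of a set under a table permutation -/
theorem enc_smul_tabPerm (tbl inv : List ℕ) (h : tabOk tbl inv = true) (hN : 7 ≤ N)
    (hN12 : N ≤ 12) (d : Finset (Fin N)) :
    enc ((tabPerm tbl inv h hN) • d) = applyTab inv (enc d) := by
  apply enc_eq_of_testBit
  · apply Nat.lt_pow_two_of_testBit
    intro i hi
    rw [testBit_applyTab]
    split
    · rw [tabFun_of_ge inv i (by omega)]
      exact testBit_enc_ge d i hi
    · rfl
  · intro x
    rw [testBit_applyTab, if_pos (by have := x.isLt; omega)]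
    rw [← Finset.inv_smul_mem_iff]
    have h1 : ((tabPerm tbl inv h hN)⁻¹ • x : Fin N) = (tabPerm tbl inv h hN)⁻¹ x := rfl
    rw [h1]
    have h2 := testBit_enc_val d ((tabPerm tbl inv h hN)⁻¹ x)
    rw [tabPerm_inv_apply] at h2
    rw [h2]
    simp

/-! ### level data -/

/-- the elements to cover at step `i`: the `(i+1)`-subsets of `{0..6+i}` not in the previous system -/
def elemsOf (i : ℕ) (Sprev : List ℕ) : List ℕ :=
  (List.range (2 ^ (7 + i))).filter (fun e => pc 12 e == i + 1 && !(Sprev.contains e))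

/-- the candidate blocks at step `i` -/
def candsOf (i : ℕ) (Sprev : List ℕ) : List ℕ :=
  (List.range (2 ^ (7 + i))).filter
    (fun c => pc 12 c == i + 2 && Sprev.all (fun s => !(covers c s)))

/-- the extension of `Sprev` by a solution -/
def extOf (i : ℕ) (Sprev sol : List ℕ) : List ℕ := Sprev.map (fun s => s ||| 2 ^ (7 + i)) ++ sol

/-- a table pair carries the extension `ext` onto `Snext` -/
def tabCheck (ext Snext : List ℕ) (tab : List ℕ × List ℕ) : Bool :=
  tabOk tab.1 tab.2 && ext.all (fun m => Snext.contains (applyTab tab.2 m)) &&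
    Snext.all (fun m => ext.contains (applyTab tab.1 m))

/-- the full check of step `i` -/
def levelCheck (i : ℕ) (Sprev Snext : List ℕ) (fuel : ℕ) (tabs : List (List ℕ × List ℕ)) : Bool :=
  Snext.all (fun s => decide (s < 2 ^ (8 + i))) &&
  decide ((candsOf i Sprev).length < fuel) &&
  (search (elemsOf i Sprev) (candsOf i Sprev) fuel []).all
    (fun sol => tabs.any (fun tab => tabCheck (extOf i Sprev sol) Snext tab))

/-- no nontrivial table permutation of the points `0..6` preserves the mask list `S` -/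
def rigidCheck (S : List ℕ) : Bool :=
  (List.permutations' [0, 1, 2, 3, 4, 5, 6]).all (fun l =>
    !(S.all (fun m => S.contains (applyTab l m))) || (l == [0, 1, 2, 3, 4, 5, 6]))

end Cfsg.Agent.Lib.Helper95.Steiner
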