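import Mathlib
import Cfsg.Agent.Lib.Helper95.SteinerTab

set_option autoImplicit false

/-! Data of the extension chain `S(0,1,7) ⊂ S(1,2,8) ⊂ ... ⊂ S(5,6,12)` and its kernel checks. -/

namespace Cfsg.Agent.Lib.Helper95.Steiner

/-- the masks of the level `0` system -/
def lvl0 : List ℕ := [1]

/-- the masks of the level `1` system -/
def lvl1 : List ℕ := [6, 24, 96, 129]

/-- the masks of the level `2` system -/
def lvl2 : List ℕ := [11, 37, 50, 76, 81, 148, 168, 194, 262, 280, 352, 385]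

/-- the masks of the level `3` system -/
def lvl3 : List ℕ := [23, 60, 90, 102, 105, 142, 153, 163, 197, 240, 269, 298, 305, 323, 340, 402, 420, 456, 523, 549, 562, 588, 593, 660, 680, 706, 774, 792, 864, 897]

/-- the masks of the level `4` system -/
def lvl4 : List ℕ := [47, 93, 115, 181, 186, 203, 214, 236, 283, 310, 334, 357, 376, 391, 412, 425, 465, 482, 542, 569, 583, 618, 628, 653, 659, 678, 728, 737, 789, 803, 812, 841, 850, 906, 944, 964, 1047, 1084, 1114, 1126, 1129, 1166, 1177, 1187, 1221, 1264, 1293, 1322, 1329, 1347, 1364, 1426, 1444, 1480, 1547, 1573, 1586, 1612, 1617, 1684, 1704, 1730, 1798, 1816, 1888, 1921]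

/-- the masks of the level `5` system -/
def lvl5 : List ℕ := [126, 159, 231, 249, 317, 343, 363, 430, 435, 461, 474, 500, 567, 603, 621, 683, 700, 718, 725, 754, 783, 826, 860, 870, 881, 918, 921, 933, 963, 1000, 1083, 1103, 1141, 1197, 1206, 1235, 1244, 1258, 1310, 1319, 1369, 1388, 1394, 1419, 1429, 1464, 1478, 1505, 1565, 1582, 1622, 1635, 1656, 1671, 1690, 1713, 1737, 1764, 1811, 1833, 1844, 1861, 1866, 1932, 1954, 2000, 2095, 2141, 2163, 2229, 2234, 2251, 2262, 2284, 2331, 2358, 2382, 2405, 2424, 2439, 2460, 2473, 2513, 2530, 2590, 2617, 2631, 2666, 2676, 2701, 2707, 2726, 2776, 2785, 2837, 2851, 2860, 2889, 2898, 2954, 2992, 3012, 3095, 3132, 3162, 3174, 3177, 3214, 3225, 3235, 3269, 3312, 3341, 3370, 3377, 3395, 3412, 3474, 3492, 3528, 3595, 3621, 3634, 3660, 3665, 3732, 3752, 3778, 3846, 3864, 3936, 3969]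

/-- the tables of step `0` -/
def tabs0 : List (List ℕ × List ℕ) := [([0, 1, 2, 3, 4, 5, 6], [0, 1, 2, 3, 4, 5, 6]), ([0, 1, 2, 3, 5, 4, 6], [0, 1, 2, 3, 5, 4, 6]), ([0, 1, 2, 3, 5, 6, 4], [0, 1, 2, 3, 6, 4, 5]), ([0, 1, 3, 2, 4, 5, 6], [0, 1, 3, 2, 4, 5, 6]), ([0, 1, 3, 2, 5, 4, 6], [0, 1, 3, 2, 5, 4, 6]), ([0, 1, 3, 2, 5, 6, 4], [0, 1, 3, 2, 6, 4, 5]), ([0, 1, 3, 4, 2, 5, 6], [0, 1, 4, 2, 3, 5, 6]), ([0, 1, 3, 5, 2, 4, 6], [0, 1, 4, 2, 5, 3, 6]), ([0, 1, 3, 5, 2, 6, 4], [0, 1, 4, 2, 6, 3, 5]), ([0, 1, 3, 4, 5, 2, 6], [0, 1, 5, 2, 3, 4, 6]), ([0, 1, 3, 5, 4, 2, 6], [0, 1, 5, 2, 4, 3, 6]), ([0, 1, 3, 5, 6, 2, 4], [0, 1, 5, 2, 6, 3, 4]), ([0, 1, 3, 4, 5, 6, 2], [0, 1, 6, 2, 3, 4, 5]), ([0, 1, 3, 5, 4, 6, 2], [0, 1, 6, 2, 4, 3, 5]), ([0, 1, 3, 5, 6, 4, 2], [0, 1, 6, 2, 5, 3, 4])]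

theorem levelCheck0 : levelCheck 0 lvl0 lvl1 16 tabs0 = true := by decide +kernel

/-- the tables of step `1` -/
def tabs1 : List (List ℕ × List ℕ) := [([0, 1, 2, 3, 4, 5, 6], [0, 1, 2, 3, 4, 5, 6]), ([0, 1, 2, 3, 4, 6, 5], [0, 1, 2, 3, 4, 6, 5]), ([0, 1, 2, 4, 3, 5, 6], [0, 1, 2, 4, 3, 5, 6]), ([0, 1, 2, 4, 3, 6, 5], [0, 1, 2, 4, 3, 6, 5]), ([0, 1, 2, 5, 6, 3, 4], [0, 1, 2, 5, 6, 3, 4]), ([0, 1, 2, 6, 5, 3, 4], [0, 1, 2, 5, 6, 4, 3]), ([0, 1, 2, 5, 6, 4, 3], [0, 1, 2, 6, 5, 3, 4]), ([0, 1, 2, 6, 5, 4, 3], [0, 1, 2, 6, 5, 4, 3])]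

theorem levelCheck1 : levelCheck 1 lvl1 lvl2 33 tabs1 = true := by decide +kernel

/-- the tables of step `2` -/
def tabs2 : List (List ℕ × List ℕ) := [([0, 1, 2, 3, 4, 5, 6], [0, 1, 2, 3, 4, 5, 6]), ([0, 2, 1, 5, 6, 3, 4], [0, 2, 1, 5, 6, 3, 4]), ([0, 3, 4, 1, 2, 6, 5], [0, 3, 4, 1, 2, 6, 5])]

theorem levelCheck2 : levelCheck 2 lvl2 lvl3 55 tabs2 = true := by decide +kernel

/-- the tables of step `3` -/
def tabs3 : List (List ℕ × List ℕ) := [([0, 1, 2, 3, 4, 5, 6], [0, 1, 2, 3, 4, 5, 6]), ([0, 6, 5, 4, 3, 2, 1], [0, 6, 5, 4, 3, 2, 1])]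

theorem levelCheck3 : levelCheck 3 lvl3 lvl4 73 tabs3 = true := by decide +kernel

/-- the tables of step `4` -/
def tabs4 : List (List ℕ × List ℕ) := [([0, 1, 2, 3, 4, 5, 6], [0, 1, 2, 3, 4, 5, 6])]

theorem levelCheck4 : levelCheck 4 lvl4 lvl5 67 tabs4 = true := by decide +kernel

theorem rigidCheck4 : rigidCheck lvl4 = true := by decide +kernel

theorem rigidCheck5 : rigidCheck lvl5 = true := by decide +kernel

theorem lvl4_lt : ∀ m ∈ lvl4, m < 2 ^ 11 := by decide +kernel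

theorem lvl5_lt : ∀ m ∈ lvl5, m < 2 ^ 12 := by decide +kernel

end Cfsg.Agent.Lib.Helper95.Steiner
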