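import Mathlib
import Cfsg.Prelude.Def_Sporadic_a
import Cfsg.Agent.Lib.Helper95.SteinerTab

set_option autoImplicit false

/-! The derived levels of a Steiner system `S(t, t+1, t+7)` on `Fin N` with respect to the marked
points `7, 8, ..., N-1`, and the extension step. -/

namespace Cfsg.Agent.Lib.Helper95.Steiner

open Cfsg.Agent.Lib.Helper95.FinMask Cfsg.Agent.Lib.Helper95.ExactCover
open Cfsg.Agent.Lib.Helper26 (pc)
open scoped Pointwise

variable {N : ℕ}

theorem perm_apply_inv {α : Type*} (f : Equiv.Perm α) (x : α) : f (f⁻¹ x) = x :=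
  f.apply_symm_apply x

theorem perm_inv_apply {α : Type*} (f : Equiv.Perm α) (x : α) : f⁻¹ (f x) = x :=
  f.symm_apply_apply x

/-- the marked points from `7 + i` on -/
def mk (N i : ℕ) : Finset (Fin N) := Finset.univ.filter (fun x => 7 + i ≤ x.val)

theorem mem_mk {i : ℕ} {x : Fin N} : x ∈ mk N i ↔ 7 + i ≤ x.val := by simp [mk]

/-- the `i`-th derived level -/
def lev (i : ℕ) (B : Set (Finset (Fin N))) : Set (Finset (Fin N)) :=
  {d | (∀ x ∈ d, x.val < 7 + i) ∧ d ∪ mk N i ∈ B}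

theorem card_mk {i : ℕ} (hi : 7 + i ≤ N) : (mk N i).card = N - (7 + i) := by
  have h1 : (Finset.univ.filter (fun x : Fin N => x.val < 7 + i)).card = 7 + i := by
    rw [Fin.card_filter_val_lt]; omega
  have h2 := Finset.card_filter_add_card_filter_not (s := (Finset.univ : Finset (Fin N)))
    (fun x : Fin N => x.val < 7 + i)
  have h3 : (Finset.univ.filter (fun x : Fin N => ¬ x.val < 7 + i)) = mk N i := by
    ext x; simp [mk]
  rw [h3, h1, Finset.card_univ, Fintype.card_fin] at h2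
  omega

theorem disjoint_mk {i : ℕ} {d : Finset (Fin N)} (hd : ∀ x ∈ d, x.val < 7 + i) :
    Disjoint d (mk N i) := by
  rw [Finset.disjoint_left]
  intro x hx hm
  have := hd x hx
  rw [mem_mk] at hm
  omega

theorem union_mk_filter {i : ℕ} (b : Finset (Fin N)) (hb : mk N i ⊆ b) :
    b.filter (fun x => x.val < 7 + i) ∪ mk N i = b := by
  ext x
  simp only [Finset.mem_union, Finset.mem_filter, mem_mk]
  constructor
  · rintro (⟨h, -⟩ | h)
    · exact h
    · exact hb (mem_mk.mpr h)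
  · intro h
    by_cases hx : x.val < 7 + i
    · exact Or.inl ⟨h, hx⟩
    · exact Or.inr (by omega)

theorem filter_union_mk {i : ℕ} {d : Finset (Fin N)} (hd : ∀ x ∈ d, x.val < 7 + i) :
    (d ∪ mk N i).filter (fun x => x.val < 7 + i) = d := by
  ext x
  simp only [Finset.mem_filter, Finset.mem_union, mem_mk]
  constructor
  · rintro ⟨h | h, h2⟩
    · exact h
    · omega
  · intro h
    exact ⟨Or.inl h, hd x h⟩

theorem card_union_mk {t i : ℕ} (hN : N = t + 7) (hi : i ≤ t) (s : Finset (Fin N))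
    (hs : ∀ x ∈ s, x.val < 7 + i) : (s ∪ mk N i).card = s.card + (t - i) := by
  rw [Finset.card_union_of_disjoint (disjoint_mk hs), card_mk (by omega)]
  omega

theorem lev_card {t i : ℕ} (hN : N = t + 7) (hi : i ≤ t) {B : Set (Finset (Fin N))}
    (hB : Cfsg.IsSteinerSystem t (t + 1) B) {d : Finset (Fin N)} (hd : d ∈ lev i B) :
    d.card = i + 1 := by
  have h1 := hB.1 _ hd.2
  rw [card_union_mk hN hi d hd.1] at h1
  omega

theorem lev_exists {t i : ℕ} (hN : N = t + 7) (hi : i ≤ t) {B : Set (Finset (Fin N))}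
    (hB : Cfsg.IsSteinerSystem t (t + 1) B) (s : Finset (Fin N))
    (hs : ∀ x ∈ s, x.val < 7 + i) (hsc : s.card = i) : ∃ d ∈ lev i B, s ⊆ d := by
  have hc : (s ∪ mk N i).card = t := by
    rw [card_union_mk hN hi s hs, hsc]; omega
  obtain ⟨b, ⟨hbB, hsb⟩, -⟩ := hB.2 _ hc
  refine ⟨b.filter (fun x => x.val < 7 + i), ⟨fun x hx => (Finset.mem_filter.mp hx).2, ?_⟩, ?_⟩
  · rw [union_mk_filter b (fun x hx => hsb (Finset.mem_union_right _ hx))]; exact hbB
  · intro x hx
    exact Finset.mem_filter.mpr ⟨hsb (Finset.mem_union_left _ hx), hs x hx⟩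

theorem lev_unique {t i : ℕ} (hN : N = t + 7) (hi : i ≤ t) {B : Set (Finset (Fin N))}
    (hB : Cfsg.IsSteinerSystem t (t + 1) B) (s : Finset (Fin N))
    (hs : ∀ x ∈ s, x.val < 7 + i) (hsc : s.card = i) {d1 d2 : Finset (Fin N)}
    (h1 : d1 ∈ lev i B) (h2 : d2 ∈ lev i B) (hs1 : s ⊆ d1) (hs2 : s ⊆ d2) : d1 = d2 := by
  have hc : (s ∪ mk N i).card = t := by
    rw [card_union_mk hN hi s hs, hsc]; omega
  obtain ⟨b, -, huniq⟩ := hB.2 _ hc
  have e1 := huniq (d1 ∪ mk N i) ⟨h1.2, Finset.union_subset_union_left hs1⟩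
  have e2 := huniq (d2 ∪ mk N i) ⟨h2.2, Finset.union_subset_union_left hs2⟩
  rw [← filter_union_mk h1.1, ← filter_union_mk h2.1, e1, e2]

theorem mk_succ {i : ℕ} (hi : 7 + i < N) :
    mk N i = insert (⟨7 + i, hi⟩ : Fin N) (mk N (i + 1)) := by
  ext x
  simp only [mem_mk, Finset.mem_insert, Fin.ext_iff]
  omega

theorem mem_lev_succ {i : ℕ} (hi : 7 + i < N) (B : Set (Finset (Fin N))) {d' : Finset (Fin N)}
    (hd' : ∀ x ∈ d', x.val < 7 + i) :
    insert (⟨7 + i, hi⟩ : Fin N) d' ∈ lev (i + 1) B ↔ d' ∈ lev i B := by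
  have e : insert (⟨7 + i, hi⟩ : Fin N) d' ∪ mk N (i + 1) = d' ∪ mk N i := by
    rw [mk_succ hi, Finset.insert_union, Finset.union_insert]
  constructor
  · intro h
    exact ⟨hd', e ▸ h.2⟩
  · intro h
    refine ⟨?_, e.symm ▸ h.2⟩
    intro x hx
    rcases Finset.mem_insert.mp hx with rfl | hx
    · simp only; omega
    · have := hd' x hx; omega

theorem erase_mem_lev {i : ℕ} (hi : 7 + i < N) {B : Set (Finset (Fin N))} {d : Finset (Fin N)}
    (hd : d ∈ lev (i + 1) B) (hp : (⟨7 + i, hi⟩ : Fin N) ∈ d) :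
    d.erase ⟨7 + i, hi⟩ ∈ lev i B := by
  have hlt : ∀ x ∈ d.erase (⟨7 + i, hi⟩ : Fin N), x.val < 7 + i := by
    intro x hx
    rw [Finset.mem_erase] at hx
    have h1 := hd.1 x hx.2
    have h2 : x.val ≠ 7 + i := fun h => hx.1 (Fin.ext h)
    omega
  rw [← mem_lev_succ hi B hlt, Finset.insert_erase hp]
  exact hd

theorem val_lt_of_fix (τ : Equiv.Perm (Fin N)) (hτ : ∀ x : Fin N, 7 ≤ x.val → τ x = x) (n : ℕ)
    (hn : 7 ≤ n) (x : Fin N) (hx : x.val < n) : (τ x).val < n := by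
  by_contra hcon
  have h7 : 7 ≤ (τ x).val := by omega
  have h1 := hτ (τ x) h7
  have h2 : τ x = x := τ.injective h1
  rw [h2] at hcon
  exact hcon hx

theorem inv_fix (τ : Equiv.Perm (Fin N)) (hτ : ∀ x : Fin N, 7 ≤ x.val → τ x = x) :
    ∀ x : Fin N, 7 ≤ x.val → τ⁻¹ x = x := by
  intro x hx
  rw [Equiv.Perm.inv_eq_iff_eq, hτ x hx]

theorem smul_mk (τ : Equiv.Perm (Fin N)) (hτ : ∀ x : Fin N, 7 ≤ x.val → τ x = x) (i : ℕ) :
    τ • mk N i = mk N i := by
  ext x
  rw [← Finset.inv_smul_mem_iff, mem_mk, mem_mk, Equiv.Perm.smul_def]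
  constructor
  · intro h
    have h1 := hτ (τ⁻¹ x) (by omega)
    rw [perm_apply_inv] at h1
    rw [← h1] at h
    exact h
  · intro h
    rw [inv_fix τ hτ x (by omega)]
    exact h

theorem lev_smul (τ : Equiv.Perm (Fin N)) (hτ : ∀ x : Fin N, 7 ≤ x.val → τ x = x) (i : ℕ)
    (B : Set (Finset (Fin N))) : lev i (τ • B) = τ • lev i B := by
  ext d
  rw [Set.mem_smul_set_iff_inv_smul_mem]
  show ((∀ x ∈ d, x.val < 7 + i) ∧ d ∪ mk N i ∈ τ • B) ↔
    ((∀ x ∈ τ⁻¹ • d, x.val < 7 + i) ∧ τ⁻¹ • d ∪ mk N i ∈ B)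
  rw [Set.mem_smul_set_iff_inv_smul_mem, Finset.smul_finset_union, smul_mk τ⁻¹ (inv_fix τ hτ)]
  constructor
  · rintro ⟨h1, h2⟩
    refine ⟨?_, h2⟩
    intro x hx
    rw [Finset.mem_smul_finset] at hx
    obtain ⟨y, hy, rfl⟩ := hx
    exact val_lt_of_fix τ⁻¹ (inv_fix τ hτ) _ (by omega) y (h1 y hy)
  · rintro ⟨h1, h2⟩
    refine ⟨?_, h2⟩
    intro x hx
    have hmem : τ⁻¹ • x ∈ τ⁻¹ • d := Finset.smul_mem_smul_finset hx
    have h3 := h1 _ hmem
    have h4 := val_lt_of_fix τ hτ _ (by omega : 7 ≤ 7 + i) (τ⁻¹ • x) h3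
    rwa [Equiv.Perm.smul_def, perm_apply_inv] at h4

theorem lev_top {t : ℕ} (hN : N = t + 7) (B : Set (Finset (Fin N))) : lev t B = B := by
  have hmk : mk N t = ∅ := by
    ext x
    simp only [mem_mk, Finset.notMem_empty, iff_false]
    have := x.isLt
    omega
  ext d
  show ((∀ x ∈ d, x.val < 7 + t) ∧ d ∪ mk N t ∈ B) ↔ d ∈ B
  rw [hmk, Finset.union_empty]
  constructor
  · exact fun h => h.2
  · exact fun h => ⟨fun x _ => by have := x.isLt; omega, h⟩

/-- transport of a Steiner system along a bijection -/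
theorem steiner_image {α β : Type*} [DecidableEq β] (e : α ≃ β) {t k : ℕ}
    {B : Set (Finset α)} (hB : Cfsg.IsSteinerSystem t k B) :
    Cfsg.IsSteinerSystem t k ((fun b => b.image e) '' B) := by
  classical
  constructor
  · rintro _ ⟨b, hb, rfl⟩
    rw [Finset.card_image_of_injective _ e.injective]
    exact hB.1 b hb
  · intro s hs
    have hs' : (s.image e.symm).card = t := by
      rw [Finset.card_image_of_injective _ e.symm.injective, hs]
    obtain ⟨b, ⟨hb, hsb⟩, huniq⟩ := hB.2 _ hs'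
    refine ⟨b.image e, ⟨⟨b, hb, rfl⟩, ?_⟩, ?_⟩
    · intro x hx
      rw [Finset.mem_image]
      exact ⟨e.symm x, hsb (Finset.mem_image_of_mem _ hx), e.apply_symm_apply x⟩
    · rintro _ ⟨⟨b', hb', rfl⟩, hsb'⟩
      have : b' = b := by
        apply huniq b' ⟨hb', ?_⟩
        intro x hx
        obtain ⟨y, hy, rfl⟩ := Finset.mem_image.mp hx
        obtain ⟨z, hz, hzy⟩ := Finset.mem_image.mp (hsb' hy)
        rw [← hzy, e.symm_apply_apply]
        exact hz
      rw [this]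

theorem smul_eq_image (τ : Equiv.Perm (Fin N)) (B : Set (Finset (Fin N))) :
    τ • B = (fun b => b.image τ) '' B := rfl

theorem steiner_smul (τ : Equiv.Perm (Fin N)) {t k : ℕ} {B : Set (Finset (Fin N))}
    (hB : Cfsg.IsSteinerSystem t k B) : Cfsg.IsSteinerSystem t k (τ • B) := by
  rw [smul_eq_image]
  exact steiner_image τ hB

theorem covers_enc (d d' : Finset (Fin N)) : covers (enc d) (enc d') = true ↔ d' ⊆ d := by
  rw [subset_iff_land d' d, covers, beq_iff_eq]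

end Cfsg.Agent.Lib.Helper95.Steiner
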