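import Mathlib
import Cfsg.Prelude.Def_Sporadic_a
import Cfsg.Agent.Lib.Helper95.SteinerLevels

set_option autoImplicit false

/-! The extension step: from level `i` to level `i + 1`. -/

namespace Cfsg.Agent.Lib.Helper95.Steiner

open Cfsg.Agent.Lib.Helper95.FinMask Cfsg.Agent.Lib.Helper95.ExactCover
open Cfsg.Agent.Lib.Helper26 (pc)
open scoped Pointwise

variable {N : ℕ}

theorem step {t : ℕ} (hN : N = t + 7) (hN12 : N ≤ 12) {i : ℕ} (hi : i < t)
    (Sprev Snext : List ℕ) (fuel : ℕ) (tabs : List (List ℕ × List ℕ))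
    (hchk : levelCheck i Sprev Snext fuel tabs = true)
    {B : Set (Finset (Fin N))} (hB : Cfsg.IsSteinerSystem t (t + 1) B)
    (hinv : enc '' lev i B = {m | m ∈ Sprev}) :
    ∃ τ : Equiv.Perm (Fin N), (∀ x : Fin N, 7 ≤ x.val → τ x = x) ∧
      enc '' lev (i + 1) (τ • B) = {m | m ∈ Snext} := by
  classical
  have hpN : 7 + i < N := by omega
  have hN7 : 7 ≤ N := by omega
  set p : Fin N := ⟨7 + i, hpN⟩ with hp
  have memSprev : ∀ s, s ∈ Sprev ↔ ∃ d ∈ lev i B, enc d = s := by
    intro s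
    have : s ∈ enc '' lev i B ↔ s ∈ {m | m ∈ Sprev} := by rw [hinv]
    exact this.symm
  have cardL : ∀ d ∈ lev i B, d.card = i + 1 := fun d hd => lev_card hN (le_of_lt hi) hB hd
  have cardL' : ∀ d ∈ lev (i + 1) B, d.card = i + 1 + 1 := fun d hd => lev_card hN hi hB hd
  have ltL : ∀ d ∈ lev i B, ∀ x ∈ d, x.val < 7 + i := fun d hd => hd.1
  have ltL' : ∀ d ∈ lev (i + 1) B, ∀ x ∈ d, x.val < 7 + (i + 1) := fun d hd => hd.1
  -- key: a block of level `i` inside a block of level `i+1` forces the new point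
  have key : ∀ d' ∈ lev i B, ∀ d ∈ lev (i + 1) B, d' ⊆ d → p ∈ d := by
    intro d' hd' d hd hsub
    have h1 : insert p d' ∈ lev (i + 1) B := (mem_lev_succ hpN B (ltL d' hd')).mpr hd'
    have h2 := lev_unique hN hi hB d' (fun x hx => by have := ltL d' hd' x hx; omega)
      (cardL d' hd') hd h1 hsub (Finset.subset_insert _ _)
    rw [h2]
    exact Finset.mem_insert_self _ _
  -- the blocks avoiding the new point
  have ltR : ∀ d ∈ lev (i + 1) B, p ∉ d → ∀ x ∈ d, x.val < 7 + i := by
    intro d hd hpd x hx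
    have h1 := ltL' d hd x hx
    have h2 : x ≠ p := fun h => hpd (h ▸ hx)
    have h3 : x.val ≠ 7 + i := fun h => h2 (Fin.ext h)
    omega
  let Rm : Finset ℕ :=
    ((Finset.univ : Finset (Finset (Fin N))).filter (fun d => d ∈ lev (i + 1) B ∧ p ∉ d)).image enc
  have memRm : ∀ m, m ∈ Rm ↔ ∃ d, (d ∈ lev (i + 1) B ∧ p ∉ d) ∧ enc d = m := by
    intro m
    simp only [Rm, Finset.mem_image, Finset.mem_filter, Finset.mem_univ, true_and]
  -- unpack the check
  simp only [levelCheck, Bool.and_eq_true, List.all_eq_true, decide_eq_true_eq,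
    List.any_eq_true] at hchk
  obtain ⟨⟨hSnextlt, hfuel⟩, hsols⟩ := hchk
  have h1 : ∀ r ∈ Rm, r ∈ candsOf i Sprev := by
    intro r hr
    obtain ⟨d, ⟨hd, hpd⟩, rfl⟩ := (memRm r).mp hr
    simp only [candsOf, List.mem_filter, List.mem_range, Bool.and_eq_true, beq_iff_eq,
      List.all_eq_true, Bool.not_eq_eq_eq_not, Bool.not_true]
    refine ⟨enc_lt_of_forall_lt d _ (ltR d hd hpd), ?_, ?_⟩
    · rw [← card_eq_pc' d hN12]
      exact cardL' d hd
    · intro s hs
      obtain ⟨d', hd', rfl⟩ := (memSprev s).mp hs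
      by_contra hcov
      have hcov' : covers (enc d) (enc d') = true := by simpa using hcov
      exact hpd (key d' hd' d hd ((covers_enc d d').mp hcov'))
  have h2 : ∀ e ∈ elemsOf i Sprev, ∃ r ∈ Rm, covers r e = true ∧
      ∀ r' ∈ Rm, covers r' e = true → r' = r := by
    intro e he
    simp only [elemsOf, List.mem_filter, List.mem_range, Bool.and_eq_true, beq_iff_eq,
      Bool.not_eq_eq_eq_not, Bool.not_true, List.contains_eq_mem, decide_eq_false_iff_not] at he
    obtain ⟨helt, hepc, henot⟩ := he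
    have heN : e < 2 ^ N := lt_of_lt_of_le helt (Nat.pow_le_pow_right (by norm_num) (by omega))
    have hes : enc (dec N e) = e := enc_dec heN
    have hslt : ∀ x ∈ dec N e, x.val < 7 + i := by
      intro x hx
      rw [mem_dec] at hx
      by_contra hge
      have hlt : e < 2 ^ x.val :=
        lt_of_lt_of_le helt (Nat.pow_le_pow_right (by norm_num) (by omega))
      rw [Nat.testBit_lt_two_pow hlt] at hx
      exact Bool.false_ne_true hx
    have hsc : (dec N e).card = i + 1 := by
      rw [card_eq_pc' (dec N e) hN12, hes]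
      exact hepc
    obtain ⟨d, hd, hsd⟩ := lev_exists hN hi hB (dec N e)
      (fun x hx => by have := hslt x hx; omega) hsc
    have hpd : p ∉ d := by
      intro hpmem
      have h1 := erase_mem_lev hpN hd hpmem
      have hps : p ∉ dec N e := fun h => by
        have := hslt p h
        simp only [hp] at this
        omega
      have h2 : dec N e ⊆ d.erase p := fun x hx =>
        Finset.mem_erase.mpr ⟨fun h => hps (h ▸ hx), hsd hx⟩
      have h3 : dec N e = d.erase p :=
        Finset.eq_of_subset_of_card_le h2 (by rw [cardL _ h1, hsc])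
      apply henot
      rw [memSprev]
      exact ⟨d.erase p, h1, by rw [← h3, hes]⟩
    refine ⟨enc d, (memRm _).mpr ⟨d, ⟨hd, hpd⟩, rfl⟩, ?_, ?_⟩
    · rw [← hes]
      exact (covers_enc d (dec N e)).mpr hsd
    · intro r' hr' hcov
      obtain ⟨d2, ⟨hd2, -⟩, rfl⟩ := (memRm r').mp hr'
      rw [← hes] at hcov
      have hsub := (covers_enc d2 (dec N e)).mp hcov
      rw [lev_unique hN hi hB (dec N e) (fun x hx => by have := hslt x hx; omega) hsc hd2 hd
        hsub hsd]
  have h3 : ∀ r ∈ Rm, ∃ e ∈ elemsOf i Sprev, covers r e = true := by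
    intro r hr
    obtain ⟨d, ⟨hd, hpd⟩, rfl⟩ := (memRm r).mp hr
    have hdc := cardL' d hd
    obtain ⟨x, hx⟩ : d.Nonempty := by
      rw [← Finset.card_pos]; omega
    have hsc : (d.erase x).card = i + 1 := by
      rw [Finset.card_erase_of_mem hx, hdc]; rfl
    have hsd : d.erase x ⊆ d := Finset.erase_subset _ _
    have hsL : d.erase x ∉ lev i B := fun h => hpd (key _ h d hd hsd)
    refine ⟨enc (d.erase x), ?_, (covers_enc d _).mpr hsd⟩
    simp only [elemsOf, List.mem_filter, List.mem_range, Bool.and_eq_true, beq_iff_eq,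
      Bool.not_eq_eq_eq_not, Bool.not_true, List.contains_eq_mem, decide_eq_false_iff_not]
    refine ⟨enc_lt_of_forall_lt _ _ (fun y hy => ltR d hd hpd y (hsd hy)), ?_, ?_⟩
    · rw [← card_eq_pc' _ hN12]
      exact hsc
    · intro hmem
      obtain ⟨d', hd', hdd⟩ := (memSprev _).mp hmem
      rw [enc_injective hdd] at hd'
      exact hsL hd'
  have hcard : Rm.card < fuel + ([] : List ℕ).length := by
    have hsub : Rm ⊆ (candsOf i Sprev).toFinset := fun r hr => List.mem_toFinset.mpr (h1 r hr)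
    have hc1 := Finset.card_le_card hsub
    have hc2 := List.toFinset_card_le (candsOf i Sprev)
    simp only [List.length_nil, add_zero]
    omega
  obtain ⟨sol, hsol, hsolR⟩ := search_complete (elemsOf i Sprev) (candsOf i Sprev) Rm h1 h2 h3
    fuel [] List.nodup_nil (by simp) hcard
  obtain ⟨tab, -, htab⟩ := hsols sol hsol
  simp only [tabCheck, Bool.and_eq_true, List.all_eq_true, List.contains_eq_mem,
    decide_eq_true_eq] at htab
  obtain ⟨⟨hok, hfwd⟩, hbwd⟩ := htab
  -- the masks of level `i + 1`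
  have hext : ∀ m, m ∈ extOf i Sprev sol ↔ ∃ d ∈ lev (i + 1) B, enc d = m := by
    intro m
    rw [extOf, List.mem_append, List.mem_map]
    constructor
    · rintro (⟨s, hs, rfl⟩ | hm)
      · obtain ⟨d', hd', rfl⟩ := (memSprev s).mp hs
        exact ⟨insert p d', (mem_lev_succ hpN B (ltL d' hd')).mpr hd',
          enc_insert_of_notMem d' p⟩
      · have : m ∈ Rm := by rw [← hsolR]; exact List.mem_toFinset.mpr hm
        obtain ⟨d, ⟨hd, -⟩, rfl⟩ := (memRm m).mp this
        exact ⟨d, hd, rfl⟩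
    · rintro ⟨d, hd, rfl⟩
      by_cases hpd : p ∈ d
      · left
        refine ⟨enc (d.erase p), (memSprev _).mpr ⟨_, erase_mem_lev hpN hd hpd, rfl⟩, ?_⟩
        rw [← enc_insert_of_notMem (d.erase p) p, Finset.insert_erase hpd]
      · right
        have : enc d ∈ Rm := (memRm _).mpr ⟨d, ⟨hd, hpd⟩, rfl⟩
        rw [← hsolR] at this
        exact List.mem_toFinset.mp this
  have hτfix : ∀ x : Fin N, 7 ≤ x.val → (tabPerm tab.1 tab.2 hok hN7) x = x := by
    intro x hx
    apply Fin.ext
    rw [tabPerm_apply]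
    exact tabFun_of_ge _ _ hx
  refine ⟨tabPerm tab.1 tab.2 hok hN7, hτfix, ?_⟩
  rw [lev_smul _ hτfix]
  ext m
  constructor
  · rintro ⟨d, hd, rfl⟩
    obtain ⟨d0, hd0, rfl⟩ := hd
    show enc ((tabPerm tab.1 tab.2 hok hN7) • d0) ∈ Snext
    rw [enc_smul_tabPerm tab.1 tab.2 hok hN7 hN12]
    exact hfwd (enc d0) ((hext _).mpr ⟨d0, hd0, rfl⟩)
  · intro hm
    have hm' : m ∈ Snext := hm
    have hmlt : m < 2 ^ N := by
      have := hSnextlt m hm'
      exact lt_of_lt_of_le this (Nat.pow_le_pow_right (by norm_num) (by omega))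
    obtain ⟨d, hd, hdm⟩ := (hext _).mp (hbwd m hm')
    have h4 : applyTab tab.1 m = enc ((tabPerm tab.1 tab.2 hok hN7)⁻¹ • dec N m) := by
      rw [tabPerm_inv, enc_smul_tabPerm tab.2 tab.1 (tabOk_symm hok) hN7 hN12, enc_dec hmlt]
    have h5 : (tabPerm tab.1 tab.2 hok hN7)⁻¹ • dec N m = d :=
      enc_injective (by rw [← h4, hdm])
    refine ⟨dec N m, ⟨d, hd, ?_⟩, enc_dec hmlt⟩
    show (tabPerm tab.1 tab.2 hok hN7) • d = dec N m
    rw [← h5, smul_inv_smul]

end Cfsg.Agent.Lib.Helper95.Steiner
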