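import Mathlib
import Cfsg.Prelude.Def_Sporadic_a
import Cfsg.Agent.Lib.Helper95.SteinerStep
import Cfsg.Agent.Lib.Helper95.SteinerData

set_option autoImplicit false

/-! Normal form and rigidity of the Steiner systems `S(5,6,12)` and `S(4,5,11)` on `Fin N`. -/

namespace Cfsg.Agent.Lib.Helper95.Steiner

open Cfsg.Agent.Lib.Helper95.FinMask Cfsg.Agent.Lib.Helper95.ExactCover
open scoped Pointwise

variable {N : ℕ}

/-- some permutation fixing the marked points brings level `i` of `B` to the mask list `S` -/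
def Reach (i : ℕ) (S : List ℕ) (B : Set (Finset (Fin N))) : Prop :=
  ∃ τ : Equiv.Perm (Fin N), (∀ x : Fin N, 7 ≤ x.val → τ x = x) ∧
    enc '' lev i (τ • B) = {m | m ∈ S}

theorem reach_step {t : ℕ} (hN : N = t + 7) (hN12 : N ≤ 12) {i : ℕ} (hi : i < t)
    (Sprev Snext : List ℕ) (fuel : ℕ) (tabs : List (List ℕ × List ℕ))
    (hchk : levelCheck i Sprev Snext fuel tabs = true)
    {B : Set (Finset (Fin N))} (hB : Cfsg.IsSteinerSystem t (t + 1) B)
    (h : Reach i Sprev B) : Reach (i + 1) Snext B := by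
  obtain ⟨τ, hτ, hinv⟩ := h
  obtain ⟨τ', hτ', h'⟩ := step hN hN12 hi Sprev Snext fuel tabs hchk (steiner_smul τ hB) hinv
  refine ⟨τ' * τ, fun x hx => by rw [Equiv.Perm.mul_apply, hτ x hx, hτ' x hx], ?_⟩
  rw [mul_smul]
  exact h'

theorem enc_empty : enc (∅ : Finset (Fin N)) = 0 := by
  have := enc_lt_of_forall_lt (∅ : Finset (Fin N)) 0 (by simp)
  omega

theorem enc_singleton_zero (hN0 : 0 < N) : enc ({⟨0, hN0⟩} : Finset (Fin N)) = 1 := by
  have := enc_insert_of_notMem (∅ : Finset (Fin N)) ⟨0, hN0⟩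
  rw [enc_empty] at this
  simpa using this

theorem reach_zero {t : ℕ} (hN : N = t + 7) {B : Set (Finset (Fin N))}
    (hB : Cfsg.IsSteinerSystem t (t + 1) B) : Reach 0 [1] B := by
  classical
  have hN0 : 0 < N := by omega
  obtain ⟨d, hd, -⟩ := lev_exists hN (Nat.zero_le t) hB ∅ (by simp) rfl
  have hdc := lev_card hN (Nat.zero_le t) hB hd
  obtain ⟨c, rfl⟩ := Finset.card_eq_one.mp hdc
  have hL : lev 0 B = {{c}} := by
    ext d'
    constructor
    · intro hd'
      exact lev_unique hN (Nat.zero_le t) hB ∅ (by simp) rfl hd' hd (Finset.empty_subset _)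
        (Finset.empty_subset _)
    · intro h
      rw [Set.mem_singleton_iff] at h
      rw [h]
      exact hd
  have hc : c.val < 7 := by
    have := hd.1 c (Finset.mem_singleton_self c)
    omega
  have hfix : ∀ x : Fin N, 7 ≤ x.val → (Equiv.swap c ⟨0, hN0⟩) x = x := by
    intro x hx
    apply Equiv.swap_apply_of_ne_of_ne
    · intro h
      rw [h] at hx
      omega
    · intro h
      rw [h] at hx
      simp at hx
  refine ⟨Equiv.swap c ⟨0, hN0⟩, hfix, ?_⟩
  rw [lev_smul _ hfix, hL, Set.smul_set_singleton, Finset.smul_finset_singleton,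
    Set.image_singleton, Equiv.Perm.smul_def, Equiv.swap_apply_left, enc_singleton_zero hN0]
  ext m
  simp

theorem reach_top {t : ℕ} (hN : N = t + 7) {S : List ℕ} {B : Set (Finset (Fin N))}
    (h : Reach t S B) :
    ∃ τ : Equiv.Perm (Fin N), (∀ x : Fin N, 7 ≤ x.val → τ x = x) ∧
      τ • B = {b | enc b ∈ S} := by
  obtain ⟨τ, hτ, h⟩ := h
  refine ⟨τ, hτ, ?_⟩
  rw [lev_top hN] at h
  ext b
  constructor
  · intro hb
    have : enc b ∈ enc '' (τ • B) := ⟨b, hb, rfl⟩
    rw [h] at this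
    exact this
  · intro hb
    have : enc b ∈ enc '' (τ • B) := by
      rw [h]
      exact hb
    obtain ⟨b', hb', hbb⟩ := this
    rw [← enc_injective hbb]
    exact hb'

/-- the standard `S(5,6,12)` -/
def Std12 : Set (Finset (Fin 12)) := {b | enc b ∈ lvl5}

/-- the standard `S(4,5,11)` -/
def Std11 : Set (Finset (Fin 11)) := {b | enc b ∈ lvl4}

theorem norm12 {B : Set (Finset (Fin 12))} (hB : Cfsg.IsSteinerSystem 5 6 B) :
    ∃ τ : Equiv.Perm (Fin 12), (∀ x : Fin 12, 7 ≤ x.val → τ x = x) ∧ τ • B = Std12 := by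
  have hB' : Cfsg.IsSteinerSystem 5 (5 + 1) B := hB
  have h0 : Reach 0 lvl0 B := reach_zero (t := 5) rfl hB'
  have h1 := reach_step (t := 5) rfl (le_refl _) (by norm_num) _ _ _ _ levelCheck0 hB' h0
  have h2 := reach_step (t := 5) rfl (le_refl _) (by norm_num) _ _ _ _ levelCheck1 hB' h1
  have h3 := reach_step (t := 5) rfl (le_refl _) (by norm_num) _ _ _ _ levelCheck2 hB' h2
  have h4 := reach_step (t := 5) rfl (le_refl _) (by norm_num) _ _ _ _ levelCheck3 hB' h3
  have h5 := reach_step (t := 5) rfl (le_refl _) (by norm_num) _ _ _ _ levelCheck4 hB' h4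
  exact reach_top (t := 5) rfl h5

theorem norm11 {B : Set (Finset (Fin 11))} (hB : Cfsg.IsSteinerSystem 4 5 B) :
    ∃ τ : Equiv.Perm (Fin 11), (∀ x : Fin 11, 7 ≤ x.val → τ x = x) ∧ τ • B = Std11 := by
  have hB' : Cfsg.IsSteinerSystem 4 (4 + 1) B := hB
  have h0 : Reach 0 lvl0 B := reach_zero (t := 4) rfl hB'
  have h1 := reach_step (t := 4) rfl (by norm_num) (by norm_num) _ _ _ _ levelCheck0 hB' h0
  have h2 := reach_step (t := 4) rfl (by norm_num) (by norm_num) _ _ _ _ levelCheck1 hB' h1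
  have h3 := reach_step (t := 4) rfl (by norm_num) (by norm_num) _ _ _ _ levelCheck2 hB' h2
  have h4 := reach_step (t := 4) rfl (by norm_num) (by norm_num) _ _ _ _ levelCheck3 hB' h3
  exact reach_top (t := 4) rfl h4

/-! ### rigidity -/

theorem enc_inv_smul_of_tab (h : Equiv.Perm (Fin N)) (tbl : List ℕ)
    (htab : ∀ x : Fin N, tabFun tbl x.val = (h x).val) (hN7 : 7 ≤ N) (hN12 : N ≤ 12)
    (d : Finset (Fin N)) : enc (h⁻¹ • d) = applyTab tbl (enc d) := by
  apply enc_eq_of_testBit
  · apply Nat.lt_pow_two_of_testBit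
    intro i hi
    rw [testBit_applyTab]
    split
    · rw [tabFun_of_ge tbl i (by omega)]
      exact testBit_enc_ge d i hi
    · rfl
  · intro x
    rw [testBit_applyTab, if_pos (by have := x.isLt; omega), htab x, testBit_enc_val,
      Finset.mem_inv_smul_finset_iff]
    simp

theorem rigid (hN7 : 7 ≤ N) (hN12 : N ≤ 12) (S : List ℕ) (hS : rigidCheck S = true)
    (hlt : ∀ m ∈ S, m < 2 ^ N) (h : Equiv.Perm (Fin N))
    (hh : h • {b : Finset (Fin N) | enc b ∈ S} = {b | enc b ∈ S})
    (hfix : ∀ x : Fin N, 7 ≤ x.val → h x = x) : h = 1 := by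
  have hflt : ∀ i : Fin 7, (h ⟨i.val, by omega⟩).val < 7 :=
    fun i => val_lt_of_fix h hfix 7 (le_refl _) _ i.isLt
  have hfinj : Function.Injective (fun i : Fin 7 => (h ⟨i.val, by omega⟩).val) := by
    intro a b hab
    have h1 : (⟨a.val, by omega⟩ : Fin N) = ⟨b.val, by omega⟩ := h.injective (Fin.ext hab)
    exact Fin.ext (Fin.mk.inj_iff.mp h1)
  have hperm : List.ofFn (fun i : Fin 7 => (h ⟨i.val, by omega⟩).val) ∈
      List.permutations' [0, 1, 2, 3, 4, 5, 6] := by
    rw [List.mem_permutations']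
    apply List.Subperm.perm_of_length_le
    · apply List.Nodup.subperm (List.nodup_ofFn.mpr hfinj)
      intro a ha
      rw [List.mem_ofFn] at ha
      obtain ⟨i, rfl⟩ := ha
      have := hflt i
      simp only [List.mem_cons, List.not_mem_nil, or_false]
      omega
    · simp
  have htab : ∀ x : Fin N,
      tabFun (List.ofFn (fun i : Fin 7 => (h ⟨i.val, by omega⟩).val)) x.val = (h x).val := by
    intro x
    unfold tabFun
    split
    · rename_i hx7
      rw [List.getD_eq_getElem _ _ (by simpa using hx7), List.getElem_ofFn]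
    · rename_i hx7
      rw [hfix x (by omega)]
  have hall : S.all (fun m => S.contains
      (applyTab (List.ofFn (fun i : Fin 7 => (h ⟨i.val, by omega⟩).val)) m)) = true := by
    rw [List.all_eq_true]
    intro m hm
    rw [List.contains_eq_mem, decide_eq_true_eq]
    have hmlt := hlt m hm
    have h1 : dec N m ∈ {b : Finset (Fin N) | enc b ∈ S} := by
      show enc (dec N m) ∈ S
      rw [enc_dec hmlt]
      exact hm
    have h2 : h⁻¹ • dec N m ∈ {b : Finset (Fin N) | enc b ∈ S} := by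
      rw [← Set.mem_smul_set_iff_inv_smul_mem, hh]
      exact h1
    have h3 := enc_inv_smul_of_tab h _ htab hN7 hN12 (dec N m)
    rw [enc_dec hmlt] at h3
    rw [← h3]
    exact h2
  have hS' := hS
  unfold rigidCheck at hS'
  rw [List.all_eq_true] at hS'
  have h6 := hS' _ hperm
  rw [hall] at h6
  have h7 : List.ofFn (fun i : Fin 7 => (h ⟨i.val, by omega⟩).val) = [0, 1, 2, 3, 4, 5, 6] := by
    simpa using h6
  apply Equiv.ext
  intro x
  apply Fin.ext
  rw [← htab x, h7]
  show tabFun [0, 1, 2, 3, 4, 5, 6] x.val = x.val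
  unfold tabFun
  split
  · rename_i hx7
    have : ∀ i < 7, [0, 1, 2, 3, 4, 5, 6].getD i 0 = i := by decide
    exact this _ hx7
  · rfl

theorem rigid12 (h : Equiv.Perm (Fin 12)) (hh : h • Std12 = Std12)
    (hfix : ∀ x : Fin 12, 7 ≤ x.val → h x = x) : h = 1 :=
  rigid (by norm_num) (le_refl _) lvl5 rigidCheck5 lvl5_lt h hh hfix

theorem rigid11 (h : Equiv.Perm (Fin 11)) (hh : h • Std11 = Std11)
    (hfix : ∀ x : Fin 11, 7 ≤ x.val → h x = x) : h = 1 :=
  rigid (by norm_num) (by norm_num) lvl4 rigidCheck4 lvl4_lt h hh hfix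

end Cfsg.Agent.Lib.Helper95.Steiner
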