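import Mathlib
import Cfsg.Prelude.Def_Sporadic_a
import Cfsg.Agent.Lib.Helper17.SylowTools
import Cfsg.Agent.Lib.Helper95.PrimeDegree
import Cfsg.Agent.Lib.Helper95.SteinerChain

set_option autoImplicit false

/-! Uniqueness, sharp transitivity and order of the automorphism group of the small Steiner
systems `S(5,6,12)` and `S(4,5,11)` on an arbitrary point set. -/

namespace Cfsg.Agent.Lib.Helper95.Steiner

open scoped Pointwise
open MulAction

section imgSys

variable {α β γ : Type*} [DecidableEq β] [DecidableEq γ]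

/-- the image of a set system under a bijection -/
def imgSys (e : α ≃ β) (B : Set (Finset α)) : Set (Finset β) := (fun b => b.image e) '' B

theorem imgSys_trans (e : α ≃ β) (f : β ≃ γ) (B : Set (Finset α)) :
    imgSys (e.trans f) B = imgSys f (imgSys e B) := by
  unfold imgSys
  rw [Set.image_image]
  apply Set.image_congr
  intro b _
  rw [Finset.image_image]
  rfl

theorem imgSys_refl [DecidableEq α] (B : Set (Finset α)) : imgSys (Equiv.refl α) B = B := by
  unfold imgSys
  have : (fun b : Finset α => b.image (Equiv.refl α)) = id := by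
    funext b
    simp
  rw [this, Set.image_id]

theorem imgSys_symm [DecidableEq α] (e : α ≃ β) (B : Set (Finset α)) : imgSys e.symm (imgSys e B) = B := by
  rw [← imgSys_trans, Equiv.self_trans_symm, imgSys_refl]

theorem imgSys_symm' [DecidableEq α] (e : α ≃ β) (B : Set (Finset β)) : imgSys e (imgSys e.symm B) = B := by
  rw [← imgSys_trans, Equiv.symm_trans_self, imgSys_refl]

theorem smul_eq_imgSys [DecidableEq α] (g : Equiv.Perm α) (B : Set (Finset α)) : g • B = imgSys g B := rfl

end imgSys

/-- the data proved on `Fin N`: normal form and rigidity -/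
structure NormData (N t : ℕ) (Std : Set (Finset (Fin N))) : Prop where
  hN : N = t + 7
  norm : ∀ B : Set (Finset (Fin N)), Cfsg.IsSteinerSystem t (t + 1) B →
    ∃ τ : Equiv.Perm (Fin N), (∀ x : Fin N, 7 ≤ x.val → τ x = x) ∧ τ • B = Std
  rigid : ∀ h : Equiv.Perm (Fin N), h • Std = Std → (∀ x : Fin N, 7 ≤ x.val → h x = x) → h = 1

theorem normData12 : NormData 12 5 Std12 :=
  ⟨rfl, fun _ hB => norm12 hB, rigid12⟩

theorem normData11 : NormData 11 4 Std11 :=
  ⟨rfl, fun _ hB => norm11 hB, rigid11⟩

/-- the marked points as an embedding -/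
def markEmb {N t : ℕ} (hN : N = t + 7) : Fin t ↪ Fin N :=
  ⟨fun j => ⟨7 + j.val, by have := j.isLt; omega⟩, fun a b h => by
    have h1 := Fin.mk.inj_iff.mp h
    exact Fin.ext (by omega)⟩

theorem markEmb_val {N t : ℕ} (hN : N = t + 7) (j : Fin t) : (markEmb hN j).val = 7 + j.val := rfl

section main

variable {N t : ℕ} {Std : Set (Finset (Fin N))} (D : NormData N t Std)
variable {α : Type*} [Fintype α] [DecidableEq α] (hα : Fintype.card α = N)
variable {B : Set (Finset α)} (hB : Cfsg.IsSteinerSystem t (t + 1) B)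

include D hα hB

theorem exists_norm (x : Fin t ↪ α) :
    ∃ e : α ≃ Fin N, imgSys e B = Std ∧ ∀ j, e (x j) = markEmb D.hN j := by
  obtain ⟨σ, hσ⟩ := Equiv.Perm.exists_smul_eq_embedding
    (x.trans (Fintype.equivFinOfCardEq hα).toEmbedding) (markEmb D.hN)
  have hB2 : Cfsg.IsSteinerSystem t (t + 1) (imgSys ((Fintype.equivFinOfCardEq hα).trans σ) B) :=
    steiner_image _ hB
  obtain ⟨τ, hτ, hτB⟩ := D.norm _ hB2
  refine ⟨((Fintype.equivFinOfCardEq hα).trans σ).trans τ, ?_, ?_⟩
  · rw [imgSys_trans]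
    exact hτB
  · intro j
    have h1 : σ ((Fintype.equivFinOfCardEq hα) (x j)) = markEmb D.hN j := DFunLike.congr_fun hσ j
    show τ (σ ((Fintype.equivFinOfCardEq hα) (x j))) = _
    rw [h1]
    exact hτ _ (by rw [markEmb_val]; omega)

theorem exists_norm' : ∃ e : α ≃ Fin N, imgSys e B = Std := by
  have hle : Fintype.card (Fin t) ≤ Fintype.card α := by
    rw [Fintype.card_fin, hα, D.hN]
    omega
  obtain ⟨x⟩ := Function.Embedding.nonempty_of_card_le hle
  obtain ⟨e, he, -⟩ := exists_norm D hα hB x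
  exact ⟨e, he⟩

theorem aut_pretransitive : IsMultiplyPretransitive (Cfsg.setSystemAut B) α t := by
  rw [isMultiplyPretransitive_iff]
  intro x y
  obtain ⟨ex, hex, hx⟩ := exists_norm D hα hB x
  obtain ⟨ey, hey, hy⟩ := exists_norm D hα hB y
  have hg : (ex.trans ey.symm : Equiv.Perm α) ∈ Cfsg.setSystemAut B := by
    rw [mem_stabilizer_iff, smul_eq_imgSys, imgSys_trans, hex, ← hey, imgSys_symm]
  refine ⟨⟨ex.trans ey.symm, hg⟩, ?_⟩
  ext j
  show ey.symm (ex (x j)) = y j
  rw [hx, ← hy, Equiv.symm_apply_apply]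

theorem aut_stabilizer_eq_bot (x : Fin t ↪ α) :
    stabilizer (Cfsg.setSystemAut B) x = ⊥ := by
  rw [eq_bot_iff]
  intro g hg
  rw [mem_stabilizer_iff] at hg
  rw [Subgroup.mem_bot]
  obtain ⟨e, he, hx⟩ := exists_norm D hα hB x
  have hgB : imgSys (g.1 : Equiv.Perm α) B = B := mem_stabilizer_iff.mp g.2
  have h1 : ((e.symm.trans g.1).trans e : Equiv.Perm (Fin N)) • Std = Std := by
    rw [smul_eq_imgSys, imgSys_trans, imgSys_trans, ← he, imgSys_symm, hgB]
  have h2 : ∀ y : Fin N, 7 ≤ y.val → ((e.symm.trans g.1).trans e : Equiv.Perm (Fin N)) y = y := by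
    intro y hy
    have hj : y.val - 7 < t := by
      have := y.isLt
      have := D.hN
      omega
    have hy' : y = markEmb D.hN ⟨y.val - 7, hj⟩ := by
      apply Fin.ext
      rw [markEmb_val]
      simp only
      omega
    rw [hy', ← hx]
    show e (g.1 (e.symm (e (x _)))) = e (x _)
    rw [Equiv.symm_apply_apply]
    have h3 : g.1 (x ⟨y.val - 7, hj⟩) = x ⟨y.val - 7, hj⟩ := DFunLike.congr_fun hg ⟨y.val - 7, hj⟩
    rw [h3]
  have h3 := D.rigid _ h1 h2
  apply Subtype.ext
  apply Equiv.ext
  intro a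
  have h4 : e (g.1 (e.symm (e a))) = e a := by
    have := DFunLike.congr_fun h3 (e a)
    exact this
  rw [Equiv.symm_apply_apply] at h4
  exact e.injective h4

theorem aut_card : Nat.card (Cfsg.setSystemAut B) = N.descFactorial t := by
  have hpre : IsPretransitive (Cfsg.setSystemAut B) (Fin t ↪ α) := aut_pretransitive D hα hB
  have hle : Fintype.card (Fin t) ≤ Fintype.card α := by
    rw [Fintype.card_fin, hα, D.hN]
    omega
  obtain ⟨x⟩ := Function.Embedding.nonempty_of_card_le hle
  have h1 := @index_stabilizer_of_transitive (Cfsg.setSystemAut B) _ _ _ x hpre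
  rw [aut_stabilizer_eq_bot D hα hB x, Subgroup.index_bot] at h1
  rw [h1, Nat.card_eq_fintype_card, Fintype.card_embedding_eq, hα, Fintype.card_fin]

end main

/-- uniqueness -/
theorem setSystemIso_of_normData {N t : ℕ} {Std : Set (Finset (Fin N))} (D : NormData N t Std)
    {α β : Type*} [Fintype α] [DecidableEq α] [Fintype β] [DecidableEq β]
    (hα : Fintype.card α = N) (hβ : Fintype.card β = N) {B : Set (Finset α)}
    {B' : Set (Finset β)} (hB : Cfsg.IsSteinerSystem t (t + 1) B)
    (hB' : Cfsg.IsSteinerSystem t (t + 1) B') : Cfsg.SetSystemIso B B' := by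
  obtain ⟨e, he⟩ := exists_norm' D hα hB
  obtain ⟨e', he'⟩ := exists_norm' D hβ hB'
  refine ⟨e.trans e'.symm, ?_⟩
  show imgSys (e.trans e'.symm) B = B'
  rw [imgSys_trans, he, ← he', imgSys_symm]

/-- a group of order 7920 acting faithfully on 11 points is simple -/
theorem isSimpleGroup_of_card_7920 {G : Type*} [Group G] [Finite G] {X : Type*} [MulAction G X]
    [FaithfulSMul G X] (hX : Nat.card X = 11) (hcard : Nat.card G = 7920) : IsSimpleGroup G := by
  have : Fact (Nat.Prime 11) := ⟨by norm_num⟩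
  obtain ⟨P⟩ : Nonempty (Sylow 11 G) := inferInstance
  have hP : Nat.card (P : Subgroup G) = 11 := by
    have := Cfsg.Agent.Lib.Helper17.card_sylow_of_card_eq (k := 1) (m := 720) P
      (by rw [hcard]; norm_num) (by norm_num)
    simpa using this
  obtain ⟨e, he, hN, hmul, hmod⟩ :=
    Cfsg.Agent.Lib.Helper95.card_normalizer_of_prime_degree (X := X) hX P hP
  have he5 : e = 5 := by
    have hmem : e ∈ Nat.divisors 10 := Nat.mem_divisors.mpr ⟨he, by norm_num⟩
    have hdiv : Nat.divisors 10 = {1, 2, 5, 10} := by decide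
    rw [hdiv] at hmem
    simp only [Finset.mem_insert, Finset.mem_singleton] at hmem
    rw [hcard] at hmul
    rcases hmem with rfl | rfl | rfl | rfl <;> omega
  rw [he5] at hN
  exact Cfsg.Agent.Lib.Helper95.isSimpleGroup_of_prime_degree (X := X) (r := 5) (by norm_num) hX P
    hP hN (by rw [hcard]; norm_num)

end Cfsg.Agent.Lib.Helper95.Steiner
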