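import Mathlib
import Cfsg.Agent.Lib.Helper65.QeDefs

/-!
# S5988 hive (Qe), leaf QE-UNIFACTS (helper95): explicit facts on the Siegel element `[[1,S],[0,1]]`
-/

set_option autoImplicit false
set_option linter.unusedVariables false
set_option linter.unusedSectionVars false

namespace Cfsg.Agent.Lib.Helper65.Qe

open Polynomial Module
open Cfsg.Agent.Lib.Helper2.BG Cfsg.Agent.Lib.Helper99 Cfsg.Agent.Lib.Helper48.Ti
open Cfsg.Agent.Lib.Helper5.Hy

section concrete

variable {F : Type*} [Field F] [Fintype F]

theorem unifacts_S_self (d : ℕ) (a : Fin d) : siegelS d F a a = 0 := by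
  unfold siegelS
  rw [if_neg (by omega), if_neg (by omega)]

theorem unifacts_S_anti (d : ℕ) (a b : Fin d) : siegelS d F a b = - siegelS d F b a := by
  unfold siegelS
  by_cases h1 : (a : ℕ) + 1 = (b : ℕ) ∧ (a : ℕ) % 2 = 0
  · rw [if_pos h1, if_neg (by omega), if_pos h1, neg_neg]
  · by_cases h2 : (b : ℕ) + 1 = (a : ℕ) ∧ (b : ℕ) % 2 = 0
    · rw [if_neg h1, if_pos h2, if_pos h2]
    · rw [if_neg h1, if_neg h2, if_neg h2, if_neg h1, neg_zero]

/-- an alternating matrix gives the zero quadratic form (any characteristic) -/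
theorem unifacts_alt_sum (d : ℕ) (w : Fin d → F) :
    ∑ a : Fin d, (∑ b : Fin d, siegelS d F a b * w b) * w a = 0 := by
  have h1 : ∑ a : Fin d, (∑ b : Fin d, siegelS d F a b * w b) * w a
      = ∑ x ∈ (Finset.univ : Finset (Fin d × Fin d)), siegelS d F x.1 x.2 * w x.2 * w x.1 := by
    rw [← Finset.univ_product_univ, Finset.sum_product]
    apply Finset.sum_congr rfl
    intro a _
    rw [Finset.sum_mul]
  rw [h1]
  apply Finset.sum_involution (fun x _ => (x.2, x.1))
  · intro x _
    rw [unifacts_S_anti d x.1 x.2]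
    ring
  · intro x _ hx hxx
    apply hx
    have : x.2 = x.1 := congrArg Prod.fst hxx
    rw [this, unifacts_S_self, zero_mul, zero_mul]
  · intro x _
    exact Finset.mem_univ _
  · intro x _
    rfl

theorem unifacts_apply_inl (d : ℕ) (v : VP d F) (a : Fin d) :
    (Matrix.toLin' (siegelMat d F) v) (Sum.inl a)
      = v (Sum.inl a) + ∑ b : Fin d, siegelS d F a b * v (Sum.inr b) := by
  rw [Matrix.toLin'_apply, siegelMat, Matrix.fromBlocks_mulVec, Sum.elim_inl, Pi.add_apply,
    Matrix.one_mulVec]
  rfl

theorem unifacts_apply_inr (d : ℕ) (v : VP d F) (a : Fin d) :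
    (Matrix.toLin' (siegelMat d F) v) (Sum.inr a) = v (Sum.inr a) := by
  rw [Matrix.toLin'_apply, siegelMat, Matrix.fromBlocks_mulVec, Sum.elim_inr, Pi.add_apply,
    Matrix.one_mulVec, Matrix.zero_mulVec]
  simp

theorem unifacts_QP_apply (d : ℕ) (v : VP d F) :
    QP d F v = ∑ i : Fin d, v (Sum.inl i) * v (Sum.inr i) := by
  show (Cfsg.Agent.Lib.Helper8.plusBil d F).toQuadraticMap v = _
  rw [LinearMap.BilinMap.toQuadraticMap_apply]
  rfl

theorem unifacts_mem_fix_iff (d : ℕ) (v : VP d F) :
    v ∈ Fix (Matrix.toLin' (siegelMat d F)) ↔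
      ∀ a : Fin d, ∑ b : Fin d, siegelS d F a b * v (Sum.inr b) = 0 := by
  rw [LinearMap.mem_ker, LinearMap.sub_apply, Module.End.one_apply, sub_eq_zero]
  constructor
  · intro h a
    have := congrFun h (Sum.inl a)
    rw [unifacts_apply_inl] at this
    exact left_eq_add.mp this.symm |>.symm ▸ rfl
  · intro h
    funext j
    rcases j with a | a
    · rw [unifacts_apply_inl, h a, add_zero]
    · rw [unifacts_apply_inr]

theorem unifacts_pow (d : ℕ) (n : ℕ) :
    siegelMat d F ^ n = Matrix.fromBlocks 1 (n • siegelS d F) 0 1 := by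
  induction n with
  | zero => rw [pow_zero, zero_smul, Matrix.fromBlocks_one]
  | succ n ih =>
    rw [pow_succ, ih, siegelMat, Matrix.fromBlocks_multiply]
    simp only [Matrix.one_mul, Matrix.mul_one, Matrix.mul_zero, Matrix.zero_mul, add_zero, zero_add]
    rw [succ_nsmul, add_comm]

/-- **QE-UNIFACTS** -/
theorem siegel_facts {p : ℕ} [Fact p.Prime] [CharP F p] (d : ℕ) (hd : 2 ≤ d) :
    IsomQ (QP d F) (Matrix.toLin' (siegelMat d F)) ∧
    (∀ u ∈ Esub d F, QP d F u = 0) ∧
    (∀ v, Matrix.toLin' (siegelMat d F) v - v ∈ Esub d F) ∧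
    Esub d F ≤ Fix (Matrix.toLin' (siegelMat d F)) ∧
    finrank F ↥(Fix (Matrix.toLin' (siegelMat d F))) ≤ finrank F ↥(Esub d F) + 1 ∧
    siegelMat d F ^ p = 1 ∧ (∀ z : F, siegelMat d F ≠ z • (1 : MP d F)) := by
  refine ⟨?_, ?_, ?_, ?_, ?_, ?_, ?_⟩
  · intro v
    rw [unifacts_QP_apply, unifacts_QP_apply]
    simp only [unifacts_apply_inl, unifacts_apply_inr, add_mul, Finset.sum_add_distrib]
    rw [unifacts_alt_sum d (fun b => v (Sum.inr b)), add_zero]
  · intro u hu
    rw [unifacts_QP_apply]
    apply Finset.sum_eq_zero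
    intro i _
    have : u (Sum.inr i) = 0 := hu i
    rw [this, mul_zero]
  · intro v j
    show (Matrix.toLin' (siegelMat d F) v - v) (Sum.inr j) = 0
    rw [Pi.sub_apply, unifacts_apply_inr, sub_self]
  · intro v hv
    rw [unifacts_mem_fix_iff]
    intro a
    apply Finset.sum_eq_zero
    intro b _
    have : v (Sum.inr b) = 0 := hv b
    rw [this, mul_zero]
  · -- the functional `v ↦ v (inr (d-1))` on the fixed space
    set K := Fix (Matrix.toLin' (siegelMat d F)) with hK
    have hd1 : d - 1 < d := by omega
    let φ : ↥K →ₗ[F] F :=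
      (LinearMap.proj (Sum.inr (⟨d - 1, hd1⟩ : Fin d)) : (VP d F) →ₗ[F] F).comp K.subtype
    have hφ : ∀ v : ↥K, φ v = (v : VP d F) (Sum.inr ⟨d - 1, hd1⟩) := fun v => rfl
    have h1 := LinearMap.finrank_range_add_finrank_ker φ
    have h2 : finrank F ↥(LinearMap.range φ) ≤ 1 := by
      have := Submodule.finrank_le (LinearMap.range φ)
      rwa [finrank_self] at this
    have hmem : ∀ v : ↥(LinearMap.ker φ), ((v : ↥K) : VP d F) ∈ Esub d F := by
      intro v j
      have hv := (unifacts_mem_fix_iff d ((v : ↥K) : VP d F)).1 (v : ↥K).2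
      have hφv : ((v : ↥K) : VP d F) (Sum.inr ⟨d - 1, hd1⟩) = 0 := by
        have := v.2
        rw [LinearMap.mem_ker, hφ] at this
        exact this
      -- three cases for the index `j`
      by_cases hj : (j : ℕ) % 2 = 1
      · -- `j` odd: row `j - 1`
        have hj1 : (j : ℕ) - 1 < d := by have := j.2; omega
        have hrow := hv ⟨(j : ℕ) - 1, hj1⟩
        rw [Finset.sum_eq_single j] at hrow
        · have hS : siegelS d F ⟨(j : ℕ) - 1, hj1⟩ j = 1 := by
            unfold siegelS
            rw [if_pos]
            constructor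
            · show (j : ℕ) - 1 + 1 = (j : ℕ)
              omega
            · show ((j : ℕ) - 1) % 2 = 0
              omega
          rw [hS, one_mul] at hrow
          exact hrow
        · intro b _ hb
          have hS : siegelS d F ⟨(j : ℕ) - 1, hj1⟩ b = 0 := by
            unfold siegelS
            rw [if_neg, if_neg]
            · rintro ⟨h3, h4⟩
              have h3' : (b : ℕ) + 1 = (j : ℕ) - 1 := h3
              omega
            · rintro ⟨h3, h4⟩
              apply hb
              apply Fin.ext
              have h3' : (j : ℕ) - 1 + 1 = (b : ℕ) := h3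
              omega
          rw [hS, zero_mul]
        · intro h; exact absurd (Finset.mem_univ _) h
      · by_cases hjd : (j : ℕ) + 1 < d
        · -- `j` even, `j + 1 < d`: row `j + 1`
          have hrow := hv ⟨(j : ℕ) + 1, hjd⟩
          rw [Finset.sum_eq_single j] at hrow
          · have hS : siegelS d F ⟨(j : ℕ) + 1, hjd⟩ j = -1 := by
              unfold siegelS
              rw [if_neg, if_pos]
              · constructor
                · rfl
                · omega
              · rintro ⟨h3, h4⟩
                have h3' : (j : ℕ) + 1 + 1 = (j : ℕ) := h3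
                omega
            rw [hS, neg_one_mul, neg_eq_zero] at hrow
            exact hrow
          · intro b _ hb
            have hS : siegelS d F ⟨(j : ℕ) + 1, hjd⟩ b = 0 := by
              unfold siegelS
              rw [if_neg, if_neg]
              · rintro ⟨h3, h4⟩
                apply hb
                apply Fin.ext
                have h3' : (b : ℕ) + 1 = (j : ℕ) + 1 := h3
                omega
              · rintro ⟨h3, h4⟩
                have h4' : ((j : ℕ) + 1) % 2 = 0 := h4
                omega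
            rw [hS, zero_mul]
          · intro h; exact absurd (Finset.mem_univ _) h
        · -- `j = d - 1`
          have hjeq : j = ⟨d - 1, hd1⟩ := by
            apply Fin.ext
            show (j : ℕ) = d - 1
            have := j.2
            omega
          rw [hjeq]
          exact hφv
    let ψ : ↥(LinearMap.ker φ) →ₗ[F] ↥(Esub d F) :=
      LinearMap.codRestrict (Esub d F) (K.subtype.comp (LinearMap.ker φ).subtype) hmem
    have hψ : Function.Injective ψ := by
      intro v w hvw
      have h3 : ((v : ↥K) : VP d F) = ((w : ↥K) : VP d F) := congrArg (fun z : ↥(Esub d F) => (z : VP d F)) hvw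
      exact Subtype.ext (Subtype.ext h3)
    have h3 : finrank F ↥(LinearMap.ker φ) ≤ finrank F ↥(Esub d F) :=
      LinearMap.finrank_le_finrank_of_injective hψ
    omega
  · rw [unifacts_pow]
    have : (p • siegelS d F : Matrix (Fin d) (Fin d) F) = 0 := by
      rw [← Nat.cast_smul_eq_nsmul F, CharP.cast_eq_zero F p, zero_smul]
    rw [this, Matrix.fromBlocks_one]
  · intro z hz
    have h0 : 0 < d := by omega
    have h1 : 1 < d := by omega
    have h3 := congrFun (congrFun hz (Sum.inl ⟨0, h0⟩)) (Sum.inr ⟨1, h1⟩)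
    rw [siegelMat, Matrix.fromBlocks_apply₁₂, Matrix.smul_apply, Matrix.one_apply_ne (by simp),
      smul_zero] at h3
    have hS : siegelS d F ⟨0, h0⟩ ⟨1, h1⟩ = 1 := by
      unfold siegelS
      rw [if_pos]
      exact ⟨rfl, rfl⟩
    rw [hS] at h3
    exact one_ne_zero h3

end concrete

end Cfsg.Agent.Lib.Helper65.Qe
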