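import Mathlib
import Cfsg.Prelude.Def_Classical
import Cfsg.Prelude.Def_LieClassical
import Cfsg.Agent.Lib.Helper65.UndDefs
import Cfsg.Agent.Lib.Helper2.BGCompl

/-!
# S5954 hive ("Und"), leaf UND-A3 : `partCond_two_iff`
-/

set_option autoImplicit false

namespace Cfsg.Agent.Lib.Helper65.Und

open Cfsg.Agent.Lib.Helper40.Herm Cfsg.Agent.Lib.Helper2.BG Cfsg.Agent.Lib.Helper14.Tu Polynomial Module

/-- a sub-multiset of `replicate k 2` has even sum -/
theorem a3_even_sum_of_le_replicate (k : ℕ) (ν : Multiset ℕ) (h : ν ≤ Multiset.replicate k 2) :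
    Even ν.sum := by
  have hall : ∀ a ∈ ν, a = 2 := fun a ha =>
    Multiset.eq_of_mem_replicate (Multiset.mem_of_le h ha)
  have hν : ν = Multiset.replicate (Multiset.card ν) 2 := Multiset.eq_replicate_card.2 hall
  rw [hν, Multiset.sum_replicate, smul_eq_mul]
  exact even_two.mul_left _

/-- UND-A3.  Pure combinatorics. -/
theorem partCond_two_iff (n m : ℕ) (hm : 1 ≤ m) (hmn : 2 * m < n) :
    PartCond 2 n m ↔ (Odd n ∨ Even m) := by
  constructor
  · intro h
    by_contra hcon
    rw [not_or, Nat.not_odd_iff_even, Nat.not_even_iff_odd] at hcon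
    obtain ⟨hn, hmo⟩ := hcon
    obtain ⟨k, hk⟩ := hn
    have hsum : (Multiset.replicate k 2).sum = n := by
      rw [Multiset.sum_replicate, smul_eq_mul, hk]; ring
    obtain ⟨ν, hν, hνs⟩ := h (Multiset.replicate k 2)
      (fun a ha => by
        rw [Multiset.eq_of_mem_replicate ha]; exact ⟨by norm_num, le_refl 2⟩) hsum
    have heven := a3_even_sum_of_le_replicate k ν hν
    rw [hνs] at heven
    exact (Nat.not_even_iff_odd.2 hmo) heven
  · intro h μ hμ hs
    exact exists_sub_of_parts_le_two n m (by omega) h μ hμ hs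

end Cfsg.Agent.Lib.Helper65.Und
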