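import Mathlib

set_option autoImplicit false

/-! Strongly regular graphs with parameters (100, 22, 0, 6): three pairwise non-adjacent vertices
have exactly two common neighbours. -/

namespace Cfsg.Agent.Lib.Helper95.Srg

open Finset

variable {V : Type*} [Fintype V] [DecidableEq V] (G : SimpleGraph V) [DecidableRel G.Adj]

/-- the facts on a strongly regular graph with parameters (100, 22, 0, 6) that we use -/
structure Facts : Prop where
  card : Fintype.card V = 100
  deg : ∀ v, (G.neighborFinset v).card = 22
  adj : ∀ v w, G.Adj v w → G.neighborFinset v ∩ G.neighborFinset w = ∅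
  nadj : ∀ v w, v ≠ w → ¬ G.Adj v w → (G.neighborFinset v ∩ G.neighborFinset w).card = 6

omit [DecidableEq V] in
theorem card_commonNeighbors [DecidableEq V] (v w : V) [Fintype (G.commonNeighbors v w)] :
    Fintype.card (G.commonNeighbors v w) =
      (G.neighborFinset v ∩ G.neighborFinset w).card := by
  apply Fintype.card_of_subtype
  intro x
  simp [SimpleGraph.mem_commonNeighbors]

variable {G}

/-- the cardinality facts from the definition -/
theorem facts_of_srg (h : G.IsSRGWith 100 22 0 6) : Facts G where
  card := h.card
  deg v := by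
    rw [SimpleGraph.card_neighborFinset_eq_degree]
    exact h.regular.degree_eq v
  adj v w hvw := by
    have := h.of_adj v w hvw
    rw [card_commonNeighbors] at this
    exact Finset.card_eq_zero.mp this
  nadj v w hne hvw := by
    have := h.of_not_adj hne hvw
    rw [card_commonNeighbors] at this
    exact this

section key

variable (F : Facts G) {a b : V} (hab : a ≠ b) (nab : ¬ G.Adj a b)

/-- the vertices different from and not adjacent to `a`, `b` -/
def Tset (G : SimpleGraph V) [DecidableRel G.Adj] (a b : V) : Finset V :=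
  univ.filter (fun c => c ≠ a ∧ c ≠ b ∧ ¬ G.Adj a c ∧ ¬ G.Adj b c)

/-- the common neighbours of `a`, `b` -/
def Cset (G : SimpleGraph V) [DecidableRel G.Adj] (a b : V) : Finset V :=
  G.neighborFinset a ∩ G.neighborFinset b

include F hab nab

theorem card_Tset : (Tset G a b).card = 60 := by
  have h1 : (G.neighborFinset a ∪ G.neighborFinset b).card = 38 := by
    have := Finset.card_union_add_card_inter (G.neighborFinset a) (G.neighborFinset b)
    rw [F.nadj a b hab nab, F.deg, F.deg] at this
    omega
  have h2 : Disjoint ({a, b} : Finset V) (G.neighborFinset a ∪ G.neighborFinset b) := by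
    rw [Finset.disjoint_left]
    intro x hx hx'
    simp only [mem_insert, mem_singleton] at hx
    simp only [mem_union, SimpleGraph.mem_neighborFinset] at hx'
    rcases hx with rfl | rfl
    · rcases hx' with h | h
      · exact G.irrefl h
      · exact nab h.symm
    · rcases hx' with h | h
      · exact nab h
      · exact G.irrefl h
  have h3 : (({a, b} : Finset V) ∪ (G.neighborFinset a ∪ G.neighborFinset b)).card = 40 := by
    rw [Finset.card_union_of_disjoint h2, h1, Finset.card_pair hab]
  have h4 : Tset G a b = (({a, b} : Finset V) ∪ (G.neighborFinset a ∪ G.neighborFinset b))ᶜ := by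
    ext c
    simp only [Tset, mem_filter, mem_univ, true_and, mem_compl, mem_union, mem_insert,
      mem_singleton, SimpleGraph.mem_neighborFinset]
    tauto
  rw [h4, Finset.card_compl, h3, F.card]

theorem mem_Tset_of_adj {z w : V} (hz : z ∈ Cset G a b) (hw : G.Adj z w) (hwa : w ≠ a)
    (hwb : w ≠ b) : w ∈ Tset G a b := by
  simp only [Cset, mem_inter, SimpleGraph.mem_neighborFinset] at hz
  simp only [Tset, mem_filter, mem_univ, true_and]
  refine ⟨hwa, hwb, ?_, ?_⟩
  · intro h
    have := F.adj a z hz.1
    have hw' : w ∈ G.neighborFinset a ∩ G.neighborFinset z := by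
      simp only [mem_inter, SimpleGraph.mem_neighborFinset]
      exact ⟨h, hw⟩
    rw [this] at hw'
    exact absurd hw' (Finset.notMem_empty _)
  · intro h
    have := F.adj b z hz.2
    have hw' : w ∈ G.neighborFinset b ∩ G.neighborFinset z := by
      simp only [mem_inter, SimpleGraph.mem_neighborFinset]
      exact ⟨h, hw⟩
    rw [this] at hw'
    exact absurd hw' (Finset.notMem_empty _)

theorem card_nb_inter_T {z : V} (hz : z ∈ Cset G a b) :
    ((Tset G a b).filter (fun c => G.Adj c z)).card = 20 := by
  have hz' := hz
  simp only [Cset, mem_inter, SimpleGraph.mem_neighborFinset] at hz'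
  have h1 : (Tset G a b).filter (fun c => G.Adj c z) = G.neighborFinset z \ {a, b} := by
    ext w
    simp only [mem_filter, mem_sdiff, SimpleGraph.mem_neighborFinset, mem_insert, mem_singleton]
    constructor
    · rintro ⟨hT, hadj⟩
      simp only [Tset, mem_filter, mem_univ, true_and] at hT
      exact ⟨hadj.symm, by tauto⟩
    · rintro ⟨hadj, hne⟩
      exact ⟨mem_Tset_of_adj F hab nab hz hadj (by tauto) (by tauto), hadj.symm⟩
  have h2 : ({a, b} : Finset V) ⊆ G.neighborFinset z := by
    intro x hx
    simp only [mem_insert, mem_singleton] at hx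
    rw [SimpleGraph.mem_neighborFinset]
    rcases hx with rfl | rfl
    · exact hz'.1.symm
    · exact hz'.2.symm
  rw [h1, Finset.card_sdiff_of_subset h2, F.deg, Finset.card_pair hab]

theorem card_nb_inter_T2 {z z' : V} (hz : z ∈ Cset G a b) (hz' : z' ∈ Cset G a b)
    (hne : z ≠ z') :
    ((Tset G a b).filter (fun c => G.Adj c z ∧ G.Adj c z')).card = 4 := by
  have hz1 := hz
  have hz1' := hz'
  simp only [Cset, mem_inter, SimpleGraph.mem_neighborFinset] at hz1 hz1'
  have hnadj : ¬ G.Adj z z' := by
    intro h
    have := F.adj z z' h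
    have ha : a ∈ G.neighborFinset z ∩ G.neighborFinset z' := by
      simp only [mem_inter, SimpleGraph.mem_neighborFinset]
      exact ⟨hz1.1.symm, hz1'.1.symm⟩
    rw [this] at ha
    exact absurd ha (Finset.notMem_empty _)
  have h6 := F.nadj z z' hne hnadj
  have h1 : (Tset G a b).filter (fun c => G.Adj c z ∧ G.Adj c z') =
      (G.neighborFinset z ∩ G.neighborFinset z') \ {a, b} := by
    ext w
    simp only [mem_filter, mem_sdiff, mem_inter, SimpleGraph.mem_neighborFinset, mem_insert,
      mem_singleton]
    constructor
    · rintro ⟨hT, hadj, hadj'⟩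
      simp only [Tset, mem_filter, mem_univ, true_and] at hT
      exact ⟨⟨hadj.symm, hadj'.symm⟩, by tauto⟩
    · rintro ⟨⟨hadj, hadj'⟩, hne⟩
      exact ⟨mem_Tset_of_adj F hab nab hz hadj (by tauto) (by tauto), hadj.symm, hadj'.symm⟩
  have h2 : ({a, b} : Finset V) ⊆ G.neighborFinset z ∩ G.neighborFinset z' := by
    intro x hx
    simp only [mem_insert, mem_singleton] at hx
    rw [mem_inter, SimpleGraph.mem_neighborFinset, SimpleGraph.mem_neighborFinset]
    rcases hx with rfl | rfl
    · exact ⟨hz1.1.symm, hz1'.1.symm⟩
    · exact ⟨hz1.2.symm, hz1'.2.symm⟩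
  rw [h1, Finset.card_sdiff_of_subset h2, h6, Finset.card_pair hab]

/-- the key counting lemma -/
theorem common3 {c : V} (hc : c ∈ Tset G a b) :
    ((Cset G a b).filter (fun z => G.Adj c z)).card = 2 := by
  have hC : (Cset G a b).card = 6 := F.nadj a b hab nab
  -- first moment
  have hS1 : ∑ c ∈ Tset G a b, ((Cset G a b).filter (fun z => G.Adj c z)).card = 120 := by
    have := Finset.sum_card_bipartiteAbove_eq_sum_card_bipartiteBelow (s := Tset G a b)
      (t := Cset G a b) (fun c z => G.Adj c z)
    unfold Finset.bipartiteAbove Finset.bipartiteBelow at this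
    rw [this, Finset.sum_congr rfl (fun z hz => card_nb_inter_T F hab nab hz)]
    simp [hC]
  -- second moment
  have hS2 : ∑ c ∈ Tset G a b,
      (((Cset G a b).filter (fun z => G.Adj c z)).offDiag).card = 120 := by
    have := Finset.sum_card_bipartiteAbove_eq_sum_card_bipartiteBelow (s := Tset G a b)
      (t := (Cset G a b).offDiag) (fun c p => G.Adj c p.1 ∧ G.Adj c p.2)
    unfold Finset.bipartiteAbove Finset.bipartiteBelow at this
    have e1 : ∀ c, ((Cset G a b).filter (fun z => G.Adj c z)).offDiag =
        (Cset G a b).offDiag.filter (fun p => G.Adj c p.1 ∧ G.Adj c p.2) := by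
      intro c
      ext p
      simp only [mem_offDiag, mem_filter]
      tauto
    rw [Finset.sum_congr rfl (fun c _ => congrArg Finset.card (e1 c)), this]
    have e3 : ∀ p ∈ (Cset G a b).offDiag,
        ((Tset G a b).filter (fun c => G.Adj c p.1 ∧ G.Adj c p.2)).card = 4 := by
      intro p hp
      rw [mem_offDiag] at hp
      exact card_nb_inter_T2 F hab nab hp.1 hp.2.1 hp.2.2
    rw [Finset.sum_congr rfl e3]
    simp [Finset.offDiag_card, hC]
  have hT := card_Tset F hab nab
  -- squares
  have hsq : ∀ c, (((Cset G a b).filter (fun z => G.Adj c z)).offDiag).card +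
      ((Cset G a b).filter (fun z => G.Adj c z)).card =
      ((Cset G a b).filter (fun z => G.Adj c z)).card *
        ((Cset G a b).filter (fun z => G.Adj c z)).card := by
    intro c
    rw [Finset.offDiag_card]
    exact Nat.sub_add_cancel (Nat.le_mul_self _)
  have hS3 : ∑ c ∈ Tset G a b, ((((Cset G a b).filter (fun z => G.Adj c z)).card : ℤ) - 2) ^ 2
      = 0 := by
    have e2 : ∀ c ∈ Tset G a b, ((((Cset G a b).filter (fun z => G.Adj c z)).card : ℤ) - 2) ^ 2 =
        ((((Cset G a b).filter (fun z => G.Adj c z)).offDiag).card : ℤ) -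
          3 * (((Cset G a b).filter (fun z => G.Adj c z)).card : ℤ) + 4 := by
      intro c _
      have := hsq c
      have h' : ((((Cset G a b).filter (fun z => G.Adj c z)).offDiag).card : ℤ) +
          (((Cset G a b).filter (fun z => G.Adj c z)).card : ℤ) =
          (((Cset G a b).filter (fun z => G.Adj c z)).card : ℤ) *
            (((Cset G a b).filter (fun z => G.Adj c z)).card : ℤ) := by
        exact_mod_cast this
      nlinarith [h']
    rw [Finset.sum_congr rfl e2, Finset.sum_add_distrib, Finset.sum_sub_distrib,
      ← Finset.mul_sum, ← Nat.cast_sum, ← Nat.cast_sum, hS1, hS2]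
    simp [hT]
  have h0 := (Finset.sum_eq_zero_iff_of_nonneg (fun c _ => sq_nonneg _)).mp hS3 c hc
  have h1 : ((((Cset G a b).filter (fun z => G.Adj c z)).card : ℤ) - 2) = 0 := by
    exact pow_eq_zero_iff (by norm_num) |>.mp h0
  omega

end key

end Cfsg.Agent.Lib.Helper95.Srg
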