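import Mathlib
import Cfsg.Prelude.Def_Sporadic_a
import Cfsg.Agent.Lib.Helper95.SrgA
import Cfsg.Agent.Lib.Helper61.S3622

set_option autoImplicit false

/-! A strongly regular graph with parameters (100, 22, 0, 6) is the point-block graph of a Steiner
system S(3, 6, 22). -/

namespace Cfsg.Agent.Lib.Helper95.Srg

open Finset

variable {V : Type*} [Fintype V] [DecidableEq V] {G : SimpleGraph V} [DecidableRel G.Adj]

/-- the points: the neighbours of the base vertex -/
abbrev Pt (G : SimpleGraph V) [DecidableRel G.Adj] (v0 : V) : Type _ :=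
  {x : V // x ∈ G.neighborFinset v0}

/-- the vertices giving blocks: those different from and not adjacent to the base vertex -/
def IsM (G : SimpleGraph V) (v0 m : V) : Prop := m ≠ v0 ∧ ¬ G.Adj v0 m

/-- the block of a vertex -/
def blk (G : SimpleGraph V) [DecidableRel G.Adj] (v0 m : V) : Finset (Pt G v0) :=
  (G.neighborFinset m).subtype (· ∈ G.neighborFinset v0)

theorem mem_blk (v0 m : V) (x : Pt G v0) : x ∈ blk G v0 m ↔ G.Adj m x.1 := by
  simp [blk, Finset.mem_subtype]

/-- the design -/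
def Bset (G : SimpleGraph V) [DecidableRel G.Adj] (v0 : V) : Set (Finset (Pt G v0)) :=
  {b | ∃ m, IsM G v0 m ∧ blk G v0 m = b}

variable (F : Facts G) (v0 : V)

include F

theorem adj_base (x : Pt G v0) : G.Adj v0 x.1 := by
  have := x.2
  rwa [SimpleGraph.mem_neighborFinset] at this

theorem not_adj_of_common {u w z : V} (hu : G.Adj z u) (hw : G.Adj z w) : ¬ G.Adj u w := by
  intro h
  have h1 := F.adj u w h
  have h2 : z ∈ G.neighborFinset u ∩ G.neighborFinset w := by
    simp only [mem_inter, SimpleGraph.mem_neighborFinset]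
    exact ⟨hu.symm, hw.symm⟩
  rw [h1] at h2
  exact absurd h2 (Finset.notMem_empty _)

theorem pt_nadj (x y : Pt G v0) : ¬ G.Adj x.1 y.1 :=
  not_adj_of_common F (adj_base F v0 x) (adj_base F v0 y)

theorem card_pt : Fintype.card (Pt G v0) = 22 := by
  rw [Fintype.card_coe]
  exact F.deg v0

theorem card_blk {m : V} (hm : IsM G v0 m) : (blk G v0 m).card = 6 := by
  rw [blk, Finset.card_subtype, Finset.filter_mem_eq_inter]
  exact F.nadj m v0 hm.1 (fun h => hm.2 h.symm)

/-- three points have exactly one common neighbour besides the base vertex -/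
theorem exists_block (x y z : Pt G v0) (hxy : x ≠ y) (hxz : x ≠ z) (hyz : y ≠ z) :
    ∃ m, IsM G v0 m ∧ G.Adj m x.1 ∧ G.Adj m y.1 ∧ G.Adj m z.1 ∧
      ∀ m', m' ≠ v0 → G.Adj m' x.1 → G.Adj m' y.1 → G.Adj m' z.1 → m' = m := by
  have hxy' : x.1 ≠ y.1 := fun h => hxy (Subtype.ext h)
  have hxz' : x.1 ≠ z.1 := fun h => hxz (Subtype.ext h)
  have hyz' : y.1 ≠ z.1 := fun h => hyz (Subtype.ext h)
  have hz : z.1 ∈ Tset G x.1 y.1 := by
    simp only [Tset, mem_filter, mem_univ, true_and]
    exact ⟨hxz'.symm, hyz'.symm, pt_nadj F v0 x z, pt_nadj F v0 y z⟩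
  have h2 := common3 F hxy' (pt_nadj F v0 x y) hz
  have hmemS : ∀ w, w ∈ (Cset G x.1 y.1).filter (fun w => G.Adj z.1 w) ↔
      G.Adj w x.1 ∧ G.Adj w y.1 ∧ G.Adj w z.1 := by
    intro w
    simp only [Cset, mem_filter, mem_inter, SimpleGraph.mem_neighborFinset]
    constructor
    · rintro ⟨⟨h1, h2⟩, h3⟩
      exact ⟨h1.symm, h2.symm, h3.symm⟩
    · rintro ⟨h1, h2, h3⟩
      exact ⟨⟨h1.symm, h2.symm⟩, h3.symm⟩
  have hv0 : v0 ∈ (Cset G x.1 y.1).filter (fun w => G.Adj z.1 w) :=
    (hmemS v0).mpr ⟨adj_base F v0 x, adj_base F v0 y, adj_base F v0 z⟩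
  obtain ⟨p, q, hpq, hS⟩ := Finset.card_eq_two.mp h2
  have key : ∃ m, m ≠ v0 ∧ (Cset G x.1 y.1).filter (fun w => G.Adj z.1 w) = {v0, m} := by
    rw [hS] at hv0
    simp only [mem_insert, mem_singleton] at hv0
    rcases hv0 with h | h
    · exact ⟨q, by rw [h]; exact hpq.symm, by rw [hS, h]⟩
    · exact ⟨p, by rw [h]; exact hpq, by rw [hS, h, Finset.pair_comm]⟩
  obtain ⟨m, hm0, hSm⟩ := key
  have hm : m ∈ (Cset G x.1 y.1).filter (fun w => G.Adj z.1 w) := by
    rw [hSm]
    simp
  obtain ⟨hmx, hmy, hmz⟩ := (hmemS m).mp hm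
  refine ⟨m, ⟨hm0, ?_⟩, hmx, hmy, hmz, ?_⟩
  · intro h
    exact not_adj_of_common F h (adj_base F v0 x) hmx
  · intro m' hm'0 h1 h2 h3
    have : m' ∈ (Cset G x.1 y.1).filter (fun w => G.Adj z.1 w) := (hmemS m').mpr ⟨h1, h2, h3⟩
    rw [hSm] at this
    simp only [mem_insert, mem_singleton] at this
    rcases this with h | h
    · exact absurd h hm'0
    · exact h

theorem steiner : Cfsg.IsSteinerSystem 3 6 (Bset G v0) := by
  constructor
  · rintro b ⟨m, hm, rfl⟩
    exact card_blk F v0 hm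
  · intro s hs
    obtain ⟨x, y, z, hxy, hxz, hyz, rfl⟩ := Finset.card_eq_three.mp hs
    obtain ⟨m, hm, hmx, hmy, hmz, huniq⟩ := exists_block F v0 x y z hxy hxz hyz
    refine ⟨blk G v0 m, ⟨⟨m, hm, rfl⟩, ?_⟩, ?_⟩
    · intro w hw
      simp only [mem_insert, mem_singleton] at hw
      rw [mem_blk]
      rcases hw with rfl | rfl | rfl
      · exact hmx
      · exact hmy
      · exact hmz
    · rintro b ⟨⟨m', hm', rfl⟩, hsub⟩
      have h1 := (mem_blk v0 m' x).mp (hsub (by simp))
      have h2 := (mem_blk v0 m' y).mp (hsub (by simp))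
      have h3 := (mem_blk v0 m' z).mp (hsub (by simp))
      rw [huniq m' hm'.1 h1 h2 h3]

theorem blk_injective {m m' : V} (hm : IsM G v0 m) (hm' : IsM G v0 m')
    (h : blk G v0 m = blk G v0 m') : m = m' := by
  have hc := card_blk F v0 hm
  obtain ⟨s, hs, hsc⟩ := Finset.exists_subset_card_eq (show 3 ≤ (blk G v0 m).card by omega)
  obtain ⟨x, y, z, hxy, hxz, hyz, rfl⟩ := Finset.card_eq_three.mp hsc
  obtain ⟨m0, -, -, -, -, huniq⟩ := exists_block F v0 x y z hxy hxz hyz
  have hx := hs (show x ∈ ({x, y, z} : Finset (Pt G v0)) by simp)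
  have hy := hs (show y ∈ ({x, y, z} : Finset (Pt G v0)) by simp)
  have hz := hs (show z ∈ ({x, y, z} : Finset (Pt G v0)) by simp)
  have e1 := huniq m hm.1 ((mem_blk v0 m x).mp hx) ((mem_blk v0 m y).mp hy)
    ((mem_blk v0 m z).mp hz)
  rw [h] at hx hy hz
  have e2 := huniq m' hm'.1 ((mem_blk v0 m' x).mp hx) ((mem_blk v0 m' y).mp hy)
    ((mem_blk v0 m' z).mp hz)
  rw [e1, e2]

theorem isM_of_adj {m w : V} (hm : IsM G v0 m) (hw : G.Adj m w)
    (hwN : w ∉ G.neighborFinset v0) : IsM G v0 w := by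
  constructor
  · rintro rfl
    exact hm.2 hw.symm
  · intro h
    exact hwN ((G.mem_neighborFinset _ _).mpr h)

theorem disjoint_of_adj {m m' : V} (h : G.Adj m m') : Disjoint (blk G v0 m') (blk G v0 m) := by
  rw [Finset.disjoint_left]
  intro x hx hx'
  rw [mem_blk] at hx hx'
  have h1 := F.adj m m' h
  have h2 : x.1 ∈ G.neighborFinset m ∩ G.neighborFinset m' := by
    simp only [mem_inter, SimpleGraph.mem_neighborFinset]
    exact ⟨hx', hx⟩
  rw [h1] at h2
  exact absurd h2 (Finset.notMem_empty _)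

/-- vertices with disjoint blocks are adjacent -/
theorem adj_of_disjoint {m m' : V} (hm : IsM G v0 m) (hm' : IsM G v0 m')
    (hd : Disjoint (blk G v0 m') (blk G v0 m)) : G.Adj m m' := by
  have hα := card_pt F v0
  have hB := steiner F v0
  have hb : blk G v0 m ∈ Bset G v0 := ⟨m, hm, rfl⟩
  have hD := Cfsg.Agent.Lib.Helper61.S3622.card_disjoint hα hB hb
  have hA : ((G.neighborFinset m).filter (fun w => w ∉ G.neighborFinset v0)).card = 16 := by
    have h1 := Finset.card_filter_add_card_filter_not (s := G.neighborFinset m)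
      (fun w => w ∈ G.neighborFinset v0)
    rw [Finset.filter_mem_eq_inter, F.nadj m v0 hm.1 (fun h => hm.2 h.symm), F.deg] at h1
    omega
  have hsub : ((G.neighborFinset m).filter (fun w => w ∉ G.neighborFinset v0)).image
      (blk G v0) ⊆
      (Cfsg.Agent.Lib.Helper6.Steiner.blocks (Bset G v0)).filter
        (fun c => Disjoint c (blk G v0 m)) := by
    intro c hc
    obtain ⟨w, hw, rfl⟩ := Finset.mem_image.mp hc
    rw [mem_filter, SimpleGraph.mem_neighborFinset] at hw
    rw [mem_filter, Cfsg.Agent.Lib.Helper6.Steiner.mem_blocks]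
    exact ⟨⟨w, isM_of_adj F v0 hm hw.1 hw.2, rfl⟩, disjoint_of_adj F v0 hw.1⟩
  have hinj : Set.InjOn (blk G v0)
      ((G.neighborFinset m).filter (fun w => w ∉ G.neighborFinset v0) : Finset V) := by
    intro w hw w' hw' h
    rw [Finset.mem_coe, mem_filter, SimpleGraph.mem_neighborFinset] at hw hw'
    exact blk_injective F v0 (isM_of_adj F v0 hm hw.1 hw.2) (isM_of_adj F v0 hm hw'.1 hw'.2) h
  have heq := Finset.eq_of_subset_of_card_le hsub (by
    rw [hD, Finset.card_image_of_injOn hinj, hA])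
  have hm'D : blk G v0 m' ∈ (Cfsg.Agent.Lib.Helper6.Steiner.blocks (Bset G v0)).filter
      (fun c => Disjoint c (blk G v0 m)) := by
    rw [mem_filter, Cfsg.Agent.Lib.Helper6.Steiner.mem_blocks]
    exact ⟨⟨m', hm', rfl⟩, hd⟩
  rw [← heq] at hm'D
  obtain ⟨w, hw, hww⟩ := Finset.mem_image.mp hm'D
  rw [mem_filter, SimpleGraph.mem_neighborFinset] at hw
  have := blk_injective F v0 (isM_of_adj F v0 hm hw.1 hw.2) hm' hww
  rw [← this]
  exact hw.1

omit F in
/-- the vertex map -/
noncomputable def vmap (G : SimpleGraph V) [DecidableRel G.Adj] (v0 : V) :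
    V → Option (Pt G v0 ⊕ ↥(Bset G v0)) := fun v =>
  if h0 : v = v0 then none
  else if h : v ∈ G.neighborFinset v0 then some (Sum.inl ⟨v, h⟩)
  else some (Sum.inr ⟨blk G v0 v,
    ⟨v, ⟨h0, fun hadj => h ((G.mem_neighborFinset _ _).mpr hadj)⟩, rfl⟩⟩)

omit F in
theorem vmap_base : vmap G v0 v0 = none := by
  rw [vmap, dif_pos rfl]

omit F in
theorem vmap_pt (x : Pt G v0) : vmap G v0 x.1 = some (Sum.inl x) := by
  have h0 : x.1 ≠ v0 := by
    intro h
    have := x.2
    rw [h, SimpleGraph.mem_neighborFinset] at this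
    exact G.irrefl this
  rw [vmap, dif_neg h0, dif_pos x.2]

omit F in
theorem vmap_blk {m : V} (hm : IsM G v0 m) :
    vmap G v0 m = some (Sum.inr ⟨blk G v0 m, ⟨m, hm, rfl⟩⟩) := by
  have h : m ∉ G.neighborFinset v0 := by
    rw [SimpleGraph.mem_neighborFinset]
    exact hm.2
  rw [vmap, dif_neg hm.1, dif_neg h]

omit F in
theorem vertex_cases (v : V) :
    v0 = v ∨ (∃ x : Pt G v0, x.1 = v) ∨ IsM G v0 v := by
  by_cases h0 : v = v0
  · exact Or.inl h0.symm
  · by_cases h : v ∈ G.neighborFinset v0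
    · exact Or.inr (Or.inl ⟨⟨v, h⟩, rfl⟩)
    · exact Or.inr (Or.inr ⟨h0, fun hadj => h ((G.mem_neighborFinset _ _).mpr hadj)⟩)

theorem vmap_injective : Function.Injective (vmap G v0) := by
  intro u v h
  rcases vertex_cases (G := G) v0 u with rfl | ⟨x, rfl⟩ | hu <;>
    rcases vertex_cases (G := G) v0 v with rfl | ⟨y, rfl⟩ | hv
  · rfl
  · rw [vmap_base, vmap_pt] at h
    exact absurd h (by simp)
  · rw [vmap_base, vmap_blk v0 hv] at h
    exact absurd h (by simp)
  · rw [vmap_base, vmap_pt] at h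
    exact absurd h (by simp)
  · rw [vmap_pt, vmap_pt] at h
    simp only [Option.some.injEq, Sum.inl.injEq] at h
    rw [h]
  · rw [vmap_pt, vmap_blk v0 hv] at h
    exact absurd h (by simp)
  · rw [vmap_base, vmap_blk v0 hu] at h
    exact absurd h (by simp)
  · rw [vmap_pt, vmap_blk v0 hu] at h
    exact absurd h (by simp)
  · rw [vmap_blk v0 hu, vmap_blk v0 hv] at h
    simp only [Option.some.injEq, Sum.inr.injEq] at h
    exact blk_injective F v0 hu hv (congrArg Subtype.val h)

omit F in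
theorem vmap_surjective : Function.Surjective (vmap G v0) := by
  rintro (_ | x | ⟨b, m, hm, rfl⟩)
  · exact ⟨v0, vmap_base v0⟩
  · exact ⟨x.1, vmap_pt v0 x⟩
  · exact ⟨m, vmap_blk v0 hm⟩

theorem vmap_adj (u v : V) :
    (Cfsg.pointBlockGraph (Bset G v0)).Adj (vmap G v0 u) (vmap G v0 v) ↔ G.Adj u v := by
  unfold Cfsg.pointBlockGraph
  rw [SimpleGraph.fromRel_adj]
  rcases vertex_cases (G := G) v0 u with rfl | ⟨x, rfl⟩ | hu <;>
    rcases vertex_cases (G := G) v0 v with rfl | ⟨y, rfl⟩ | hv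
  · simp [vmap_base]
  · rw [vmap_base, vmap_pt]
    simp [Cfsg.pointBlockRel, adj_base F v0 y]
  · rw [vmap_base, vmap_blk v0 hv]
    simp [Cfsg.pointBlockRel, hv.2]
  · rw [vmap_base, vmap_pt]
    simp [Cfsg.pointBlockRel, (adj_base F v0 x).symm]
  · rw [vmap_pt, vmap_pt]
    simp [Cfsg.pointBlockRel, pt_nadj F v0 x y]
  · rw [vmap_pt, vmap_blk v0 hv]
    simp only [Cfsg.pointBlockRel, ne_eq, reduceCtorEq, not_false_eq_true, or_false, true_and,
      Option.some.injEq]
    rw [mem_blk]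
    exact ⟨fun h => h.symm, fun h => h.symm⟩
  · rw [vmap_base, vmap_blk v0 hu]
    simp only [Cfsg.pointBlockRel, ne_eq, reduceCtorEq, not_false_eq_true, or_self, and_false,
      false_iff]
    exact fun h => hu.2 h.symm
  · rw [vmap_pt, vmap_blk v0 hu]
    simp only [Cfsg.pointBlockRel, ne_eq, reduceCtorEq, not_false_eq_true, false_or, true_and,
      Option.some.injEq]
    rw [mem_blk]
  · rw [vmap_blk v0 hu, vmap_blk v0 hv]
    simp only [Cfsg.pointBlockRel, ne_eq, Option.some.injEq, Sum.inr.injEq]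
    constructor
    · rintro ⟨-, h | h⟩
      · exact (adj_of_disjoint F v0 hv hu h).symm
      · exact adj_of_disjoint F v0 hu hv h
    · intro h
      refine ⟨?_, Or.inr (disjoint_of_adj F v0 h)⟩
      intro hb
      have := blk_injective F v0 hu hv (congrArg Subtype.val hb)
      rw [this] at h
      exact G.irrefl h

/-- the graph is the point-block graph of its design -/
noncomputable def graphIso : G ≃g Cfsg.pointBlockGraph (Bset G v0) where
  toEquiv := Equiv.ofBijective (vmap G v0) ⟨vmap_injective F v0, vmap_surjective v0⟩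
  map_rel_iff' := by
    intro u v
    exact vmap_adj F v0 u v

end Cfsg.Agent.Lib.Helper95.Srg
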