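import Mathlib
import Cfsg.Prelude.Def_Sporadic_a

set_option autoImplicit false

/-! Isomorphic set systems have isomorphic point-block graphs. -/

namespace Cfsg.Agent.Lib.Helper95.Srg

open Finset

variable {α β : Type*} [DecidableEq α] [DecidableEq β]

theorem image_symm_image' (e : α ≃ β) (b : Finset α) : (b.image e).image e.symm = b := by
  rw [Finset.image_image]
  have : (e.symm ∘ e : α → α) = id := by
    funext a
    simp
  rw [this, Finset.image_id]

theorem image_image_symm' (e : α ≃ β) (b : Finset β) : (b.image e.symm).image e = b := by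
  rw [Finset.image_image]
  have : (e ∘ e.symm : β → β) = id := by
    funext a
    simp
  rw [this, Finset.image_id]

/-- the bijection of blocks -/
def blockEquiv (e : α ≃ β) (B : Set (Finset α)) (B' : Set (Finset β))
    (he : (fun b => b.image e) '' B = B') : ↥B ≃ ↥B' where
  toFun b := ⟨b.1.image e, by rw [← he]; exact ⟨b.1, b.2, rfl⟩⟩
  invFun b' := ⟨b'.1.image e.symm, by
    have h : b'.1 ∈ (fun b => b.image e) '' B := by
      rw [he]
      exact b'.2
    obtain ⟨b, hb, hbb⟩ := h
    rw [← hbb]
    show (b.image e).image e.symm ∈ B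
    rw [image_symm_image']
    exact hb⟩
  left_inv b := Subtype.ext (image_symm_image' e b.1)
  right_inv b' := Subtype.ext (image_image_symm' e b'.1)

/-- the bijection of vertices -/
def vertexEquiv (e : α ≃ β) (B : Set (Finset α)) (B' : Set (Finset β))
    (he : (fun b => b.image e) '' B = B') : Option (α ⊕ ↥B) ≃ Option (β ⊕ ↥B') :=
  Equiv.optionCongr (Equiv.sumCongr e (blockEquiv e B B' he))

theorem rel_iff (e : α ≃ β) (B : Set (Finset α)) (B' : Set (Finset β))
    (he : (fun b => b.image e) '' B = B') (p q : Option (α ⊕ ↥B)) :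
    Cfsg.pointBlockRel B' (vertexEquiv e B B' he p) (vertexEquiv e B B' he q) ↔
      Cfsg.pointBlockRel B p q := by
  rcases p with _ | a | b <;> rcases q with _ | a' | b'
  all_goals simp only [vertexEquiv, Equiv.optionCongr_apply, Option.map_none, Option.map_some,
    Equiv.sumCongr_apply, Sum.map_inl, Sum.map_inr, Cfsg.pointBlockRel]
  · show e a ∈ (b'.1.image e) ↔ a ∈ b'.1
    exact e.injective.mem_finset_image
  · show Disjoint (b.1.image e) (b'.1.image e) ↔ Disjoint b.1 b'.1
    exact Finset.disjoint_image e.injective

/-- isomorphic set systems have isomorphic point-block graphs -/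
def pbgIso (e : α ≃ β) (B : Set (Finset α)) (B' : Set (Finset β))
    (he : (fun b => b.image e) '' B = B') :
    Cfsg.pointBlockGraph B ≃g Cfsg.pointBlockGraph B' where
  toEquiv := vertexEquiv e B B' he
  map_rel_iff' := by
    intro p q
    unfold Cfsg.pointBlockGraph
    rw [SimpleGraph.fromRel_adj, SimpleGraph.fromRel_adj, rel_iff, rel_iff]
    simp

end Cfsg.Agent.Lib.Helper95.Srg
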