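import Mathlib

/-!
# S5293 hive, leaf CS-SZ (helper95)

Averaging over a cyclic `p'`-group acting on an abelian group of `p`-power exponent.
-/

set_option autoImplicit false
set_option linter.style.haveILetI false

namespace Cfsg.Agent.Lib.Helper88.Cs

open scoped IsMulCommutative

variable {p : ℕ} [Fact p.Prime]

/-- the averaging argument in a commutative group `K` with an endomorphism `c`:
if the sequence `k 0 = 1`, `k (i+1) = c (k i) * κ` returns to `1` after `n` steps, `n` prime to `p`,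
and `K` has exponent `p ^ m`, then some `x` satisfies `c x = x * κ⁻¹`. -/
theorem sz_core {K : Type*} [CommGroup K] {m : ℕ} (hexp : ∀ a : K, a ^ (p ^ m) = 1)
    (c : K →* K) (κ : K) (k : ℕ → K) (hk0 : k 0 = 1)
    (hks : ∀ i, k (i + 1) = c (k i) * κ) {n : ℕ} (hkn : k n = 1) (hnp : n.Coprime p) :
    ∃ x : K, c x = x * κ⁻¹ := by
  -- the product of the `k i`
  have hc : ∀ i, c (k i) = k (i + 1) * κ⁻¹ := by
    intro i; rw [hks i, mul_inv_cancel_right]
  have hP : c (∏ i ∈ Finset.range n, k i) = (∏ i ∈ Finset.range n, k i) * (κ ^ n)⁻¹ := by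
    rw [map_prod]
    simp_rw [hc]
    rw [Finset.prod_mul_distrib, Finset.prod_const, Finset.card_range, inv_pow]
    congr 1
    have h1 := Finset.prod_range_succ' k n
    have h2 := Finset.prod_range_succ k n
    rw [hk0, mul_one] at h1
    rw [hkn, mul_one] at h2
    rw [← h1, h2]
  -- Bezout
  have hcop : Nat.Coprime n (p ^ m) := Nat.Coprime.pow_right m hnp
  have hb : (n : ℤ) * Nat.gcdA n (p ^ m) + ((p ^ m : ℕ) : ℤ) * Nat.gcdB n (p ^ m) = 1 := by
    have := Nat.gcd_eq_gcd_ab n (p ^ m)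
    rw [hcop] at this
    simpa using this.symm
  set a := Nat.gcdA n (p ^ m) with ha
  set b := Nat.gcdB n (p ^ m) with hb'
  refine ⟨(∏ i ∈ Finset.range n, k i) ^ a, ?_⟩
  rw [map_zpow, hP, mul_zpow]
  congr 1
  rw [inv_zpow, inv_inj, ← zpow_natCast, ← zpow_mul]
  have h3 : (n : ℤ) * a = 1 - ((p ^ m : ℕ) : ℤ) * b := by linarith
  rw [h3, zpow_sub, zpow_one, zpow_mul, zpow_natCast, hexp, one_zpow, inv_one, mul_one]

/-- CS-SZ without the closure clause. -/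
theorem sz_commute_aux {A : Type*} [Group A] (K : Subgroup A)
    (hKcomm : ∀ a ∈ K, ∀ b ∈ K, a * b = b * a) {m : ℕ} (hKexp : ∀ a ∈ K, a ^ (p ^ m) = 1)
    (g ψ : A) (hgK : ∀ a ∈ K, g * a * g⁻¹ ∈ K) {n : ℕ} (hn : g ^ n = 1)
    (hnp : n.Coprime p) (hκ : g * ψ * g⁻¹ * ψ⁻¹ ∈ K) :
    ∃ k ∈ K, g * (k * ψ) = k * ψ * g := by
  haveI : IsMulCommutative K := ⟨⟨fun a b => Subtype.ext (hKcomm a a.2 b b.2)⟩⟩
  -- conjugation by `g` on `K`
  let c : K →* K :=
    { toFun := fun a => ⟨g * a * g⁻¹, hgK a a.2⟩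
      map_one' := by
        apply Subtype.ext
        show g * ((1 : K) : A) * g⁻¹ = ((1 : K) : A)
        simp
      map_mul' := by
        intro a b
        apply Subtype.ext
        show g * ((a * b : K) : A) * g⁻¹ = (g * (a : A) * g⁻¹) * (g * (b : A) * g⁻¹)
        rw [Subgroup.coe_mul]; group }
  have hc_coe : ∀ a : K, ((c a : K) : A) = g * a * g⁻¹ := fun a => rfl
  let κ : K := ⟨g * ψ * g⁻¹ * ψ⁻¹, hκ⟩
  -- the sequence
  let k : ℕ → K := fun i => Nat.rec (1 : K) (fun _ x => c x * κ) i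
  have hk0 : k 0 = 1 := rfl
  have hks : ∀ i, k (i + 1) = c (k i) * κ := fun i => rfl
  have hclosed : ∀ i, (k i).1 = g ^ i * ψ * (g ^ i)⁻¹ * ψ⁻¹ := by
    intro i
    induction i with
    | zero => rw [hk0]; simp
    | succ i ih =>
      rw [hks]
      show (c (k i)).1 * κ.1 = _
      rw [hc_coe]
      show g * (k i).1 * g⁻¹ * (g * ψ * g⁻¹ * ψ⁻¹) = _
      rw [ih, pow_succ']
      group
  have hkn : k n = 1 := by
    apply Subtype.ext
    show (k n).1 = 1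
    rw [hclosed, hn]
    simp
  have hexp : ∀ a : K, a ^ (p ^ m) = 1 := by
    intro a
    apply Subtype.ext
    rw [Subgroup.coe_pow]
    exact hKexp a a.2
  obtain ⟨x, hx⟩ := sz_core (p := p) hexp c κ k hk0 hks hkn hnp
  refine ⟨(x : A), x.2, ?_⟩
  have hx' : g * (x : A) * g⁻¹ = (x : A) * (g * ψ * g⁻¹ * ψ⁻¹)⁻¹ := by
    have := congrArg (fun y : K => (y : A)) hx
    simpa [hc_coe, κ] using this
  calc g * ((x : A) * ψ) = (g * (x : A) * g⁻¹) * (g * ψ * g⁻¹ * ψ⁻¹) * ψ * g := by group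
    _ = (x : A) * ψ * g := by rw [hx']; group

/-- **CS-SZ**. -/
theorem sz_commute {A : Type*} [Group A] (K : Subgroup A)
    (hKcomm : ∀ a ∈ K, ∀ b ∈ K, a * b = b * a) {m : ℕ} (hKexp : ∀ a ∈ K, a ^ (p ^ m) = 1)
    (g ψ : A) (hgK : ∀ a ∈ K, g * a * g⁻¹ ∈ K) {n : ℕ} (hn0 : 0 < n) (hn : g ^ n = 1)
    (hnp : n.Coprime p) (hκ : g * ψ * g⁻¹ * ψ⁻¹ ∈ K) :
    ∃ k ∈ K, k ∈ Subgroup.closure {ψ, g} ∧ g * (k * ψ) = k * ψ * g := by
  have hψc : ψ ∈ Subgroup.closure ({ψ, g} : Set A) := Subgroup.subset_closure (by simp)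
  have hgc : g ∈ Subgroup.closure ({ψ, g} : Set A) := Subgroup.subset_closure (by simp)
  obtain ⟨k, hk, hcomm⟩ := sz_commute_aux (p := p) (K ⊓ Subgroup.closure {ψ, g})
    (fun a ha b hb => hKcomm a ha.1 b hb.1) (m := m) (fun a ha => hKexp a ha.1) g ψ
    (fun a ha => ⟨hgK a ha.1, Subgroup.mul_mem _ (Subgroup.mul_mem _ hgc ha.2)
      (Subgroup.inv_mem _ hgc)⟩) hn hnp
    ⟨hκ, Subgroup.mul_mem _ (Subgroup.mul_mem _ (Subgroup.mul_mem _ hgc hψc)
      (Subgroup.inv_mem _ hgc)) (Subgroup.inv_mem _ hψc)⟩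
  exact ⟨k, hk.1, hk.2, hcomm⟩

end Cfsg.Agent.Lib.Helper88.Cs
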