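import Mathlib
import Cfsg.Agent.Lib.Helper95.CsSZ

/-!
# S5293 hive, leaf CS-ABS (helper95)

`M = Q U` a finite `p`-group with `[Q, U] = 1`; `ψ, g ∈ Aut M`, `g` trivial on `Q`, `g U = U`,
`ψ Q = Q`, `c⁻¹ ψ c ∈ Q` for `c ∈ U`, `g` of order prime to `p`.  Then some `ψ₀ ∈ ⟨ψ, g⟩` agrees with
`ψ` on `Q` and fixes every `c⁻¹ g c`, `c ∈ U`.
-/

set_option autoImplicit false
set_option linter.style.haveILetI false
set_option linter.unusedSectionVars false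

namespace Cfsg.Agent.Lib.Helper88.Cs

variable {p : ℕ} [Fact p.Prime]

/-- an automorphism mapping a finite subgroup into itself maps it onto itself -/
theorem abs_inv_mem {M : Type*} [Group M] [Finite M] (σ : MulAut M) (H : Subgroup M)
    (h : ∀ x ∈ H, σ x ∈ H) : ∀ x ∈ H, σ⁻¹ x ∈ H := by
  intro x hx
  let f : H → H := fun y => ⟨σ y, h y y.2⟩
  have hinj : Function.Injective f := by
    intro a b hab
    have : σ a = σ b := congrArg Subtype.val hab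
    exact Subtype.ext (σ.injective this)
  obtain ⟨y, hy⟩ := (Finite.injective_iff_surjective.mp hinj) ⟨x, hx⟩
  have h1 : σ y = x := congrArg Subtype.val hy
  have h2 : σ⁻¹ x = y := by rw [← h1]; simp
  rw [h2]; exact y.2

/-- the group of central automorphisms with values in `Z`, trivial on `Q` -/
def abs_K {M : Type*} [Group M] (Q Z : Subgroup M) (hZQ : Z ≤ Q)
    (hZc : ∀ z ∈ Z, ∀ x : M, z * x = x * z) : Subgroup (MulAut M) where
  carrier := {χ | (∀ q ∈ Q, χ q = q) ∧ ∀ x : M, x⁻¹ * χ x ∈ Z}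
  one_mem' := by
    refine ⟨fun q _ => rfl, fun x => ?_⟩
    rw [MulAut.one_apply, inv_mul_cancel]; exact Z.one_mem
  mul_mem' := by
    rintro χ χ' ⟨h1, h2⟩ ⟨h1', h2'⟩
    refine ⟨fun q hq => ?_, fun x => ?_⟩
    · rw [MulAut.mul_apply, h1' q hq, h1 q hq]
    · rw [MulAut.mul_apply]
      have e' := h2' x
      have hx : χ' x = x * (x⁻¹ * χ' x) := by group
      rw [hx, map_mul, h1 _ (hZQ e')]
      have : x⁻¹ * (χ x * (x⁻¹ * χ' x)) = (x⁻¹ * χ x) * (x⁻¹ * χ' x) := by group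
      rw [this]
      exact Z.mul_mem (h2 x) e'
  inv_mem' := by
    rintro χ ⟨h1, h2⟩
    refine ⟨fun q hq => ?_, fun x => ?_⟩
    · have := h1 q hq
      calc χ⁻¹ q = χ⁻¹ (χ q) := by rw [this]
        _ = q := by simp
    · -- y = χ⁻¹ x, x = χ y = y e
      set y := χ⁻¹ x with hy
      have hxy : χ y = x := by rw [hy]; simp
      have e := h2 y
      have : x⁻¹ * y = (y⁻¹ * χ y)⁻¹ := by rw [hxy]; group
      rw [this]
      exact Z.inv_mem e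

theorem abs_mem_K {M : Type*} [Group M] (Q Z : Subgroup M) (hZQ : Z ≤ Q)
    (hZc : ∀ z ∈ Z, ∀ x : M, z * x = x * z) (χ : MulAut M) :
    χ ∈ abs_K Q Z hZQ hZc ↔ (∀ q ∈ Q, χ q = q) ∧ ∀ x : M, x⁻¹ * χ x ∈ Z := Iff.rfl

/-- `χ x = x * e` with `e ∈ Z` -/
theorem abs_K_apply {M : Type*} [Group M] (Q Z : Subgroup M) (hZQ : Z ≤ Q)
    (hZc : ∀ z ∈ Z, ∀ x : M, z * x = x * z) {χ : MulAut M} (hχ : χ ∈ abs_K Q Z hZQ hZc) (x : M) :
    χ x = x * (x⁻¹ * χ x) := by group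

theorem abs_K_comm {M : Type*} [Group M] (Q Z : Subgroup M) (hZQ : Z ≤ Q)
    (hZc : ∀ z ∈ Z, ∀ x : M, z * x = x * z) :
    ∀ a ∈ abs_K Q Z hZQ hZc, ∀ b ∈ abs_K Q Z hZQ hZc, a * b = b * a := by
  intro χ hχ χ' hχ'
  ext x
  rw [MulAut.mul_apply, MulAut.mul_apply]
  have e := hχ.2 x
  have e' := hχ'.2 x
  have hx : χ x = x * (x⁻¹ * χ x) := by group
  have hx' : χ' x = x * (x⁻¹ * χ' x) := by group
  have h1 : χ (χ' x) = x * (x⁻¹ * χ x) * (x⁻¹ * χ' x) := by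
    rw [hx', map_mul, hχ.1 _ (hZQ e'), ← hx]
    group
  have h2 : χ' (χ x) = x * (x⁻¹ * χ' x) * (x⁻¹ * χ x) := by
    rw [hx, map_mul, hχ'.1 _ (hZQ e), ← hx']
    group
  rw [h1, h2]
  have h3 := hZc _ e (x⁻¹ * χ' x)
  calc x * (x⁻¹ * χ x) * (x⁻¹ * χ' x) = x * ((x⁻¹ * χ x) * (x⁻¹ * χ' x)) := by group
    _ = x * ((x⁻¹ * χ' x) * (x⁻¹ * χ x)) := by rw [h3]
    _ = x * (x⁻¹ * χ' x) * (x⁻¹ * χ x) := by group

theorem abs_K_pow {M : Type*} [Group M] (Q Z : Subgroup M) (hZQ : Z ≤ Q)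
    (hZc : ∀ z ∈ Z, ∀ x : M, z * x = x * z) {χ : MulAut M} (hχ : χ ∈ abs_K Q Z hZQ hZc) (x : M)
    (j : ℕ) : (χ ^ j) x = x * (x⁻¹ * χ x) ^ j := by
  induction j with
  | zero => simp
  | succ j ih =>
    rw [pow_succ', MulAut.mul_apply, ih, map_mul]
    have e := hχ.2 x
    have hmem : (x⁻¹ * χ x) ^ j ∈ Q := hZQ (Z.pow_mem e j)
    rw [hχ.1 _ hmem, pow_succ', ← mul_assoc, mul_inv_cancel_left]

/-- **CS-ABS**. -/
theorem abstract_fix {M : Type*} [Group M] [Finite M] (hM : IsPGroup p M) (Q U : Subgroup M)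
    (hQU : Q ⊔ U = ⊤) (hcomm : ∀ q ∈ Q, ∀ c ∈ U, q * c = c * q)
    (ψ g : MulAut M) (hgQ : ∀ q ∈ Q, g q = q) (hgU : ∀ c ∈ U, g c ∈ U) (hψQ : ∀ q ∈ Q, ψ q ∈ Q)
    (hψU : ∀ c ∈ U, c⁻¹ * ψ c ∈ Q) {n : ℕ} (hn0 : 0 < n) (hn : g ^ n = 1) (hnp : n.Coprime p) :
    ∃ ψ₀ ∈ Subgroup.closure {ψ, g}, (∀ q ∈ Q, ψ₀ q = ψ q) ∧
      ∀ c ∈ U, ψ₀ (c⁻¹ * g c) = c⁻¹ * g c := by
  classical
  -- the central part of `Q`
  set Z : Subgroup M := Q ⊓ Subgroup.center M with hZdef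
  have hZQ : Z ≤ Q := inf_le_left
  have hZc : ∀ z ∈ Z, ∀ x : M, z * x = x * z := by
    intro z hz x
    exact (Subgroup.mem_center_iff.mp hz.2 x).symm
  -- generation
  have hgen : ∀ H : Subgroup M, Q ≤ H → U ≤ H → H = ⊤ := by
    intro H h1 h2
    exact top_le_iff.mp (hQU ▸ sup_le h1 h2)
  -- inverse images
  have hψQ' : ∀ q ∈ Q, ψ⁻¹ q ∈ Q := abs_inv_mem ψ Q hψQ
  have hgU' : ∀ c ∈ U, g⁻¹ c ∈ U := abs_inv_mem g U hgU
  have hgQ' : ∀ q ∈ Q, g⁻¹ q = q := by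
    intro q hq
    calc g⁻¹ q = g⁻¹ (g q) := by rw [hgQ q hq]
      _ = q := by simp
  -- `ψ` preserves `Z`
  have hψZ : ∀ z ∈ Z, ψ z ∈ Z := by
    intro z hz
    refine ⟨hψQ z hz.1, Subgroup.mem_center_iff.mpr ?_⟩
    intro x
    have h1 : x = ψ (ψ⁻¹ x) := by simp
    rw [h1, ← map_mul, ← map_mul]
    congr 1
    exact (hZc z hz _).symm
  have hψZ' : ∀ z ∈ Z, ψ⁻¹ z ∈ Z := abs_inv_mem ψ Z hψZ
  -- (A) the defect of `ψ` on `U` lies in `Z`
  have hA : ∀ c ∈ U, c⁻¹ * ψ c ∈ Z := by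
    intro c hc
    refine ⟨hψU c hc, ?_⟩
    show c⁻¹ * ψ c ∈ Subgroup.center M
    -- the centralizer of `w` contains `Q` and `U`
    have hw := hψU c hc
    have htop : Subgroup.centralizer ({c⁻¹ * ψ c} : Set M) = ⊤ := by
      apply hgen
      · intro q hq
        rw [Subgroup.mem_centralizer_iff]
        intro w hw'
        rw [Set.mem_singleton_iff] at hw'
        subst hw'
        -- `q = ψ q'`
        have hq' := hψQ' q hq
        have hqq : ψ (ψ⁻¹ q) = q := by simp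
        have h1 : ψ c * q = q * ψ c := by
          rw [← hqq, ← map_mul, ← map_mul]
          congr 1
          exact (hcomm _ hq' c hc).symm
        have h2 : c⁻¹ * q = q * c⁻¹ := by
          have := hcomm q hq c hc
          calc c⁻¹ * q = c⁻¹ * (q * c) * c⁻¹ := by group
            _ = c⁻¹ * (c * q) * c⁻¹ := by rw [this]
            _ = q * c⁻¹ := by group
        calc c⁻¹ * ψ c * q = c⁻¹ * (ψ c * q) := by group
          _ = c⁻¹ * (q * ψ c) := by rw [h1]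
          _ = (c⁻¹ * q) * ψ c := by group
          _ = (q * c⁻¹) * ψ c := by rw [h2]
          _ = q * (c⁻¹ * ψ c) := by group
      · intro u hu
        rw [Subgroup.mem_centralizer_iff]
        intro w hw'
        rw [Set.mem_singleton_iff] at hw'
        subst hw'
        exact hcomm _ hw u hu
    refine Subgroup.mem_center_iff.mpr ?_
    intro x
    have hx : x ∈ Subgroup.centralizer ({c⁻¹ * ψ c} : Set M) := by rw [htop]; trivial
    rw [Subgroup.mem_centralizer_iff] at hx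
    exact (hx _ rfl).symm
  -- the group `K`
  obtain ⟨m, hm⟩ := IsPGroup.iff_card.mp hM
  have hKexp : ∀ a ∈ abs_K Q Z hZQ hZc, a ^ (p ^ m) = 1 := by
    intro χ hχ
    ext x
    rw [abs_K_pow Q Z hZQ hZc hχ, ← hm, pow_card_eq_one', mul_one, MulAut.one_apply]
  have hgK : ∀ a ∈ abs_K Q Z hZQ hZc, g * a * g⁻¹ ∈ abs_K Q Z hZQ hZc := by
    intro χ hχ
    refine ⟨fun q hq => ?_, fun x => ?_⟩
    · rw [MulAut.mul_apply, MulAut.mul_apply, hgQ' q hq, hχ.1 q hq, hgQ q hq]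
    · rw [MulAut.mul_apply, MulAut.mul_apply]
      set y := g⁻¹ x with hy
      have hxy : g y = x := by rw [hy]; simp
      have e := hχ.2 y
      have h1 : χ y = y * (y⁻¹ * χ y) := by group
      rw [h1, map_mul, hxy, hgQ _ (hZQ e)]
      have : x⁻¹ * (x * (y⁻¹ * χ y)) = y⁻¹ * χ y := by group
      rw [this]
      exact e
  have hκ : g * ψ * g⁻¹ * ψ⁻¹ ∈ abs_K Q Z hZQ hZc := by
    have hfixQ : ∀ q ∈ Q, (g * ψ * g⁻¹ * ψ⁻¹) q = q := by
      intro q hq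
      rw [MulAut.mul_apply, MulAut.mul_apply, MulAut.mul_apply, hgQ' _ (hψQ' q hq)]
      have : ψ (ψ⁻¹ q) = q := by simp
      rw [this, hgQ q hq]
    refine ⟨hfixQ, ?_⟩
    -- the set of `x` with `x⁻¹ κ x ∈ Z` is a subgroup containing `Q` and `U`
    let H : Subgroup M :=
      { carrier := {x | x⁻¹ * (g * ψ * g⁻¹ * ψ⁻¹) x ∈ Z}
        one_mem' := by
          show (1 : M)⁻¹ * (g * ψ * g⁻¹ * ψ⁻¹) 1 ∈ Z
          rw [map_one, inv_one, one_mul]; exact Z.one_mem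
        mul_mem' := by
          intro a b ha hb
          show (a * b)⁻¹ * (g * ψ * g⁻¹ * ψ⁻¹) (a * b) ∈ Z
          have ha' : a⁻¹ * (g * ψ * g⁻¹ * ψ⁻¹) a ∈ Z := ha
          have hb' : b⁻¹ * (g * ψ * g⁻¹ * ψ⁻¹) b ∈ Z := hb
          rw [map_mul]
          have h1 : (a * b)⁻¹ * ((g * ψ * g⁻¹ * ψ⁻¹) a * (g * ψ * g⁻¹ * ψ⁻¹) b) =
              b⁻¹ * ((a⁻¹ * (g * ψ * g⁻¹ * ψ⁻¹) a) * (g * ψ * g⁻¹ * ψ⁻¹) b) := by group
          rw [h1, hZc _ ha', ← mul_assoc]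
          exact Z.mul_mem hb' ha'
        inv_mem' := by
          intro a ha
          show (a⁻¹)⁻¹ * (g * ψ * g⁻¹ * ψ⁻¹) a⁻¹ ∈ Z
          have ha' : a⁻¹ * (g * ψ * g⁻¹ * ψ⁻¹) a ∈ Z := ha
          rw [map_inv]
          have h1 : (a⁻¹)⁻¹ * ((g * ψ * g⁻¹ * ψ⁻¹) a)⁻¹ =
              a * (a⁻¹ * (g * ψ * g⁻¹ * ψ⁻¹) a)⁻¹ * a⁻¹ := by group
          rw [h1, ← hZc _ (Z.inv_mem ha'), mul_inv_cancel_right]
          exact Z.inv_mem ha' }
    have hHtop : H = ⊤ := by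
      apply hgen
      · intro q hq
        show q⁻¹ * (g * ψ * g⁻¹ * ψ⁻¹) q ∈ Z
        rw [hfixQ q hq, inv_mul_cancel]; exact Z.one_mem
      · intro c hc
        show c⁻¹ * (g * ψ * g⁻¹ * ψ⁻¹) c ∈ Z
        rw [MulAut.mul_apply, MulAut.mul_apply, MulAut.mul_apply]
        -- `ψ⁻¹ c = c * z₁`
        have hd := hA c hc
        set z₁ := ψ⁻¹ ((c⁻¹ * ψ c)⁻¹) with hz₁
        have hz₁Z : z₁ ∈ Z := hψZ' _ (Z.inv_mem hd)
        have h1 : ψ⁻¹ c = c * z₁ := by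
          have : c = ψ c * (c⁻¹ * ψ c)⁻¹ := by group
          calc ψ⁻¹ c = ψ⁻¹ (ψ c * (c⁻¹ * ψ c)⁻¹) := by rw [← this]
            _ = ψ⁻¹ (ψ c) * z₁ := by rw [map_mul]
            _ = c * z₁ := by simp
        rw [h1, map_mul, hgQ' _ (hZQ hz₁Z)]
        set c' := g⁻¹ c with hc'
        have hc'U : c' ∈ U := hgU' c hc
        have hgc' : g c' = c := by rw [hc']; simp
        have hd' := hA c' hc'U
        have h2 : ψ c' = c' * (c'⁻¹ * ψ c') := by group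
        rw [map_mul, h2, map_mul, map_mul, hgc', hgQ _ (hZQ hd'), hgQ _ (hZQ (hψZ _ hz₁Z))]
        have : c⁻¹ * (c * (c'⁻¹ * ψ c') * ψ z₁) = (c'⁻¹ * ψ c') * ψ z₁ := by group
        rw [this]
        exact Z.mul_mem hd' (hψZ _ hz₁Z)
    intro x
    have hx : x ∈ H := by rw [hHtop]; trivial
    exact hx
  obtain ⟨k, hkK, hkcl, hkcomm⟩ := sz_commute (p := p) (abs_K Q Z hZQ hZc)
    (abs_K_comm Q Z hZQ hZc) (m := m) hKexp g ψ hgK hn0 hn hnp hκ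
  have hψc : ψ ∈ Subgroup.closure ({ψ, g} : Set (MulAut M)) := Subgroup.subset_closure (by simp)
  refine ⟨k * ψ, Subgroup.mul_mem _ hkcl hψc, ?_, ?_⟩
  · intro q hq
    rw [MulAut.mul_apply, hkK.1 _ (hψQ q hq)]
  · intro c hc
    -- defect of `ψ₀` on `c`
    have hd := hA c hc
    have he := hkK.2 c
    have h0 : (k * ψ) c = c * ((c⁻¹ * k c) * (c⁻¹ * ψ c)) := by
      rw [MulAut.mul_apply]
      have h1 : ψ c = c * (c⁻¹ * ψ c) := by group
      rw [h1, map_mul, hkK.1 _ (hZQ hd)]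
      have : c⁻¹ * (c * (c⁻¹ * ψ c)) = c⁻¹ * ψ c := by group
      rw [this]
      group
    set d₀ := (c⁻¹ * k c) * (c⁻¹ * ψ c) with hd₀
    have hd₀Z : d₀ ∈ Z := Z.mul_mem he hd
    have h1 : (k * ψ) (g c) = g c * d₀ := by
      have := congrArg (fun σ : MulAut M => σ c) hkcomm
      simp only [MulAut.mul_apply] at this
      -- this : g (k (ψ c)) = k (ψ (g c))
      rw [MulAut.mul_apply, ← this]
      have h2 : k (ψ c) = c * d₀ := by rw [← MulAut.mul_apply, h0]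
      rw [h2, map_mul, hgQ _ (hZQ hd₀Z)]
    rw [map_mul, map_inv, h1, h0]
    have : (c * d₀)⁻¹ * (g c * d₀) = d₀⁻¹ * (c⁻¹ * g c) * d₀ := by group
    rw [this, hZc _ (Z.inv_mem hd₀Z), mul_assoc, inv_mul_cancel, mul_one]

end Cfsg.Agent.Lib.Helper88.Cs
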