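import Mathlib
import Cfsg.Prelude.Def_FusionSystem
import Cfsg.Prelude.Def_Local
import Cfsg.Agent.Lib.Helper84.FusionIso

/-!
# S5156 hive (Trs), the restriction homomorphism `Aut_E(R) → Aut_E(Q)` for a strongly closed `Q ≤ R` (helper95)

Common tools for the leaves TRS-F7 and TRS-F8.
-/

set_option autoImplicit false

namespace Cfsg.Agent.Lib.Helper88.Trs

open Cfsg Cfsg.FusionSystem

variable {Ω : Type*} [Group Ω] {S : Subgroup Ω}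

/-- automorphisms of `R` in `E` preserve a strongly closed subgroup `Q ≤ R` -/
theorem f7_maps (E : FusionSystem S) {Q R : Subgroup Ω} (hQR : Q ≤ R) (hRS : R ≤ S)
    (hQ : E.StronglyClosed Q) {α : MulAut R} (hα : α ∈ E.autGroup R) (x : R) (hx : (x : Ω) ∈ Q) :
    ((α x : R) : Ω) ∈ Q := by
  have h1 : R.subtype.comp α.toMonoidHom ∈ E.Hom R :=
    (Cfsg.Agent.Lib.Helper84.mem_autGroup_iff E hRS α).1 hα
  have h2 := Cfsg.Agent.Lib.Helper84.restrict_mem E h1 hQR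
  exact hQ.2 Q le_rfl _ h2 ⟨x, hx⟩

/-- the restriction of an automorphism of `R` preserving `Q` (in both directions) to `Q` -/
def f7_resAut {Q R : Subgroup Ω} (hQR : Q ≤ R) (α : MulAut R)
    (h1 : ∀ x : R, (x : Ω) ∈ Q → ((α x : R) : Ω) ∈ Q)
    (h2 : ∀ x : R, (x : Ω) ∈ Q → ((α⁻¹ x : R) : Ω) ∈ Q) : MulAut Q where
  toFun q := ⟨((α ⟨q, hQR q.2⟩ : R) : Ω), h1 _ q.2⟩
  invFun q := ⟨((α⁻¹ ⟨q, hQR q.2⟩ : R) : Ω), h2 _ q.2⟩
  left_inv q := by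
    apply Subtype.ext
    show ((α⁻¹ ⟨((α ⟨q, hQR q.2⟩ : R) : Ω), _⟩ : R) : Ω) = q
    have : (⟨((α ⟨q, hQR q.2⟩ : R) : Ω), hQR (h1 _ q.2)⟩ : R) = α ⟨q, hQR q.2⟩ := Subtype.ext rfl
    rw [this, MulAut.inv_apply_self]
  right_inv q := by
    apply Subtype.ext
    show ((α ⟨((α⁻¹ ⟨q, hQR q.2⟩ : R) : Ω), _⟩ : R) : Ω) = q
    have : (⟨((α⁻¹ ⟨q, hQR q.2⟩ : R) : Ω), hQR (h2 _ q.2)⟩ : R) = α⁻¹ ⟨q, hQR q.2⟩ := Subtype.ext rfl
    rw [this, MulAut.apply_inv_self]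
  map_mul' q q' := by
    apply Subtype.ext
    show ((α ⟨((q * q' : Q) : Ω), _⟩ : R) : Ω) = ((α ⟨q, hQR q.2⟩ : R) : Ω) * ((α ⟨q', hQR q'.2⟩ : R) : Ω)
    have : (⟨((q * q' : Q) : Ω), hQR (q * q').2⟩ : R) = ⟨q, hQR q.2⟩ * ⟨q', hQR q'.2⟩ := Subtype.ext rfl
    rw [this, map_mul, Subgroup.coe_mul]

theorem f7_resAut_apply {Q R : Subgroup Ω} (hQR : Q ≤ R) (α : MulAut R)
    (h1 : ∀ x : R, (x : Ω) ∈ Q → ((α x : R) : Ω) ∈ Q)
    (h2 : ∀ x : R, (x : Ω) ∈ Q → ((α⁻¹ x : R) : Ω) ∈ Q) (q : Q) :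
    ((f7_resAut hQR α h1 h2 q : Q) : Ω) = ((α ⟨q, hQR q.2⟩ : R) : Ω) := rfl

/-- the restriction of an automorphism in `E` lies in `E` -/
theorem f7_resAut_mem (E : FusionSystem S) {Q R : Subgroup Ω} (hQR : Q ≤ R) (hRS : R ≤ S)
    {α : MulAut R} (hα : α ∈ E.autGroup R)
    (h1 : ∀ x : R, (x : Ω) ∈ Q → ((α x : R) : Ω) ∈ Q)
    (h2 : ∀ x : R, (x : Ω) ∈ Q → ((α⁻¹ x : R) : Ω) ∈ Q) :
    f7_resAut hQR α h1 h2 ∈ E.autGroup Q := by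
  rw [Cfsg.Agent.Lib.Helper84.mem_autGroup_iff E (hQR.trans hRS)]
  have h3 : R.subtype.comp α.toMonoidHom ∈ E.Hom R :=
    (Cfsg.Agent.Lib.Helper84.mem_autGroup_iff E hRS α).1 hα
  have h4 := Cfsg.Agent.Lib.Helper84.restrict_mem E h3 hQR
  have : Q.subtype.comp (f7_resAut hQR α h1 h2 : Q ≃* Q).toMonoidHom
      = (R.subtype.comp α.toMonoidHom).comp (Subgroup.inclusion hQR) := by
    ext q
    rfl
  unfold Cfsg.Agent.Lib.Helper84.IsIso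
  rw [this]
  exact h4

/-- the restriction homomorphism `Aut_E(R) → Aut_E(Q)` -/
def f7_res (E : FusionSystem S) {Q R : Subgroup Ω} (hQR : Q ≤ R) (hRS : R ≤ S)
    (hQ : E.StronglyClosed Q) : ↥(E.autGroup R) →* ↥(E.autGroup Q) :=
  MonoidHom.mk' (fun a => ⟨f7_resAut hQR a.1 (fun x hx => f7_maps E hQR hRS hQ a.2 x hx)
      (fun x hx => f7_maps E hQR hRS hQ ((E.autGroup R).inv_mem a.2) x hx),
      f7_resAut_mem E hQR hRS a.2 _ _⟩)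
    (by
      intro a a'
      apply Subtype.ext
      apply MulEquiv.ext
      intro q
      apply Subtype.ext
      show (((a * a' : ↥(E.autGroup R)) : MulAut R) ⟨q, hQR q.2⟩ : Ω)
        = ((a : MulAut R) ⟨((a' : MulAut R) ⟨q, hQR q.2⟩ : R), _⟩ : Ω)
      rfl)

theorem f7_res_apply (E : FusionSystem S) {Q R : Subgroup Ω} (hQR : Q ≤ R) (hRS : R ≤ S)
    (hQ : E.StronglyClosed Q) (a : ↥(E.autGroup R)) (q : Q) :
    ((((f7_res E hQR hRS hQ a : ↥(E.autGroup Q)) : MulAut Q) q : Q) : Ω)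
      = (((a : MulAut R) ⟨q, hQR q.2⟩ : R) : Ω) := rfl

end Cfsg.Agent.Lib.Helper88.Trs
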