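import Mathlib
import Cfsg.Agent.Lib.Helper95.TrsF7core
import Cfsg.Agent.Lib.Helper76.PSolvable
import Cfsg.Agent.Lib.Helper54.PSolvExt

/-!
# S5156 hive (Trs), leaf TRS-F7 (helper95)
-/

set_option autoImplicit false

namespace Cfsg.Agent.Lib.Helper88.Trs

open Cfsg Cfsg.FusionSystem

universe u

variable {Ω : Type*} [Group Ω] {S : Subgroup Ω} {p : ℕ} [Fact p.Prime]

/-- a finite group mapping to a `p`-solvable group with a `p`-group as kernel is `p`-solvable -/
theorem f7_psolv_of_ker {A : Type*} {B : Type*} [Group A] [Finite A] [Group B] (f : A →* B)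
    (hB : IsPSolvable p B) (hk : IsPGroup p f.ker) : IsPSolvable p A := by
  have h1 : IsPSolvable p ↥f.ker := Cfsg.Agent.Lib.Helper54.isPSolvable_of_isPGroup p hk
  have h2 : IsPSolvable p ↥f.range := Cfsg.Agent.Lib.Helper76.isPSolvable_subgroup f.range hB
  have h3 : IsPSolvable p (A ⧸ f.ker) :=
    Cfsg.Agent.Lib.Helper76.isPSolvable_of_mulEquiv (QuotientGroup.quotientKerEquivRange f).symm h2
  exact Cfsg.Agent.Lib.Helper54.isPSolvable_ext p f.ker h1 h3

/-- **TRS-F7** -/
theorem isPSolvable_autGroup_of_ker [Finite S] (hS : IsPGroup p S) (E : FusionSystem S)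
    {Q R : Subgroup Ω} (hQR : Q ≤ R) (hRS : R ≤ S) (hQ : E.StronglyClosed Q)
    (hker : ∀ B : Subgroup (MulAut R), B ≤ E.autGroup R →
      (∀ β ∈ B, ∀ x : R, (x : Ω) ∈ Q → β x = x) → IsPGroup p B)
    (h : IsPSolvable p ↥(E.autGroup Q)) : IsPSolvable p ↥(E.autGroup R) := by
  have : Finite R := Finite.of_injective (Subgroup.inclusion hRS) (Subgroup.inclusion_injective hRS)
  have : Finite (MulAut R) := Finite.of_injective (fun α : MulAut R => (α : R → R))
    (fun α β hαβ => MulEquiv.ext (congrFun hαβ))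
  set f := f7_res E hQR hRS hQ with hf
  have hB : IsPGroup p ((f.ker).map (E.autGroup R).subtype) := by
    apply hker
    · rintro _ ⟨a, -, rfl⟩
      exact a.2
    · rintro _ ⟨a, ha, rfl⟩ x hx
      have ha : f a = 1 := MonoidHom.mem_ker.mp ha
      have h1 := f7_res_apply E hQR hRS hQ a ⟨x, hx⟩
      rw [← hf, ha] at h1
      apply Subtype.ext
      exact h1.symm
  have hk : IsPGroup p f.ker :=
    hB.of_injective ((E.autGroup R).subtype.subgroupMap f.ker)
      (by
        intro a b hab
        have h1 : (((E.autGroup R).subtype.subgroupMap f.ker a :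
            ↥((f.ker).map (E.autGroup R).subtype)) : MulAut R)
            = (((E.autGroup R).subtype.subgroupMap f.ker b :
            ↥((f.ker).map (E.autGroup R).subtype)) : MulAut R) := by rw [hab]
        exact Subtype.ext (Subtype.ext h1))
  exact f7_psolv_of_ker f h hk

end Cfsg.Agent.Lib.Helper88.Trs
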