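import Mathlib
import Cfsg.Agent.Lib.Helper95.TrsF7core
import Cfsg.Agent.Lib.Helper76.PSolvable

/-!
# S5156 hive (Trs), leaf TRS-F8 (helper95)
-/

set_option autoImplicit false
set_option linter.unusedVariables false

namespace Cfsg.Agent.Lib.Helper88.Trs

open Cfsg Cfsg.FusionSystem

universe u

variable {Ω : Type*} [Group Ω] {S : Subgroup Ω} {p : ℕ} [Fact p.Prime]

/-- the restriction `Aut_E(Q) → Aut_E(Q₀)` is surjective when `Q` is normal in `E` -/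
theorem f8_res_surjective (E : FusionSystem S) {Q₀ Q : Subgroup Ω}
    (hQ₀Q : Q₀ ≤ Q) (hQ : E.IsNormal Q) (hQ₀ : E.StronglyClosed Q₀) :
    Function.Surjective (f7_res E hQ₀Q hQ.1 hQ₀) := by
  intro a₀
  have hQ₀S : Q₀ ≤ S := hQ₀Q.trans hQ.1
  have h1 : Q₀.subtype.comp (a₀ : MulAut Q₀).toMonoidHom ∈ E.Hom Q₀ :=
    (Cfsg.Agent.Lib.Helper84.mem_autGroup_iff E hQ₀S _).1 a₀.2
  obtain ⟨ψ, hψ, hext, hψQ⟩ := hQ.2 Q₀ _ h1
  -- restrict `ψ` to `Q`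
  have hψ' := Cfsg.Agent.Lib.Helper84.restrict_mem E hψ (le_sup_right : Q ≤ Q₀ ⊔ Q)
  have hr : (ψ.comp (Subgroup.inclusion (le_sup_right : Q ≤ Q₀ ⊔ Q))).range = Q := by
    refine Eq.trans ?_ hψQ
    ext y
    constructor
    · rintro ⟨x, rfl⟩
      exact ⟨Subgroup.inclusion le_sup_right x, Subgroup.mem_subgroupOf.mpr x.2, rfl⟩
    · rintro ⟨x, hx, rfl⟩
      exact ⟨⟨x, Subgroup.mem_subgroupOf.mp hx⟩, rfl⟩
  obtain ⟨e, he, hex⟩ := Cfsg.Agent.Lib.Helper84.exists_iso_of_hom_range E hψ' hr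
  have heA : (e : MulAut Q) ∈ E.autGroup Q :=
    (Cfsg.Agent.Lib.Helper84.mem_autGroup_iff E hQ.1 e).2 he
  refine ⟨⟨e, heA⟩, ?_⟩
  apply Subtype.ext
  apply MulEquiv.ext
  intro q
  apply Subtype.ext
  rw [f7_res_apply]
  show ((e ⟨q, hQ₀Q q.2⟩ : Q) : Ω) = (((a₀ : MulAut Q₀) q : Q₀) : Ω)
  rw [hex]
  have h2 := hext q
  show ψ (Subgroup.inclusion le_sup_right ⟨q, hQ₀Q q.2⟩) = _
  have h3 : (Subgroup.inclusion (le_sup_right : Q ≤ Q₀ ⊔ Q) ⟨q, hQ₀Q q.2⟩)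
      = Subgroup.inclusion (le_sup_left : Q₀ ≤ Q₀ ⊔ Q) q := Subtype.ext rfl
  rw [h3, h2]
  rfl

/-- **TRS-F8** -/
theorem isPSolvable_autGroup_of_surj [Finite S] (E : FusionSystem S) {Q₀ Q : Subgroup Ω}
    (hQ₀Q : Q₀ ≤ Q) (hQ : E.IsNormal Q) (hQ₀ : E.StronglyClosed Q₀)
    (h : IsPSolvable p ↥(E.autGroup Q)) : IsPSolvable p ↥(E.autGroup Q₀) :=
  Cfsg.Agent.Lib.Helper76.isPSolvable_of_surjective (f7_res E hQ₀Q hQ.1 hQ₀)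
    (f8_res_surjective E hQ₀Q hQ hQ₀) h

end Cfsg.Agent.Lib.Helper88.Trs
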