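import Mathlib

/-!
# S5156 hive (Trs), leaf TRS-G2 (helper95)

An automorphism of order prime to `p` of a finite `p`-group which stabilises the chain `1 ≤ N ≤ L` is trivial.
-/

set_option autoImplicit false

namespace Cfsg.Agent.Lib.Helper88.Trs

universe u

variable {Ω : Type*} [Group Ω] {S : Subgroup Ω} {p : ℕ} [Fact p.Prime]

/-- the power argument: if `β y = y t`, `β t = t`, `β` has order prime to `p` and `t` is a `p`-element,
then `t = 1` -/
theorem g2_core {L : Type*} [Group L] (hL : IsPGroup p L) (β : MulAut L)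
    (hβ : (orderOf β).Coprime p) {y t : L} (hy : β y = y * t) (ht : β t = t) : t = 1 := by
  have hpow : ∀ j : ℕ, (β ^ j) y = y * t ^ j := by
    intro j
    induction j with
    | zero => simp
    | succ j ih =>
      rw [pow_succ', MulAut.mul_apply, ih, map_mul, map_pow, ht, hy, pow_succ', mul_assoc]
  have h1 := hpow (orderOf β)
  rw [pow_orderOf_eq_one, MulAut.one_apply] at h1
  have ht1 : t ^ orderOf β = 1 := by
    have h2 : y * t ^ orderOf β = y * 1 := by rw [← h1, mul_one]
    exact mul_left_cancel h2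
  obtain ⟨a, ha⟩ := hL t
  have h3 : orderOf t ∣ Nat.gcd (orderOf β) (p ^ a) :=
    Nat.dvd_gcd (orderOf_dvd_of_pow_eq_one ht1) (orderOf_dvd_of_pow_eq_one ha)
  have hco : Nat.gcd (orderOf β) (p ^ a) = 1 := Nat.Coprime.pow_right a hβ
  rw [hco] at h3
  exact orderOf_eq_one_iff.mp (Nat.dvd_one.mp h3)

/-- **TRS-G2** -/
theorem eq_one_of_stab {L : Type*} [Group L] [Finite L] (hL : IsPGroup p L) (N : Subgroup L)
    (β : MulAut L) (hβ : (orderOf β).Coprime p) (hN : ∀ n ∈ N, β n = n)
    (hq : ∀ x : L, x⁻¹ * β x ∈ N) : β = 1 := by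
  ext x
  show β x = x
  have hβx : β x = x * (x⁻¹ * β x) := by group
  have h1 : x⁻¹ * β x = 1 := g2_core hL β hβ hβx (hN _ (hq x))
  rw [hβx, h1, mul_one]

end Cfsg.Agent.Lib.Helper88.Trs
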