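import Mathlib
import Cfsg.Agent.Lib.Helper95.TrsG2

/-!
# S5156 hive (Trs), leaf TRS-G1 (helper95)

An automorphism of order prime to `p` of a finite `p`-group fixing pointwise a self-centralizing subgroup `Q`
of an invariant subgroup `L₀` fixes `L₀` pointwise.
-/

set_option autoImplicit false

namespace Cfsg.Agent.Lib.Helper88.Trs

universe u

variable {Ω : Type*} [Group Ω] {S : Subgroup Ω} {p : ℕ} [Fact p.Prime]

/-- **TRS-G1** -/
theorem fix_of_fix_centric {L : Type*} [Group L] [Finite L] (hL : IsPGroup p L) (L₀ Q : Subgroup L)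
    (hQL : Q ≤ L₀) (hQ : ∀ x ∈ L₀, (∀ q ∈ Q, x * q = q * x) → x ∈ Q) (β : MulAut L)
    (hβ : (orderOf β).Coprime p) (hinv : ∀ x ∈ L₀, β x ∈ L₀) (hfix : ∀ q ∈ Q, β q = q) :
    ∀ x ∈ L₀, β x = x := by
  classical
  -- the fixed points in `L₀`, as a subgroup of `↥L₀`
  let X : Subgroup ↥L₀ :=
    { carrier := {x | β (x : L) = x}
      one_mem' := by simp
      mul_mem' := by
        intro x y hx hy
        simp only [Set.mem_ofPred_eq] at hx hy ⊢
        rw [Subgroup.coe_mul, map_mul, hx, hy]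
      inv_mem' := by
        intro x hx
        simp only [Set.mem_ofPred_eq] at hx ⊢
        rw [Subgroup.coe_inv, map_inv, hx] }
  have hX : ∀ x : ↥L₀, x ∈ X ↔ β (x : L) = x := fun x => Iff.rfl
  by_contra hcon
  push Not at hcon
  obtain ⟨x0, hx0, hx0'⟩ := hcon
  have hXtop : X < ⊤ := by
    rw [lt_top_iff_ne_top]
    intro h
    have : (⟨x0, hx0⟩ : ↥L₀) ∈ X := by rw [h]; exact Subgroup.mem_top _
    exact hx0' ((hX _).1 this)
  haveI : Group.IsNilpotent ↥L₀ := (hL.to_subgroup L₀).isNilpotent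
  have hnc := Group.normalizerCondition_of_isNilpotent (G := ↥L₀) X hXtop
  obtain ⟨y, hyN, hyX⟩ := SetLike.exists_of_lt hnc
  rw [Subgroup.mem_normalizer_iff] at hyN
  apply hyX
  rw [hX]
  -- `t = y⁻¹ β(y)` centralizes `Q`
  have htL : (y : L)⁻¹ * β (y : L) ∈ L₀ := L₀.mul_mem (L₀.inv_mem y.2) (hinv _ y.2)
  have hcomm : ∀ q ∈ Q, (y : L)⁻¹ * β (y : L) * q = q * ((y : L)⁻¹ * β (y : L)) := by
    intro q hq
    have hqX : (⟨q, hQL hq⟩ : ↥L₀) ∈ X := (hX _).2 (hfix q hq)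
    have h1 := (hyN _).1 hqX
    rw [hX] at h1
    simp only [Subgroup.coe_mul, Subgroup.coe_inv, map_mul, map_inv, hfix q hq] at h1
    -- h1 : β y * q * (β y)⁻¹ = y * q * y⁻¹
    calc (y : L)⁻¹ * β (y : L) * q
        = (y : L)⁻¹ * (β (y : L) * q * (β (y : L))⁻¹) * β (y : L) := by group
      _ = (y : L)⁻¹ * ((y : L) * q * (y : L)⁻¹) * β (y : L) := by rw [h1]
      _ = q * ((y : L)⁻¹ * β (y : L)) := by group
  have htQ : (y : L)⁻¹ * β (y : L) ∈ Q := hQ _ htL hcomm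
  have hβy : β (y : L) = (y : L) * ((y : L)⁻¹ * β (y : L)) := by group
  have h1 : (y : L)⁻¹ * β (y : L) = 1 := g2_core hL β hβ hβy (hfix _ htQ)
  rw [hβy, h1, mul_one]

end Cfsg.Agent.Lib.Helper88.Trs
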