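import Mathlib
import Cfsg.Agent.Lib.Helper90.PsuDefs
import Cfsg.Agent.Lib.Helper55.PsuQR
set_option autoImplicit false
namespace Cfsg.Agent.Lib.Helper90.Psu
open Matrix Cfsg.Agent.Lib.Helper99 Cfsg.Agent.Lib.Helper13
variable {F : Type*} [Field F] [Fintype F] {q n : ℕ}
local notation "hh" => Cfsg.hermForm n F q

theorem z_herm_single_left (hF : Fintype.card F = q ^ 2) (x : Fin n → F) (i : Fin n) :
    hh (Pi.single i 1) x = (x i) ^ q := by
  rw [← Helper13.hermForm_conj hF n x (Pi.single i 1), hermForm_single_right hF]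

/-- the hermitian form on a vector supported on two coordinates -/
theorem z_herm_supp (x y : Fin n → F) (k k' : Fin n) (hkk : k ≠ k')
    (hx : ∀ j : Fin n, j ≠ k → j ≠ k' → x j = 0) :
    hh x y = x k * y k ^ q + x k' * y k' ^ q := by
  unfold Cfsg.hermForm
  apply Finset.sum_eq_add k k' hkk
  · intro c _ hc
    rw [hx c hc.1 hc.2, zero_mul]
  · intro h
    exact absurd (Finset.mem_univ k) h
  · intro h
    exact absurd (Finset.mem_univ k') h

/-- both coordinates of an isotropic vector supported on two coordinates and paired to `1` with a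
vector are non-zero -/
theorem z_coord_ne (hF : Fintype.card F = q ^ 2) (x y : Fin n → F) (k k' : Fin n) (hkk : k ≠ k')
    (hx : ∀ j : Fin n, j ≠ k → j ≠ k' → x j = 0) (hxx : hh x x = 0) (hxy : hh x y = 1) :
    x k ≠ 0 := by
  intro h
  have hq0 : q ≠ 0 := by have := q_ge_two hF; omega
  rw [z_herm_supp x x k k' hkk hx, h, zero_mul, zero_add, ← pow_succ'] at hxx
  have h' : x k' = 0 := pow_eq_zero_iff (by omega) |>.mp hxx
  rw [z_herm_supp x y k k' hkk hx, h, h', zero_mul, zero_mul, zero_add] at hxy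
  exact zero_ne_one hxy

theorem z_core (hF : Fintype.card F = q ^ 2) {m : ℕ} (C : WittCfg q n m F)
    (i0 i1 : Fin m) (h0 : i0.val = 0) (h1 : i1.val = 1) (k2 k3 kM : Fin n)
    (hk2 : k2.val = 2) (hk3 : k3.val = 3) (hkM : kM.val = 2 * m) :
    ∃ z : GL (Fin n) F, z ∈ suGL (F := F) n q ∧ z ^ (q + 1) = 1 ∧
      (z : Matrix (Fin n) (Fin n) F) *ᵥ C.e i0 = C.e i0 ∧
      hh (C.e i1) ((z : Matrix (Fin n) (Fin n) F) *ᵥ C.e i1) ≠ 0 ∧
      C.f i1 ∈ Submodule.span F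
        ({C.e i1, (z : Matrix (Fin n) (Fin n) F) *ᵥ C.e i1} : Set (Fin n → F)) ∧
      SuppLt (2 * m + 1) ((z : Matrix (Fin n) (Fin n) F) *ᵥ C.f i0) ∧
      ((z : Matrix (Fin n) (Fin n) F) *ᵥ C.f i0) kM ≠ 0 := by
  obtain ⟨μ, hμ, hμ1⟩ := exists_normOne_ne_one hF
  have hq2 := q_ge_two hF
  have hq0 : q ≠ 0 := by omega
  have hm2 : 2 ≤ m := by have := i1.isLt; omega
  have hμ0 : μ ≠ 0 := by
    intro h
    rw [h, zero_pow (by omega)] at hμ
    exact zero_ne_one hμ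
  have hμi : μ⁻¹ ^ (q + 1) = 1 := by rw [inv_pow, hμ, inv_one]
  have hμi0 : μ⁻¹ ≠ 0 := inv_ne_zero hμ0
  have hμi1 : μ⁻¹ ≠ 1 := by
    intro h
    apply hμ1
    rw [← inv_inv μ, h, inv_one]
  -- the coordinates
  have hk23 : k2 ≠ k3 := by
    intro h
    have := congrArg Fin.val h
    omega
  have hk2M : k2 ≠ kM := by
    intro h
    have := congrArg Fin.val h
    omega
  -- supports
  have se0 : ∀ j : Fin n, j.val ≠ 0 → j.val ≠ 1 → C.e i0 j = 0 := by
    intro j hj0 hj1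
    exact (C.supp i0 j (by rw [h0]; omega) (by rw [h0]; omega)).1
  have sf0 : ∀ j : Fin n, j.val ≠ 0 → j.val ≠ 1 → C.f i0 j = 0 := by
    intro j hj0 hj1
    exact (C.supp i0 j (by rw [h0]; omega) (by rw [h0]; omega)).2
  have se1 : ∀ j : Fin n, j ≠ k2 → j ≠ k3 → C.e i1 j = 0 := by
    intro j hj2 hj3
    have a2 : j.val ≠ 2 := fun h => hj2 (Fin.ext (by rw [h, hk2]))
    have a3 : j.val ≠ 3 := fun h => hj3 (Fin.ext (by rw [h, hk3]))
    exact (C.supp i1 j (by rw [h1]; omega) (by rw [h1]; omega)).1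
  have sf1 : ∀ j : Fin n, j ≠ k2 → j ≠ k3 → C.f i1 j = 0 := by
    intro j hj2 hj3
    have a2 : j.val ≠ 2 := fun h => hj2 (Fin.ext (by rw [h, hk2]))
    have a3 : j.val ≠ 3 := fun h => hj3 (Fin.ext (by rw [h, hk3]))
    exact (C.supp i1 j (by rw [h1]; omega) (by rw [h1]; omega)).2
  have he0M : C.e i0 kM = 0 := se0 kM (by omega) (by omega)
  have he02 : C.e i0 k2 = 0 := se0 k2 (by omega) (by omega)
  have hf0M : C.f i0 kM = 0 := sf0 kM (by omega) (by omega)
  have hf02 : C.f i0 k2 = 0 := sf0 k2 (by omega) (by omega)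
  have he1M : C.e i1 kM = 0 := by
    apply se1
    · intro h
      exact hk2M h.symm
    · intro h
      have := congrArg Fin.val h
      omega
  -- the two anisotropic vectors
  have hb1 : hh (Pi.single k2 (1 : F)) (Pi.single k2 1) = 1 := by
    rw [hermForm_single_right hF, Pi.single_eq_same]
  have hb1' : hh (Pi.single k2 (1 : F)) (Pi.single k2 1) ≠ 0 := by
    rw [hb1]
    exact one_ne_zero
  have hb2 : hh (Pi.single kM (1 : F) + C.e i0) (Pi.single kM 1 + C.e i0) = 1 := by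
    rw [Helper13.hermForm_add_left, Helper13.hermForm_add_right hF,
      Helper13.hermForm_add_right hF, hermForm_single_right hF, hermForm_single_right hF,
      z_herm_single_left hF, C.hee, Pi.single_eq_same, he0M, zero_pow hq0]
    ring
  have hb2' : hh (Pi.single kM (1 : F) + C.e i0) (Pi.single kM 1 + C.e i0) ≠ 0 := by
    rw [hb2]
    exact one_ne_zero
  have hb12 : hh (Pi.single k2 (1 : F)) (Pi.single kM 1 + C.e i0) = 0 := by
    rw [Helper13.hermForm_add_right hF, hermForm_single_right hF, z_herm_single_left hF,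
      Pi.single_eq_of_ne hk2M.symm, he02, zero_pow hq0, add_zero]
  -- the action of the two quasi-reflections
  have hA : ∀ x : Fin n → F, ((qr q (Pi.single k2 (1 : F)) μ : GL (Fin n) F) :
      Matrix (Fin n) (Fin n) F) *ᵥ x = x + ((μ - 1) * x k2) • Pi.single k2 (1 : F) := by
    intro x
    rw [qr_mulVec hb1' hμ0, hb1, div_one, hermForm_single_right hF]
  have hB : ∀ x : Fin n → F, ((qr q (Pi.single kM (1 : F) + C.e i0) μ⁻¹ : GL (Fin n) F) :
      Matrix (Fin n) (Fin n) F) *ᵥ x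
        = x + ((μ⁻¹ - 1) * (x kM + hh x (C.e i0))) • (Pi.single kM (1 : F) + C.e i0) := by
    intro x
    rw [qr_mulVec hb2' hμi0, hb2, div_one, Helper13.hermForm_add_right hF,
      hermForm_single_right hF]
  have hz : ∀ x : Fin n → F, ((qr q (Pi.single k2 (1 : F)) μ *
      qr q (Pi.single kM (1 : F) + C.e i0) μ⁻¹ : GL (Fin n) F) : Matrix (Fin n) (Fin n) F) *ᵥ x
      = ((qr q (Pi.single k2 (1 : F)) μ : GL (Fin n) F) : Matrix (Fin n) (Fin n) F) *ᵥ
        (((qr q (Pi.single kM (1 : F) + C.e i0) μ⁻¹ : GL (Fin n) F) :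
          Matrix (Fin n) (Fin n) F) *ᵥ x) := by
    intro x
    rw [Units.val_mul, mulVec_mulVec]
  have hcomm : Commute (qr q (Pi.single k2 (1 : F)) μ)
      (qr q (Pi.single kM (1 : F) + C.e i0) μ⁻¹) :=
    qr_comm hF hb1' hb2' hb12 hμ0 hμi0
  -- coordinates of e₁
  have he12 : C.e i1 k2 ≠ 0 :=
    z_coord_ne hF (C.e i1) (C.f i1) k2 k3 hk23 se1 (C.hee i1 i1)
      (by rw [C.hef, if_pos rfl])
  have he13 : C.e i1 k3 ≠ 0 :=
    z_coord_ne hF (C.e i1) (C.f i1) k3 k2 hk23.symm (fun j a b => se1 j b a) (C.hee i1 i1)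
      (by rw [C.hef, if_pos rfl])
  -- images
  have hze0 : ((qr q (Pi.single k2 (1 : F)) μ *
      qr q (Pi.single kM (1 : F) + C.e i0) μ⁻¹ : GL (Fin n) F) : Matrix (Fin n) (Fin n) F) *ᵥ C.e i0
      = C.e i0 := by
    rw [hz, hB, he0M, C.hee, add_zero, mul_zero, zero_smul, add_zero, hA, he02, mul_zero,
      zero_smul, add_zero]
  have hze1 : ((qr q (Pi.single k2 (1 : F)) μ *
      qr q (Pi.single kM (1 : F) + C.e i0) μ⁻¹ : GL (Fin n) F) : Matrix (Fin n) (Fin n) F) *ᵥ C.e i1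
      = C.e i1 + ((μ - 1) * C.e i1 k2) • Pi.single k2 (1 : F) := by
    rw [hz, hB, he1M, C.hee, add_zero, mul_zero, zero_smul, add_zero, hA]
  have hff0 : hh (C.f i0) (C.e i0) = 1 := by
    rw [← Helper13.hermForm_conj hF n (C.e i0) (C.f i0), C.hef, if_pos rfl, one_pow]
  have hzf0 : ((qr q (Pi.single k2 (1 : F)) μ *
      qr q (Pi.single kM (1 : F) + C.e i0) μ⁻¹ : GL (Fin n) F) : Matrix (Fin n) (Fin n) F) *ᵥ C.f i0
      = C.f i0 + (μ⁻¹ - 1) • (Pi.single kM (1 : F) + C.e i0) := by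
    rw [hz, hB, hf0M, hff0, zero_add, mul_one, hA]
    have : (C.f i0 + (μ⁻¹ - 1) • (Pi.single kM (1 : F) + C.e i0) : Fin n → F) k2 = 0 := by
      rw [Pi.add_apply, Pi.smul_apply, Pi.add_apply, hf02, he02,
        Pi.single_eq_of_ne hk2M, add_zero, smul_zero, add_zero]
    rw [this, mul_zero, zero_smul, add_zero]
  have hzsu : qr q (Pi.single k2 (1 : F)) μ * qr q (Pi.single kM (1 : F) + C.e i0) μ⁻¹
      ∈ suGL (F := F) n q := by
    unfold suGL
    rw [Subgroup.mem_inf]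
    constructor
    · exact mul_mem (qr_mem_GU hF hb1' hμ) (qr_mem_GU hF hb2' hμi)
    · rw [mem_specialLinear_iff, Units.val_mul, det_mul, qr_det hb1' hμ0, qr_det hb2' hμi0,
        mul_inv_cancel₀ hμ0]
  have hzpow : (qr q (Pi.single k2 (1 : F)) μ * qr q (Pi.single kM (1 : F) + C.e i0) μ⁻¹)
      ^ (q + 1) = 1 := by
    rw [hcomm.mul_pow, qr_pow hF hb1' hμ0, qr_pow hF hb2' hμi0, hμ, hμi, qr_one, qr_one, one_mul]
  generalize qr q (Pi.single k2 (1 : F)) μ * qr q (Pi.single kM (1 : F) + C.e i0) μ⁻¹ = z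
    at hzsu hzpow hze0 hze1 hzf0
  refine ⟨z, hzsu, hzpow, hze0, ?_, ?_, ?_, ?_⟩
  · rw [hze1, Helper13.hermForm_add_right hF, C.hee, zero_add, Helper13.hermForm_smul_right,
      hermForm_single_right hF]
    exact mul_ne_zero (pow_ne_zero _ (mul_ne_zero (sub_ne_zero.2 hμ1) he12)) he12
  · rw [hze1, Submodule.mem_span_pair]
    have ha : (μ - 1) * C.e i1 k2 ≠ 0 := mul_ne_zero (sub_ne_zero.2 hμ1) he12
    refine ⟨C.f i1 k3 / C.e i1 k3 -
        (C.f i1 k2 - C.f i1 k3 / C.e i1 k3 * C.e i1 k2) / ((μ - 1) * C.e i1 k2),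
      (C.f i1 k2 - C.f i1 k3 / C.e i1 k3 * C.e i1 k2) / ((μ - 1) * C.e i1 k2), ?_⟩
    funext j
    by_cases hj2 : j = k2
    · subst hj2
      simp only [Pi.add_apply, Pi.smul_apply, smul_eq_mul, Pi.single_eq_same]
      field_simp
      ring
    · by_cases hj3 : j = k3
      · subst hj3
        simp only [Pi.add_apply, Pi.smul_apply, smul_eq_mul, Pi.single_eq_of_ne hj2]
        field_simp
        ring
      · simp only [Pi.add_apply, Pi.smul_apply, smul_eq_mul, Pi.single_eq_of_ne hj2,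
          se1 j hj2 hj3, sf1 j hj2 hj3]
        ring
  · rw [hzf0]
    intro j hj
    have hjM : j ≠ kM := by
      intro h
      rw [h] at hj
      omega
    rw [Pi.add_apply, Pi.smul_apply, Pi.add_apply, sf0 j (by omega) (by omega),
      se0 j (by omega) (by omega), Pi.single_eq_of_ne hjM, add_zero, smul_zero, add_zero]
  · rw [hzf0]
    show (C.f i0 + (μ⁻¹ - 1) • (Pi.single kM (1 : F) + C.e i0) : Fin n → F) kM ≠ 0
    rw [Pi.add_apply, Pi.smul_apply, Pi.add_apply, hf0M, he0M, Pi.single_eq_same, add_zero,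
      zero_add, smul_eq_mul, mul_one]
    exact sub_ne_zero.2 hμi1

/-- PSU-Z. -/
theorem exists_z (hF : Fintype.card F = q ^ 2) {m : ℕ} (hm : 2 ≤ m) (C : WittCfg q n m F)
    (hlt : 2 * m < n) :
    ∃ z : GL (Fin n) F, z ∈ suGL (F := F) n q ∧ z ^ (q + 1) = 1 ∧
      (z : Matrix (Fin n) (Fin n) F) *ᵥ C.e ⟨0, by omega⟩ = C.e ⟨0, by omega⟩ ∧
      hh (C.e ⟨1, by omega⟩) ((z : Matrix (Fin n) (Fin n) F) *ᵥ C.e ⟨1, by omega⟩) ≠ 0 ∧
      C.f ⟨1, by omega⟩ ∈ Submodule.span F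
        ({C.e ⟨1, by omega⟩, (z : Matrix (Fin n) (Fin n) F) *ᵥ C.e ⟨1, by omega⟩} :
          Set (Fin n → F)) ∧
      SuppLt (2 * m + 1) ((z : Matrix (Fin n) (Fin n) F) *ᵥ C.f ⟨0, by omega⟩) ∧
      ((z : Matrix (Fin n) (Fin n) F) *ᵥ C.f ⟨0, by omega⟩) ⟨2 * m, hlt⟩ ≠ 0 :=
  z_core hF C ⟨0, by omega⟩ ⟨1, by omega⟩ rfl rfl ⟨2, by omega⟩ ⟨3, by omega⟩ ⟨2 * m, hlt⟩ rfl rfl rfl

end Cfsg.Agent.Lib.Helper90.Psu
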