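import Mathlib

set_option autoImplicit false

/-! Abelian subgroups of symmetric groups: order bounds via orbit/stabilizer induction. -/

namespace Cfsg.Agent.Lib.Helper95

open Equiv

/-- bound for the order of abelian subgroups of the symmetric group of degree `n` -/
def abBound : ℕ → ℕ
  | 0 => 1
  | 1 => 1
  | 2 => 2
  | 3 => 3
  | 4 => 4
  | (n+5) => 3 * abBound (n+2)

theorem abBound_add_five (n : ℕ) : abBound (n+5) = 3 * abBound (n+2) := by
  rw [abBound]

theorem five_step {P : ℕ → Prop} (h0 : P 0) (h1 : P 1) (h2 : P 2) (h3 : P 3) (h4 : P 4)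
    (hstep : ∀ n, P (n+2) → P (n+5)) : ∀ n, P n := by
  intro n
  induction n using Nat.strong_induction_on with
  | _ n ih =>
    match n, ih with
    | 0, _ => exact h0
    | 1, _ => exact h1
    | 2, _ => exact h2
    | 3, _ => exact h3
    | 4, _ => exact h4
    | (k+5), ih => exact hstep k (ih (k+2) (by omega))

theorem abBound_pos : ∀ n, 0 < abBound n := by
  apply five_step <;> try decide
  intro n h
  rw [abBound_add_five]; omega

theorem abBound_le_succ : ∀ n, abBound n ≤ abBound (n+1) := by
  apply five_step <;> try decide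
  intro n h
  have e1 := abBound_add_five n
  have e2 := abBound_add_five (n+1)
  have e3 : n + 1 + 5 = n + 5 + 1 := by ring
  have e4 : n + 1 + 2 = n + 2 + 1 := by ring
  rw [e3, e4] at e2
  omega

theorem two_mul_abBound_le : ∀ n, 2 * abBound n ≤ abBound (n+2) := by
  apply five_step <;> try decide
  intro n h
  have e1 := abBound_add_five n
  have e2 := abBound_add_five (n+2)
  have e3 : n + 2 + 5 = n + 5 + 2 := by ring
  rw [e3] at e2
  omega

theorem three_mul_abBound_le : ∀ n, 3 * abBound n ≤ abBound (n+3) := by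
  apply five_step <;> try decide
  intro n h
  have e1 := abBound_add_five n
  have e2 : abBound (n + 5 + 3) = 3 * abBound (n + 2 + 3) := abBound_add_five (n+3)
  omega

theorem four_mul_abBound_le (n : ℕ) : 4 * abBound n ≤ abBound (n+4) := by
  have h1 := two_mul_abBound_le n
  have h2 := two_mul_abBound_le (n+2)
  have e : n + 2 + 2 = n + 4 := by ring
  rw [e] at h2
  omega

theorem mul_abBound_le : ∀ m, 1 ≤ m → ∀ n, m * abBound n ≤ abBound (n + m) := by
  intro m
  induction m using Nat.strong_induction_on with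
  | _ m ih =>
    intro hm n
    rcases Nat.lt_or_ge m 5 with h5 | h5
    · interval_cases m
      · simpa using abBound_le_succ n
      · exact two_mul_abBound_le n
      · exact three_mul_abBound_le n
      · exact four_mul_abBound_le n
    · have ih' := ih (m - 3) (by omega) (by omega) n
      have h3 := three_mul_abBound_le (n + (m - 3))
      have e : n + (m - 3) + 3 = n + m := by omega
      rw [e] at h3
      calc m * abBound n ≤ (3 * (m - 3)) * abBound n := Nat.mul_le_mul_right _ (by omega)
        _ = 3 * ((m - 3) * abBound n) := by ring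
        _ ≤ 3 * abBound (n + (m - 3)) := Nat.mul_le_mul_left 3 ih'
        _ ≤ abBound (n + m) := h3

theorem abBound_add_three (n : ℕ) (hn : n ≠ 1) : abBound (n+3) = 3 * abBound n := by
  match n, hn with
  | 0, _ => decide
  | (j+2), _ => exact abBound_add_five j

theorem abBound_three_mul (k : ℕ) : abBound (3 * k) = 3 ^ k := by
  induction k with
  | zero => decide
  | succ k ih =>
    have e : 3 * (k + 1) = 3 * k + 3 := by ring
    rw [e, abBound_add_three _ (by omega), ih, pow_succ]; ring

theorem abBound_three_mul_add_two (k : ℕ) : abBound (3 * k + 2) = 2 * 3 ^ k := by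
  induction k with
  | zero => decide
  | succ k ih =>
    have e : 3 * (k + 1) + 2 = 3 * k + 2 + 3 := by ring
    rw [e, abBound_add_three _ (by omega), ih, pow_succ]; ring

theorem abBound_three_mul_add_one (k : ℕ) (hk : 1 ≤ k) : abBound (3 * k + 1) = 4 * 3 ^ (k - 1) := by
  induction k with
  | zero => omega
  | succ k ih =>
    rcases Nat.eq_zero_or_pos k with h0 | hpos
    · subst h0; decide
    · have e : 3 * (k + 1) + 1 = 3 * k + 1 + 3 := by ring
      rw [e, abBound_add_three _ (by omega), ih hpos]
      have : k + 1 - 1 = (k - 1) + 1 := by omega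
      rw [this, pow_succ]; ring

section Group

universe u

variable {Ω : Type*}

theorem smul_mem_orbit_iff' (A : Subgroup (Perm Ω)) (ω x : Ω) (a : A) :
    (a : Perm Ω) x ∈ MulAction.orbit A ω ↔ x ∈ MulAction.orbit A ω := by
  have h : (a : Perm Ω) x = a • x := rfl
  rw [h, ← MulAction.orbit_eq_iff, MulAction.orbit_smul, MulAction.orbit_eq_iff]

/-- restriction of `A` to the complement of the orbit of `ω` -/
def tau (A : Subgroup (Perm Ω)) (ω : Ω) :
    A →* Perm {x // x ∉ MulAction.orbit A ω} where
  toFun a := (a : Perm Ω).subtypePerm (fun x => not_congr (smul_mem_orbit_iff' A ω x a))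
  map_one' := by ext; simp
  map_mul' a b := by ext; rfl

theorem tau_apply (A : Subgroup (Perm Ω)) (ω : Ω) (a : A) (x : {x // x ∉ MulAction.orbit A ω}) :
    ((tau A ω a) x : Ω) = (a : Perm Ω) x := rfl

theorem stab_fix_orbit (A : Subgroup (Perm Ω)) [IsMulCommutative A] (ω : Ω) (b : A)
    (hb : b ∈ MulAction.stabilizer A ω) (x : Ω) (hx : x ∈ MulAction.orbit A ω) :
    (b : Perm Ω) x = x := by
  obtain ⟨a, rfl⟩ := hx
  have hb' : (b : Perm Ω) ω = ω := hb
  have hcomm : (b : Perm Ω) * (a : Perm Ω) = (a : Perm Ω) * (b : Perm Ω) :=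
    setLike_mul_comm b.2 a.2
  show (b : Perm Ω) ((a : Perm Ω) ω) = (a : Perm Ω) ω
  calc (b : Perm Ω) ((a : Perm Ω) ω) = ((b : Perm Ω) * (a : Perm Ω)) ω := rfl
    _ = ((a : Perm Ω) * (b : Perm Ω)) ω := by rw [hcomm]
    _ = (a : Perm Ω) ((b : Perm Ω) ω) := rfl
    _ = (a : Perm Ω) ω := by rw [hb']

theorem tau_injective_stab (A : Subgroup (Perm Ω)) [IsMulCommutative A] (ω : Ω) :
    Function.Injective ((tau A ω).comp (MulAction.stabilizer A ω).subtype) := by
  rw [injective_iff_map_eq_one]
  intro b hb
  apply Subtype.ext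
  apply Subtype.ext
  ext x
  by_cases hx : x ∈ MulAction.orbit A ω
  · exact stab_fix_orbit A ω b.1 b.2 x hx
  · have := congrArg (fun σ => ((σ ⟨x, hx⟩ : {x // x ∉ MulAction.orbit A ω}) : Ω)) hb
    simpa [tau_apply] using this

theorem card_le_abBound (n : ℕ) : ∀ (Ω : Type u) [Finite Ω] (A : Subgroup (Perm Ω))
    [IsMulCommutative A], Nat.card Ω = n → Nat.card A ≤ abBound n := by
  induction n using Nat.strong_induction_on with
  | _ n ih =>
    intro Ω _ A _ hn
    rcases isEmpty_or_nonempty Ω with hE | ⟨⟨ω⟩⟩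
    · have : Nat.card A ≤ 1 := Finite.card_le_one_iff_subsingleton.mpr inferInstance
      exact this.trans (abBound_pos n)
    · have h1 : Nat.card (MulAction.stabilizer A ω) * (MulAction.stabilizer A ω).index = Nat.card A :=
        Subgroup.card_mul_index _
      have h2 : (MulAction.stabilizer A ω).index = (MulAction.orbit A ω).ncard :=
        MulAction.index_stabilizer A ω
      have hm1 : 1 ≤ (MulAction.orbit A ω).ncard :=
        (Set.ncard_pos).mpr ⟨ω, MulAction.mem_orbit_self ω⟩
      have hsum := Set.ncard_add_ncard_compl (MulAction.orbit A ω)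
      have hcompl : Nat.card {x // x ∉ MulAction.orbit A ω} = n - (MulAction.orbit A ω).ncard := by
        have e : Nat.card {x // x ∉ MulAction.orbit A ω} = ((MulAction.orbit A ω)ᶜ).ncard :=
          Nat.card_coe_set_eq ((MulAction.orbit A ω)ᶜ)
        omega
      have hmn : (MulAction.orbit A ω).ncard ≤ n := by omega
      have hinj := tau_injective_stab A ω
      have hBcomm : IsMulCommutative (MulAction.stabilizer A ω) :=
        ⟨⟨fun x y => Subtype.ext (mul_comm' (x : A) y)⟩⟩
      have hcardB : Nat.card ((tau A ω).comp (MulAction.stabilizer A ω).subtype).range =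
          Nat.card (MulAction.stabilizer A ω) :=
        (Nat.card_congr (MonoidHom.ofInjective hinj).toEquiv).symm
      have hlt : n - (MulAction.orbit A ω).ncard < n := by omega
      have hIH := ih (n - (MulAction.orbit A ω).ncard) hlt {x // x ∉ MulAction.orbit A ω}
        ((tau A ω).comp (MulAction.stabilizer A ω).subtype).range hcompl
      have hfin := mul_abBound_le (MulAction.orbit A ω).ncard hm1 (n - (MulAction.orbit A ω).ncard)
      have e : n - (MulAction.orbit A ω).ncard + (MulAction.orbit A ω).ncard = n := by omega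
      rw [e] at hfin
      rw [hcardB] at hIH
      calc Nat.card A = Nat.card (MulAction.stabilizer A ω) * (MulAction.orbit A ω).ncard := by
            rw [← h1, h2]
        _ ≤ abBound (n - (MulAction.orbit A ω).ncard) * (MulAction.orbit A ω).ncard :=
            Nat.mul_le_mul_right _ hIH
        _ = (MulAction.orbit A ω).ncard * abBound (n - (MulAction.orbit A ω).ncard) := mul_comm _ _
        _ ≤ abBound n := hfin

end Group

section Exists

/-- there is an abelian subgroup of order `c` in `Perm (Fin n)` -/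
def HasAb (n c : ℕ) : Prop :=
  ∃ A : Subgroup (Perm (Fin n)), IsMulCommutative A ∧ Nat.card A = c

/-- the embedding `Perm (Fin a) × Perm (Fin b) →* Perm (Fin (a + b))` -/
def prodEmb (a b : ℕ) : Perm (Fin a) × Perm (Fin b) →* Perm (Fin (a + b)) :=
  (finSumFinEquiv.permCongrHom : Perm (Fin a ⊕ Fin b) ≃* Perm (Fin (a+b))).toMonoidHom.comp
    (Perm.sumCongrHom (Fin a) (Fin b))

theorem prodEmb_injective (a b : ℕ) : Function.Injective (prodEmb a b) := by
  intro x y hxy
  apply Perm.sumCongrHom_injective
  exact (finSumFinEquiv.permCongrHom : Perm (Fin a ⊕ Fin b) ≃* Perm (Fin (a+b))).injective hxy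

theorem prod_isMulCommutative {G H : Type*} [Group G] [Group H] (A : Subgroup G) (B : Subgroup H)
    [IsMulCommutative A] [IsMulCommutative B] : IsMulCommutative (A.prod B) :=
  ⟨⟨fun p q => by
    apply Subtype.ext
    apply Prod.ext
    · exact setLike_mul_comm (Subgroup.mem_prod.mp p.2).1 (Subgroup.mem_prod.mp q.2).1
    · exact setLike_mul_comm (Subgroup.mem_prod.mp p.2).2 (Subgroup.mem_prod.mp q.2).2⟩⟩

theorem hasAb_add {a b x y : ℕ} (h1 : HasAb a x) (h2 : HasAb b y) : HasAb (a + b) (x * y) := by
  obtain ⟨A, hA, hAc⟩ := h1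
  obtain ⟨B, hB, hBc⟩ := h2
  refine ⟨(A.prod B).map (prodEmb a b), ?_, ?_⟩
  · have := prod_isMulCommutative A B
    exact Subgroup.map_isMulCommutative _ _
  · rw [Subgroup.card_map_of_injective (prodEmb_injective a b),
      Nat.card_congr (Subgroup.prodEquiv A B).toEquiv, Nat.card_prod, hAc, hBc]

theorem hasAb_one (n : ℕ) : HasAb n 1 :=
  ⟨⊥, ⟨⟨fun _ _ => Subsingleton.elim _ _⟩⟩, Subgroup.card_bot⟩

theorem hasAb_self (k : ℕ) : HasAb (k + 2) (k + 2) := by
  refine ⟨Subgroup.zpowers (finRotate (k + 2)), inferInstance, ?_⟩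
  rw [Nat.card_zpowers, isCycle_finRotate.orderOf, support_finRotate, Finset.card_univ,
    Fintype.card_fin]

theorem hasAb_cast {n n' c c' : ℕ} (h : HasAb n c) (hn : n = n') (hc : c = c') : HasAb n' c' := by
  subst hn; subst hc; exact h

theorem hasAb_three_mul (k : ℕ) : HasAb (3 * k) (3 ^ k) := by
  induction k with
  | zero => exact hasAb_one 0
  | succ k ih => exact hasAb_cast (hasAb_add ih (hasAb_self 1)) (by ring) (by ring)

theorem hasAb_three_mul_add_two (k : ℕ) : HasAb (3 * k + 2) (2 * 3 ^ k) :=
  hasAb_cast (hasAb_add (hasAb_three_mul k) (hasAb_self 0)) (by ring) (by ring)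

theorem hasAb_three_mul_add_one (k : ℕ) (hk : 1 ≤ k) : HasAb (3 * k + 1) (4 * 3 ^ (k - 1)) := by
  obtain ⟨j, rfl⟩ : ∃ j, k = j + 1 := ⟨k - 1, by omega⟩
  refine hasAb_cast (hasAb_add (hasAb_three_mul j) (hasAb_self 2)) (by ring) ?_
  simp; ring

end Exists

end Cfsg.Agent.Lib.Helper95
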