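import Mathlib
import Cfsg.Agent.Lib.Helper95.AbelianPerm

set_option autoImplicit false

/-! Abelian subgroups of alternating groups: order bounds. -/

namespace Cfsg.Agent.Lib.Helper95

open Equiv

/-- bound for the order of abelian subgroups of the alternating group of degree `n` -/
def altBound : ℕ → ℕ
  | 0 => 1
  | 1 => 1
  | 2 => 1
  | 3 => 3
  | 4 => 4
  | 5 => 5
  | 6 => 9
  | 7 => 12
  | 8 => 16
  | (n+9) => 3 * altBound (n+6)

theorem altBound_add_nine (n : ℕ) : altBound (n+9) = 3 * altBound (n+6) := by
  rw [altBound]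

theorem altBound_add_three (n : ℕ) (hn : 6 ≤ n) : altBound (n+3) = 3 * altBound n := by
  obtain ⟨j, rfl⟩ : ∃ j, n = j + 6 := ⟨n - 6, by omega⟩
  exact altBound_add_nine j

theorem altBound_pos (n : ℕ) : 0 < altBound n := by
  induction n using Nat.strong_induction_on with
  | _ n ih =>
    rcases Nat.lt_or_ge n 9 with h | h
    · interval_cases n <;> decide
    · obtain ⟨j, rfl⟩ : ∃ j, n = j + 9 := ⟨n - 9, by omega⟩
      rw [altBound_add_nine]
      have := ih (j + 6) (by omega)
      omega

/-- generic period-3 induction for inequalities `c * altBound n ≤ altBound (n + m)` -/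
theorem altBound_ineq (c m : ℕ) (hbase : ∀ n < 9, c * altBound n ≤ altBound (n + m)) :
    ∀ n, c * altBound n ≤ altBound (n + m) := by
  intro n
  induction n using Nat.strong_induction_on with
  | _ n ih =>
    rcases Nat.lt_or_ge n 9 with h | h
    · exact hbase n h
    · obtain ⟨j, rfl⟩ : ∃ j, n = j + 9 := ⟨n - 9, by omega⟩
      have h1 := ih (j + 6) (by omega)
      have e1 := altBound_add_nine j
      have e2 : altBound (j + 9 + m) = 3 * altBound (j + 6 + m) := by
        have := altBound_add_three (j + 6 + m) (by omega)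
        have e : j + 6 + m + 3 = j + 9 + m := by ring
        rw [e] at this
        exact this
      rw [e1, e2]
      calc c * (3 * altBound (j + 6)) = 3 * (c * altBound (j + 6)) := by ring
        _ ≤ 3 * altBound (j + 6 + m) := Nat.mul_le_mul_left 3 h1

theorem altBound_le_succ : ∀ n, altBound n ≤ altBound (n+1) := by
  intro n
  have := altBound_ineq 1 1 (by intro n hn; interval_cases n <;> decide) n
  simpa using this

theorem three_mul_altBound_le : ∀ n, 3 * altBound n ≤ altBound (n+3) :=
  altBound_ineq 3 3 (by intro n hn; interval_cases n <;> decide)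

theorem four_mul_altBound_le : ∀ n, 4 * altBound n ≤ altBound (n+4) :=
  altBound_ineq 4 4 (by intro n hn; interval_cases n <;> decide)

theorem five_mul_altBound_le : ∀ n, 5 * altBound n ≤ altBound (n+5) :=
  altBound_ineq 5 5 (by intro n hn; interval_cases n <;> decide)

theorem mul_altBound_le : ∀ m, 1 ≤ m → m ≠ 2 → ∀ n, m * altBound n ≤ altBound (n + m) := by
  intro m
  induction m using Nat.strong_induction_on with
  | _ m ih =>
    intro hm hm2 n
    rcases Nat.lt_or_ge m 6 with h6 | h6
    · interval_cases m
      · simpa using altBound_le_succ n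
      · exact absurd rfl hm2
      · exact three_mul_altBound_le n
      · exact four_mul_altBound_le n
      · exact five_mul_altBound_le n
    · have ih' := ih (m - 3) (by omega) (by omega) (by omega) n
      have h3 := three_mul_altBound_le (n + (m - 3))
      have e : n + (m - 3) + 3 = n + m := by omega
      rw [e] at h3
      calc m * altBound n ≤ (3 * (m - 3)) * altBound n := Nat.mul_le_mul_right _ (by omega)
        _ = 3 * ((m - 3) * altBound n) := by ring
        _ ≤ 3 * altBound (n + (m - 3)) := Nat.mul_le_mul_left 3 ih'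
        _ ≤ altBound (n + m) := h3

theorem abBound_le_altBound : ∀ n, abBound n ≤ altBound (n + 2) := by
  intro n
  induction n using Nat.strong_induction_on with
  | _ n ih =>
    rcases Nat.lt_or_ge n 7 with h | h
    · interval_cases n <;> decide
    · obtain ⟨j, rfl⟩ : ∃ j, n = j + 3 := ⟨n - 3, by omega⟩
      have h1 := ih j (by omega)
      have e1 := abBound_add_three j (by omega)
      have e2 := altBound_add_three (j + 2) (by omega)
      have e : j + 2 + 3 = j + 3 + 2 := by ring
      rw [e] at e2
      omega

theorem altBound_three_mul_add_two (k : ℕ) (hk : 2 ≤ k) :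
    altBound (3 * k + 2) = 16 * 3 ^ (k - 2) := by
  induction k with
  | zero => omega
  | succ k ih =>
    rcases Nat.lt_or_ge k 2 with h | h
    · have : k = 1 := by omega
      subst this; decide
    · have e : 3 * (k + 1) + 2 = 3 * k + 2 + 3 := by ring
      rw [e, altBound_add_three _ (by omega), ih h]
      have : k + 1 - 2 = (k - 2) + 1 := by omega
      rw [this, pow_succ]; ring

section Group

universe u

variable {Ω : Type*}

theorem tau_injective_of_even [Fintype Ω] [DecidableEq Ω] (A : Subgroup (Perm Ω))
    (heven : ∀ a ∈ A, Perm.sign a = 1) (ω : Ω) (h2 : (MulAction.orbit A ω).ncard = 2) :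
    Function.Injective (tau A ω) := by
  classical
  rw [injective_iff_map_eq_one]
  intro a ha
  by_contra hne
  have hne' : (a : Perm Ω) ≠ 1 := fun h => hne (Subtype.ext h)
  have hsupp : ∀ x, (a : Perm Ω) x ≠ x → x ∈ MulAction.orbit A ω := by
    intro x hx
    by_contra hxO
    apply hx
    have := congrArg (fun σ => ((σ ⟨x, hxO⟩ : {x // x ∉ MulAction.orbit A ω}) : Ω)) ha
    simpa [tau_apply] using this
  have hcard : (a : Perm Ω).support.card ≤ 2 := by
    rw [← h2, Set.ncard_eq_toFinset_card']
    apply Finset.card_le_card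
    intro x hx
    rw [Set.mem_toFinset]
    exact hsupp x (Perm.mem_support.mp hx)
  have h2le := Perm.two_le_card_support_of_ne_one hne'
  have hswap : (a : Perm Ω).IsSwap := Perm.card_support_eq_two.mp (le_antisymm hcard h2le)
  have := heven a a.2
  rw [hswap.sign_eq] at this
  exact absurd this (by decide)

theorem sign_tau_stab [Fintype Ω] [DecidableEq Ω] (A : Subgroup (Perm Ω)) [IsMulCommutative A]
    (ω : Ω) [DecidablePred (fun x => x ∉ MulAction.orbit A ω)]
    (b : A) (hb : b ∈ MulAction.stabilizer A ω) :
    Perm.sign (tau A ω b) = Perm.sign (b : Perm Ω) := by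
  exact Perm.sign_subtypePerm (b : Perm Ω) (fun x => not_congr (smul_mem_orbit_iff' A ω x b))
    (fun x hx hxO => hx (stab_fix_orbit A ω b hb x hxO))

theorem card_le_altBound (n : ℕ) : ∀ (Ω : Type u) [Fintype Ω] [DecidableEq Ω]
    (A : Subgroup (Perm Ω)) [IsMulCommutative A], (∀ a ∈ A, Perm.sign a = 1) →
    Nat.card Ω = n → Nat.card A ≤ altBound n := by
  induction n using Nat.strong_induction_on with
  | _ n ih =>
    intro Ω _ _ A _ heven hn
    classical
    by_cases h2 : ∃ ω : Ω, (MulAction.orbit A ω).ncard = 2
    · obtain ⟨ω, h2⟩ := h2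
      have hinj := tau_injective_of_even A heven ω h2
      have hcard : Nat.card (tau A ω).range = Nat.card A :=
        (Nat.card_congr (MonoidHom.ofInjective hinj).toEquiv).symm
      have hsum := Set.ncard_add_ncard_compl (MulAction.orbit A ω)
      have hcompl : Nat.card {x // x ∉ MulAction.orbit A ω} = n - 2 := by
        have e : Nat.card {x // x ∉ MulAction.orbit A ω} = ((MulAction.orbit A ω)ᶜ).ncard :=
          Nat.card_coe_set_eq ((MulAction.orbit A ω)ᶜ)
        omega
      have hb := card_le_abBound (n - 2) {x // x ∉ MulAction.orbit A ω} (tau A ω).range hcompl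
      have h3 := abBound_le_altBound (n - 2)
      have e : n - 2 + 2 = n := by omega
      rw [e] at h3
      omega
    · push Not at h2
      rcases isEmpty_or_nonempty Ω with hE | ⟨⟨ω⟩⟩
      · have : Nat.card A ≤ 1 := Finite.card_le_one_iff_subsingleton.mpr inferInstance
        exact this.trans (altBound_pos n)
      · have h1 : Nat.card (MulAction.stabilizer A ω) * (MulAction.stabilizer A ω).index = Nat.card A :=
          Subgroup.card_mul_index _
        have h2' : (MulAction.stabilizer A ω).index = (MulAction.orbit A ω).ncard :=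
          MulAction.index_stabilizer A ω
        have hm1 : 1 ≤ (MulAction.orbit A ω).ncard :=
          (Set.ncard_pos).mpr ⟨ω, MulAction.mem_orbit_self ω⟩
        have hsum := Set.ncard_add_ncard_compl (MulAction.orbit A ω)
        have hcompl : Nat.card {x // x ∉ MulAction.orbit A ω} = n - (MulAction.orbit A ω).ncard := by
          have e : Nat.card {x // x ∉ MulAction.orbit A ω} = ((MulAction.orbit A ω)ᶜ).ncard :=
            Nat.card_coe_set_eq ((MulAction.orbit A ω)ᶜ)
          omega
        have hmn : (MulAction.orbit A ω).ncard ≤ n := by omega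
        have hinj := tau_injective_stab A ω
        have hBcomm : IsMulCommutative (MulAction.stabilizer A ω) :=
          ⟨⟨fun x y => Subtype.ext (mul_comm' (x : A) y)⟩⟩
        have hcardB : Nat.card ((tau A ω).comp (MulAction.stabilizer A ω).subtype).range =
            Nat.card (MulAction.stabilizer A ω) :=
          (Nat.card_congr (MonoidHom.ofInjective hinj).toEquiv).symm
        have hlt : n - (MulAction.orbit A ω).ncard < n := by omega
        have hevenB : ∀ σ ∈ ((tau A ω).comp (MulAction.stabilizer A ω).subtype).range,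
            Perm.sign σ = 1 := by
          rintro σ ⟨b, rfl⟩
          show Perm.sign (tau A ω b.1) = 1
          rw [sign_tau_stab A ω b.1 b.2]
          exact heven _ b.1.2
        have hIH := ih (n - (MulAction.orbit A ω).ncard) hlt {x // x ∉ MulAction.orbit A ω}
          ((tau A ω).comp (MulAction.stabilizer A ω).subtype).range hevenB hcompl
        have hfin := mul_altBound_le (MulAction.orbit A ω).ncard hm1 (h2 ω)
          (n - (MulAction.orbit A ω).ncard)
        have e : n - (MulAction.orbit A ω).ncard + (MulAction.orbit A ω).ncard = n := by omega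
        rw [e] at hfin
        rw [hcardB] at hIH
        calc Nat.card A = Nat.card (MulAction.stabilizer A ω) * (MulAction.orbit A ω).ncard := by
              rw [← h1, h2']
          _ ≤ altBound (n - (MulAction.orbit A ω).ncard) * (MulAction.orbit A ω).ncard :=
              Nat.mul_le_mul_right _ hIH
          _ = (MulAction.orbit A ω).ncard * altBound (n - (MulAction.orbit A ω).ncard) :=
              mul_comm _ _
          _ ≤ altBound n := hfin

end Group

section Exists

/-- there is an abelian subgroup of order `c` in `Perm (Fin n)` consisting of even permutations -/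
def HasAbEven (n c : ℕ) : Prop :=
  ∃ A : Subgroup (Perm (Fin n)), IsMulCommutative A ∧ A ≤ alternatingGroup (Fin n) ∧ Nat.card A = c

theorem sign_prodEmb (a b : ℕ) (σ : Perm (Fin a)) (τ : Perm (Fin b)) :
    Perm.sign (prodEmb a b (σ, τ)) = Perm.sign σ * Perm.sign τ := by
  show Perm.sign (finSumFinEquiv.permCongr (Perm.sumCongr σ τ)) = _
  rw [Perm.sign_permCongr, Perm.sign_sumCongr]

theorem hasAbEven_add {a b x y : ℕ} (h1 : HasAbEven a x) (h2 : HasAbEven b y) :
    HasAbEven (a + b) (x * y) := by
  obtain ⟨A, hA, hAe, hAc⟩ := h1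
  obtain ⟨B, hB, hBe, hBc⟩ := h2
  refine ⟨(A.prod B).map (prodEmb a b), ?_, ?_, ?_⟩
  · have := prod_isMulCommutative A B
    exact Subgroup.map_isMulCommutative _ _
  · rintro _ ⟨⟨σ, τ⟩, hmem, rfl⟩
    rw [Perm.mem_alternatingGroup, sign_prodEmb]
    have h1 := Perm.mem_alternatingGroup.mp (hAe (Subgroup.mem_prod.mp hmem).1)
    have h2 := Perm.mem_alternatingGroup.mp (hBe (Subgroup.mem_prod.mp hmem).2)
    rw [h1, h2, mul_one]
  · rw [Subgroup.card_map_of_injective (prodEmb_injective a b),
      Nat.card_congr (Subgroup.prodEquiv A B).toEquiv, Nat.card_prod, hAc, hBc]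

theorem hasAbEven_one (n : ℕ) : HasAbEven n 1 :=
  ⟨⊥, ⟨⟨fun _ _ => Subsingleton.elim _ _⟩⟩, bot_le, Subgroup.card_bot⟩

theorem hasAbEven_three : HasAbEven 3 3 := by
  refine ⟨Subgroup.zpowers (finRotate 3), inferInstance, ?_, ?_⟩
  · rw [Subgroup.zpowers_le, Perm.mem_alternatingGroup, sign_finRotate]
    norm_num
  · rw [Nat.card_zpowers, (isCycle_finRotate (n := 1)).orderOf, support_finRotate, Finset.card_univ,
      Fintype.card_fin]

theorem hasAbEven_four : HasAbEven 4 4 := by
  refine ⟨(alternatingGroup.kleinFour (Fin 4)).map (alternatingGroup (Fin 4)).subtype, ?_,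
    Subgroup.map_subtype_le _, ?_⟩
  · have h := alternatingGroup.kleinFour_isKleinFour (α := Fin 4) (by simp)
    have : IsMulCommutative (alternatingGroup.kleinFour (Fin 4)) := IsKleinFour.isMulCommutative
    exact Subgroup.map_isMulCommutative _ _
  · rw [Subgroup.card_subtype]
    exact alternatingGroup.kleinFour_card_of_card_eq_four (by simp)

theorem hasAbEven_cast {n n' c c' : ℕ} (h : HasAbEven n c) (hn : n = n') (hc : c = c') :
    HasAbEven n' c' := by
  subst hn; subst hc; exact h

theorem hasAbEven_three_mul (k : ℕ) : HasAbEven (3 * k) (3 ^ k) := by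
  induction k with
  | zero => exact hasAbEven_one 0
  | succ k ih => exact hasAbEven_cast (hasAbEven_add ih hasAbEven_three) (by ring) (by ring)

theorem hasAbEven_three_mul_add_one (k : ℕ) (hk : 1 ≤ k) :
    HasAbEven (3 * k + 1) (4 * 3 ^ (k - 1)) := by
  obtain ⟨j, rfl⟩ : ∃ j, k = j + 1 := ⟨k - 1, by omega⟩
  refine hasAbEven_cast (hasAbEven_add (hasAbEven_three_mul j) hasAbEven_four) (by ring) ?_
  simp; ring

theorem hasAbEven_three_mul_add_two (k : ℕ) (hk : 2 ≤ k) :
    HasAbEven (3 * k + 2) (16 * 3 ^ (k - 2)) := by
  obtain ⟨j, rfl⟩ : ∃ j, k = j + 2 := ⟨k - 2, by omega⟩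
  refine hasAbEven_cast
    (hasAbEven_add (hasAbEven_add (hasAbEven_three_mul j) hasAbEven_four) hasAbEven_four)
    (by ring) ?_
  simp; ring

theorem exists_of_hasAbEven {n c : ℕ} (h : HasAbEven n c) :
    ∃ A : Subgroup (alternatingGroup (Fin n)), IsMulCommutative A ∧ Nat.card A = c := by
  obtain ⟨A, hA, hAe, hAc⟩ := h
  refine ⟨A.subgroupOf (alternatingGroup (Fin n)), inferInstance, ?_⟩
  rw [Nat.card_congr (Subgroup.subgroupOfEquivOfLe hAe).toEquiv, hAc]

theorem card_le_of_alt {n : ℕ} (A : Subgroup (alternatingGroup (Fin n))) [IsMulCommutative A] :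
    Nat.card A ≤ abBound n ∧ Nat.card A ≤ altBound n := by
  have hc : Nat.card (A.map (alternatingGroup (Fin n)).subtype) = Nat.card A :=
    Subgroup.card_subtype _ A
  have : IsMulCommutative (A.map (alternatingGroup (Fin n)).subtype) :=
    Subgroup.map_isMulCommutative _ _
  constructor
  · rw [← hc]
    exact card_le_abBound n (Fin n) _ (by simp)
  · rw [← hc]
    refine card_le_altBound n (Fin n) _ ?_ (by simp)
    rintro _ ⟨x, _, rfl⟩
    exact Perm.mem_alternatingGroup.mp x.2

end Exists

end Cfsg.Agent.Lib.Helper95
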