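import Mathlib
import Cfsg.Prelude.Def_Sporadic_a
import Cfsg.Agent.Lib.Helper95.BigChain

set_option autoImplicit false

/-! Transport of automorphism groups of set systems along bijections. -/

namespace Cfsg.Agent.Lib.Helper95.Big

open scoped Pointwise
open MulAction

variable {α β : Type*} [DecidableEq α] [DecidableEq β]

theorem conj_mem (e : α ≃ β) (B : Set (Finset α)) (g : Equiv.Perm α)
    (hg : g ∈ Cfsg.setSystemAut B) :
    ((e.symm.trans g).trans e : Equiv.Perm β) ∈ Cfsg.setSystemAut (imgSys e B) := by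
  have hgB : imgSys g B = B := mem_stabilizer_iff.mp hg
  rw [mem_stabilizer_iff, smul_eq_imgSys, imgSys_trans, imgSys_trans, imgSys_symm, hgB]

theorem conj_mem' (e : α ≃ β) (B : Set (Finset α)) (h : Equiv.Perm β)
    (hh : h ∈ Cfsg.setSystemAut (imgSys e B)) :
    ((e.trans h).trans e.symm : Equiv.Perm α) ∈ Cfsg.setSystemAut B := by
  have hhB : imgSys h (imgSys e B) = imgSys e B := mem_stabilizer_iff.mp hh
  rw [mem_stabilizer_iff, smul_eq_imgSys, imgSys_trans, imgSys_trans, hhB, imgSys_symm]

/-- the automorphism groups of isomorphic set systems are isomorphic -/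
def autCongr (e : α ≃ β) (B : Set (Finset α)) :
    Cfsg.setSystemAut B ≃* Cfsg.setSystemAut (imgSys e B) where
  toFun g := ⟨(e.symm.trans g.1).trans e, conj_mem e B g.1 g.2⟩
  invFun h := ⟨(e.trans h.1).trans e.symm, conj_mem' e B h.1 h.2⟩
  left_inv g := by
    apply Subtype.ext
    apply Equiv.ext
    intro a
    simp
  right_inv h := by
    apply Subtype.ext
    apply Equiv.ext
    intro a
    simp
  map_mul' g h := by
    apply Subtype.ext
    apply Equiv.ext
    intro a
    simp

theorem autCongr_apply (e : α ≃ β) (B : Set (Finset α)) (g : Cfsg.setSystemAut B) (a : α) :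
    ((autCongr e B g : Cfsg.setSystemAut (imgSys e B)) : Equiv.Perm β) (e a) =
      e ((g : Equiv.Perm α) a) := by
  show e (g.1 (e.symm (e a))) = e (g.1 a)
  rw [Equiv.symm_apply_apply]

/-- the automorphism groups of isomorphic set systems are isomorphic -/
def autCongr' (e : α ≃ β) (B : Set (Finset α)) (D : Set (Finset β)) (he : imgSys e B = D) :
    Cfsg.setSystemAut B ≃* Cfsg.setSystemAut D :=
  (autCongr e B).trans (MulEquiv.subgroupCongr (congrArg Cfsg.setSystemAut he))

theorem pretransitive_of_imgSys (e : α ≃ β) (B : Set (Finset α)) (D : Set (Finset β))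
    (he : imgSys e B = D) (n : ℕ) (h : IsMultiplyPretransitive (Cfsg.setSystemAut D) β n) :
    IsMultiplyPretransitive (Cfsg.setSystemAut B) α n := by
  subst he
  rw [isMultiplyPretransitive_iff] at h ⊢
  intro x y
  obtain ⟨g', hg'⟩ := h (x.trans e.toEmbedding) (y.trans e.toEmbedding)
  refine ⟨(autCongr e B).symm g', ?_⟩
  ext j
  apply e.injective
  show e ((((autCongr e B).symm g' : Cfsg.setSystemAut B) : Equiv.Perm α) (x j)) = e (y j)
  rw [← autCongr_apply, MulEquiv.apply_symm_apply]
  exact DFunLike.congr_fun hg' j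

end Cfsg.Agent.Lib.Helper95.Big
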