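import Mathlib
import Cfsg.Prelude.Def_Sporadic_a
import Cfsg.Agent.Lib.Helper95.BigAut
import Cfsg.Agent.Lib.Helper95.BigExt

set_option autoImplicit false

/-! The automorphism group of the derived design of an `S(5,8,24)` at a point is the point
stabiliser in the automorphism group of the `S(5,8,24)`. -/

namespace Cfsg.Agent.Lib.Helper95.Big

open scoped Pointwise
open MulAction

section derived

variable {Ω : Type*} [Fintype Ω] [DecidableEq Ω]

/-- the derived design at a point -/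
def derived (O : Set (Finset Ω)) (p : Ω) : Set (Finset {a : Ω // a ≠ p}) :=
  {b' | ∃ b ∈ O, p ∈ b ∧ b' = Finset.subtype (fun a => a ≠ p) b}

omit [Fintype Ω] in
theorem mem_derived_iff (O : Set (Finset Ω)) (p : Ω) (b : Finset Ω) (hp : p ∈ b) :
    Finset.subtype (fun a => a ≠ p) b ∈ derived O p ↔ b ∈ O := by
  constructor
  · rintro ⟨b0, hb0, hp0, heq⟩
    have : b = b0 := by
      ext a
      by_cases ha : a = p
      · rw [ha]
        exact ⟨fun _ => hp0, fun _ => hp⟩
      · have h1 : (⟨a, ha⟩ : {a : Ω // a ≠ p}) ∈ Finset.subtype (fun a => a ≠ p) b ↔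
            (⟨a, ha⟩ : {a : Ω // a ≠ p}) ∈ Finset.subtype (fun a => a ≠ p) b0 := by rw [heq]
        rw [Finset.mem_subtype, Finset.mem_subtype] at h1
        exact h1
    rw [this]
    exact hb0
  · intro hb
    exact ⟨b, hb, hp, rfl⟩

omit [Fintype Ω] in
theorem subtype_smul_ofSubtype (p : Ω) (h : Equiv.Perm {a : Ω // a ≠ p}) (b : Finset Ω) :
    Finset.subtype (fun a => a ≠ p) ((Equiv.Perm.ofSubtype h) • b) =
      h • Finset.subtype (fun a => a ≠ p) b := by
  ext ⟨a, ha⟩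
  rw [Finset.mem_subtype, ← Finset.inv_smul_mem_iff, ← Finset.inv_smul_mem_iff,
    Finset.mem_subtype, Equiv.Perm.smul_def, Equiv.Perm.smul_def, ← map_inv,
    Equiv.Perm.ofSubtype_apply_of_mem h⁻¹ ha]

omit [Fintype Ω] in
theorem ofSubtype_fix (p : Ω) (h : Equiv.Perm {a : Ω // a ≠ p}) :
    (Equiv.Perm.ofSubtype h) p = p :=
  Equiv.Perm.ofSubtype_apply_of_not_mem h (fun hne => hne rfl)

theorem ofSubtype_mem_aut (hΩ : Fintype.card Ω = 24) {O : Set (Finset Ω)}
    (hO : Cfsg.IsSteinerSystem 5 8 O) (p : Ω) (h : Equiv.Perm {a : Ω // a ≠ p})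
    (hh : h ∈ Cfsg.setSystemAut (derived O p)) :
    Equiv.Perm.ofSubtype h ∈ Cfsg.setSystemAut O := by
  rw [mem_stabilizer_iff]
  have hst : Cfsg.IsSteinerSystem 5 8 ((Equiv.Perm.ofSubtype h) • O) := by
    rw [smul_eq_imgSys]
    exact steiner_imgSys _ hO
  apply ext_unique hΩ hst hO p
  intro b hb
  rw [Set.mem_smul_set_iff_inv_smul_mem]
  have hp' : p ∈ (Equiv.Perm.ofSubtype h)⁻¹ • b := by
    rw [Finset.mem_inv_smul_finset_iff, Equiv.Perm.smul_def, ofSubtype_fix]
    exact hb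
  have key : ∀ x, h⁻¹ • x ∈ derived O p ↔ x ∈ derived O p := by
    intro x
    rw [← Set.mem_smul_set_iff_inv_smul_mem, mem_stabilizer_iff.mp hh]
  rw [← mem_derived_iff O p _ hp', ← mem_derived_iff O p b hb, ← map_inv,
    subtype_smul_ofSubtype, key]

omit [Fintype Ω] in
theorem smul_mem_derived {O : Set (Finset Ω)} (p : Ω) (h : Equiv.Perm {a : Ω // a ≠ p})
    (hh : Equiv.Perm.ofSubtype h ∈ Cfsg.setSystemAut O) (x : Finset {a : Ω // a ≠ p})
    (hx : x ∈ derived O p) : h • x ∈ derived O p := by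
  obtain ⟨b, hb, hp, rfl⟩ := hx
  rw [← subtype_smul_ofSubtype]
  refine ⟨(Equiv.Perm.ofSubtype h) • b, ?_, ?_, rfl⟩
  · have h1 : (Equiv.Perm.ofSubtype h) • O = O := mem_stabilizer_iff.mp hh
    rw [← h1]
    exact Set.smul_mem_smul_set hb
  · rw [← Finset.inv_smul_mem_iff, Equiv.Perm.smul_def, ← map_inv, ofSubtype_fix]
    exact hp

omit [Fintype Ω] in
theorem mem_aut_derived {O : Set (Finset Ω)} (p : Ω) (h : Equiv.Perm {a : Ω // a ≠ p})
    (hh : Equiv.Perm.ofSubtype h ∈ Cfsg.setSystemAut O) :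
    h ∈ Cfsg.setSystemAut (derived O p) := by
  rw [mem_stabilizer_iff]
  apply Set.Subset.antisymm
  · rintro _ ⟨x, hx, rfl⟩
    exact smul_mem_derived p h hh x hx
  · intro x hx
    have hinv : Equiv.Perm.ofSubtype h⁻¹ ∈ Cfsg.setSystemAut O := by
      rw [map_inv]
      exact Subgroup.inv_mem _ hh
    have := smul_mem_derived p h⁻¹ hinv x hx
    exact ⟨h⁻¹ • x, this, smul_inv_smul h x⟩

omit [Fintype Ω] in
theorem stab_iff {O : Set (Finset Ω)} (p : Ω)
    (g : stabilizer (Cfsg.setSystemAut O) p) (x : Ω) :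
    (g.1.1 : Equiv.Perm Ω) x ≠ p ↔ x ≠ p := by
  have hgp : (g.1.1 : Equiv.Perm Ω) p = p := mem_stabilizer_iff.mp g.2
  constructor
  · intro h hx
    exact h (hx ▸ hgp)
  · intro h hx
    apply h
    apply (g.1.1 : Equiv.Perm Ω).injective
    rw [hx, hgp]

/-- the automorphism group of the derived design is the point stabiliser -/
def autDerivedEquiv (hΩ : Fintype.card Ω = 24) {O : Set (Finset Ω)}
    (hO : Cfsg.IsSteinerSystem 5 8 O) (p : Ω) :
    Cfsg.setSystemAut (derived O p) ≃* stabilizer (Cfsg.setSystemAut O) p where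
  toFun h := ⟨⟨Equiv.Perm.ofSubtype h.1, ofSubtype_mem_aut hΩ hO p h.1 h.2⟩,
    mem_stabilizer_iff.mpr (ofSubtype_fix p h.1)⟩
  invFun g := ⟨Equiv.Perm.subtypePerm g.1.1 (stab_iff p g), by
    apply mem_aut_derived
    rw [Equiv.Perm.ofSubtype_subtypePerm (stab_iff p g)]
    · exact g.1.2
    · intro x hx hxp
      apply hx
      rw [hxp]
      exact mem_stabilizer_iff.mp g.2⟩
  left_inv h := Subtype.ext (Equiv.Perm.subtypePerm_ofSubtype h.1)
  right_inv g := by
    apply Subtype.ext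
    apply Subtype.ext
    apply Equiv.Perm.ofSubtype_subtypePerm (stab_iff p g)
    intro x hx hxp
    apply hx
    rw [hxp]
    exact mem_stabilizer_iff.mp g.2
  map_mul' h k := by
    apply Subtype.ext
    apply Subtype.ext
    exact map_mul Equiv.Perm.ofSubtype h.1 k.1

theorem autDerivedEquiv_symm_apply (hΩ : Fintype.card Ω = 24) {O : Set (Finset Ω)}
    (hO : Cfsg.IsSteinerSystem 5 8 O) (p : Ω) (g : stabilizer (Cfsg.setSystemAut O) p)
    (x : {a : Ω // a ≠ p}) :
    ((((autDerivedEquiv hΩ hO p).symm g : Cfsg.setSystemAut (derived O p)) :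
      Equiv.Perm {a : Ω // a ≠ p}) x).val = (g.1.1 : Equiv.Perm Ω) x.val := rfl

theorem derived_pretransitive (hΩ : Fintype.card Ω = 24) {O : Set (Finset Ω)}
    (hO : Cfsg.IsSteinerSystem 5 8 O) (p : Ω)
    (h5 : IsMultiplyPretransitive (Cfsg.setSystemAut O) Ω 5) :
    IsMultiplyPretransitive (Cfsg.setSystemAut (derived O p)) {a : Ω // a ≠ p} 4 := by
  rw [isMultiplyPretransitive_iff] at h5 ⊢
  intro x y
  have hinj : ∀ z : Fin 4 ↪ {a : Ω // a ≠ p},
      Function.Injective (Fin.cons p (fun j => (z j).val) : Fin 5 → Ω) := by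
    intro z
    rw [Fin.cons_injective_iff]
    constructor
    · rintro ⟨j, hj⟩
      exact (z j).2 hj
    · intro a b hab
      exact z.injective (Subtype.ext hab)
  obtain ⟨g, hg⟩ := h5 ⟨_, hinj x⟩ ⟨_, hinj y⟩
  have hgp : (g.1 : Equiv.Perm Ω) p = p := DFunLike.congr_fun hg 0
  have hgx : ∀ j : Fin 4, (g.1 : Equiv.Perm Ω) (x j).val = (y j).val :=
    fun j => DFunLike.congr_fun hg j.succ
  refine ⟨(autDerivedEquiv hΩ hO p).symm ⟨g, mem_stabilizer_iff.mpr hgp⟩, ?_⟩
  ext j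
  show ((((autDerivedEquiv hΩ hO p).symm ⟨g, mem_stabilizer_iff.mpr hgp⟩ :
    Cfsg.setSystemAut (derived O p)) : Equiv.Perm {a : Ω // a ≠ p}) (x j)).val = (y j).val
  rw [autDerivedEquiv_symm_apply]
  exact hgx j

end derived

end Cfsg.Agent.Lib.Helper95.Big
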