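import Mathlib
import Cfsg.Agent.Lib.Helper95.BigEnum

set_option autoImplicit false

/-! Running the enumeration `dpL` in several stages. -/

namespace Cfsg.Agent.Lib.Helper95.Big

/-- one stage of `dpL` -/
def dpStep (blocks : List ℕ) (t K m : ℕ) (prev : List (ℕ × ℕ)) : List (ℕ × ℕ) :=
  prev ++
    (((prev.filter (fun p => decide (p.1 < K))).map
      (fun p => (p.1 + 1, p.2 ||| 2 ^ m))).filter
      (fun p => (blocks.filter (fun b => b.testBit m)).all (fun b => popLe t (p.2 &&& b))))

theorem dpL_succ (blocks : List ℕ) (t K m : ℕ) :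
    dpL blocks t K (m + 1) = dpStep blocks t K m (dpL blocks t K m) := rfl

/-- several stages, starting from a given list at `m0` -/
def dpFrom (blocks : List ℕ) (t K : ℕ) (start : List (ℕ × ℕ)) (m0 : ℕ) : ℕ → List (ℕ × ℕ)
  | 0 => start
  | j + 1 => dpStep blocks t K (m0 + j) (dpFrom blocks t K start m0 j)

theorem dpL_add (blocks : List ℕ) (t K m0 j : ℕ) :
    dpL blocks t K (m0 + j) = dpFrom blocks t K (dpL blocks t K m0) m0 j := by
  induction j with
  | zero => rfl
  | succ j ih =>
    show dpL blocks t K ((m0 + j) + 1) = _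
    rw [dpL_succ, ih]
    rfl

theorem dpL_stage (blocks : List ℕ) (t K m0 j m1 : ℕ) (L0 L1 : List (ℕ × ℕ)) (hm : m0 + j = m1)
    (h0 : dpL blocks t K m0 = L0) (h1 : dpFrom blocks t K L0 m0 j = L1) :
    dpL blocks t K m1 = L1 := by
  rw [← hm, dpL_add, h0, h1]

/-- unpacking a list of pairs coded as single numbers -/
def unpack (l : List ℕ) : List (ℕ × ℕ) := l.map (fun v => (v / 2 ^ 24, v % 2 ^ 24))

end Cfsg.Agent.Lib.Helper95.Big
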