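import Mathlib
import Cfsg.Agent.Lib.Helper7.M12Order
import Cfsg.Agent.Lib.Helper7.M12Chain
import Cfsg.Agent.Lib.Helper26.Rigid

set_option autoImplicit false

/-! Rigidity of dodecads: an element of `M24` fixing a dodecad pointwise is the identity. -/

namespace Cfsg.Agent.Lib.Helper95

open Cfsg
open scoped Pointwise

theorem idx_eq (p : GolayPt) : Cfsg.Agent.Lib.Helper26.idx p = Cfsg.Agent.Lib.Helper7.idx p := by
  cases p <;> rfl

def dodSteps : List (ℕ × ℕ) :=
  [(663645, 180636), (1302533, 3297305), (1302533, 4415544), (1302533, 1302533),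
   (11100169, 2605066), (11100169, 6053905), (4845570, 9347075), (4845570, 10170384),
   (13062145, 4845570), (13062145, 7221256), (13062145, 13062145), (11952160, 11952160)]

theorem dodSteps_check : Cfsg.Agent.Lib.Helper26.runSteps 28637 dodSteps = 16777215 := by
  decide +kernel

theorem dodecad_rigid_base {g : Equiv.Perm GolayPt} (hg : g ∈ M24)
    (hfix : ∀ q ∈ Cfsg.Agent.Lib.Helper7.finOf Cfsg.Agent.Lib.Helper7.baseDod, g q = q) : g = 1 := by
  refine Cfsg.Agent.Lib.Helper26.rigid_cert 28637 dodSteps dodSteps_check hg ?_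
  intro p hp
  apply hfix
  rw [Cfsg.Agent.Lib.Helper26.mem_dec, idx_eq] at hp
  rw [Cfsg.Agent.Lib.Helper7.mem_finOf]
  exact hp

theorem dodecad_rigid (d : Finset GolayPt) (hd : d ∈ dodecads) {g : Equiv.Perm GolayPt}
    (hg : g ∈ M24) (hfix : ∀ q ∈ d, g q = q) : g = 1 := by
  obtain ⟨h, hh, h1⟩ := Cfsg.Agent.Lib.Helper7.dodecad_trans
    (Cfsg.Agent.Lib.Helper7.finOf Cfsg.Agent.Lib.Helper7.baseDod) d
    Cfsg.Agent.Lib.Helper7.baseDod_mem hd
  have h2 : h⁻¹ * g * h = 1 := by
    apply dodecad_rigid_base (M24.mul_mem (M24.mul_mem (M24.inv_mem hh) hg) hh)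
    intro q hq
    have hq' : h q ∈ d := by
      rw [← h1]
      exact Finset.smul_mem_smul_finset hq
    rw [Equiv.Perm.mul_apply, Equiv.Perm.mul_apply, hfix _ hq']
    simp
  have h3 : g = h * (h⁻¹ * g * h) * h⁻¹ := by group
  rw [h3, h2]
  group

end Cfsg.Agent.Lib.Helper95
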