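import Mathlib
import Cfsg.Agent.Lib.Helper47.FLDefs

set_option autoImplicit false

/-! # S2863 hive (`FL`): leaf MOD-CONJ (`modSetup_cj`) -/

namespace Cfsg.Agent.Lib.Helper47.FL

open Cfsg

section mod

variable {X : Type*} [Group X] {V : Type*} [AddCommGroup V] {ρ : X →* AddMonoid.End V}
  {P : Subgroup X}

/-- `cj a (cj g P) = cj g (cj (g⁻¹ a g) P)` -/
theorem modconj_cj_swap (a g : X) (P : Subgroup X) :
    cj a (cj g P) = cj g (cj (g⁻¹ * a * g) P) := by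
  rw [← cj_mul, ← cj_mul]
  congr 1
  group

theorem modconj_ne {a g : X} {P : Subgroup X} (h : cj a (cj g P) ≠ cj g P) :
    cj (g⁻¹ * a * g) P ≠ P := by
  intro h1
  apply h
  rw [modconj_cj_swap, h1]

/-- LEAF MOD-CONJ. Everything is invariant under conjugation. -/
theorem modSetup_cj (h : ModSetup ρ P) (g : X) : ModSetup ρ (cj g P) := by
  refine ⟨?_, ?_, ?_⟩
  · intro y hy v
    obtain ⟨y0, hy0, rfl⟩ := mem_cj.mp hy
    have h1 := h.quad y0 hy0 (ρ g⁻¹ v)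
    have h2 : ρ (g * y0 * g⁻¹) v - v = ρ g (ρ y0 (ρ g⁻¹ v) - ρ g⁻¹ v) := by
      rw [map_sub, rho_cancel_inv, rho_mul, rho_mul]
    rw [h2]
    exact rho_mem_fx_cj h1
  · intro a ha v hv1 hv2
    have hb := modconj_ne ha
    rw [modconj_cj_swap] at hv2
    have h1 : ρ g⁻¹ v ∈ fx ρ P := mem_fx_cj.mp hv1
    have h2 : ρ g⁻¹ v ∈ fx ρ (cj (g⁻¹ * a * g) P) := mem_fx_cj.mp hv2
    have h3 := h.disj _ hb _ h1 h2
    have h4 := congrArg (ρ g) h3
    rwa [rho_cancel_inv, map_zero] at h4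
  · intro a ha v
    have hb := modconj_ne ha
    obtain ⟨w1, hw1, w2, hw2, hw⟩ := h.span _ hb (ρ g⁻¹ v)
    refine ⟨ρ g w1, rho_mem_fx_cj hw1, ρ g w2, ?_, ?_⟩
    · rw [modconj_cj_swap]
      exact rho_mem_fx_cj hw2
    · rw [← map_add, ← hw, rho_cancel_inv]

end mod

end Cfsg.Agent.Lib.Helper47.FL
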