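import Mathlib
import Cfsg.Agent.Lib.Helper47.G42Defs

/-! # G42 hive (S2553, helper47): the case "`H` fixes a vector" of leaf G42-X1344 (helper95)

`x1344fix_main`: a subgroup `H ≤ GL₄(2)` of order `1344` fixing a non-zero vector is not `RadFree`.
`H` acts on the `7` non-zero row vectors `φ` with `φ ⬝ᵥ v = 0` by `φ ↦ φ ᵥ* g⁻¹`; the kernel has exponent `2`, and a trivial
kernel would give `1344 ∣ 7!`. -/

set_option autoImplicit false

namespace Cfsg.Agent.Lib.Helper47.G42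

open Matrix

set_option maxRecDepth 100000 in
/-- `(v^⊥)^⊥ = ⟨v⟩` in `𝔽₂⁴` -/
theorem x1344fix_perp : ∀ v u : Fin 4 → ZMod 2,
    (∀ φ : Fin 4 → ZMod 2, φ ⬝ᵥ v = 0 → φ ⬝ᵥ u = 0) → u = 0 ∨ u = v := by
  decide

set_option maxRecDepth 100000 in
/-- at most `7` non-zero functionals vanish on a non-zero vector of `𝔽₂⁴` -/
theorem x1344fix_card : ∀ v : Fin 4 → ZMod 2, v ≠ 0 →
    Fintype.card {φ : Fin 4 → ZMod 2 // φ ≠ 0 ∧ φ ⬝ᵥ v = 0} ≤ 7 := by
  decide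

theorem x1344fix_add_self (v : Fin 4 → ZMod 2) : v + v = 0 := by
  funext i
  have : ∀ a : ZMod 2, a + a = 0 := by decide
  exact this (v i)

/-- abstract: a group of order `1344` acting on at most `7` points with a commutative kernel is not `RadFree` -/
theorem x1344fix_abs {H : Type*} [Group H] [Finite H] (hcard : Nat.card H = 1344) {X : Type*} [Fintype X]
    (hX : Fintype.card X ≤ 7) (f : H →* Equiv.Perm X)
    (hK : ∀ a b : H, a ∈ f.ker → b ∈ f.ker → a * b = b * a) : ¬ RadFree H := by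
  classical
  intro hR
  have hsol : Group.IsSolvable f.ker := by
    exact Group.isSolvable_of_comm (fun a b => Subtype.ext (hK a.1 b.1 a.2 b.2))
  have hbot : f.ker = ⊥ := hR f.ker inferInstance hsol
  have hinj : Function.Injective f := (MonoidHom.ker_eq_bot_iff f).1 hbot
  have hdvd : Nat.card H ∣ Nat.card (Equiv.Perm X) := Subgroup.card_dvd_of_injective f hinj
  rw [hcard, Nat.card_eq_fintype_card, Fintype.card_perm] at hdvd
  have h7 : (Fintype.card X).factorial ∣ (7).factorial := Nat.factorial_dvd_factorial hX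
  have := hdvd.trans h7
  norm_num [Nat.factorial] at this

/-- the action of `GL₄(2)` on row vectors, `φ ↦ φ ᵥ* g⁻¹` -/
def x1344fix_rho : GL (Fin 4) (ZMod 2) →* Equiv.Perm (Fin 4 → ZMod 2) where
  toFun g :=
    { toFun := fun φ => φ ᵥ* ((g⁻¹ : GL (Fin 4) (ZMod 2)) : Matrix (Fin 4) (Fin 4) (ZMod 2))
      invFun := fun φ => φ ᵥ* ((g : GL (Fin 4) (ZMod 2)) : Matrix (Fin 4) (Fin 4) (ZMod 2))
      left_inv := fun φ => by
        show (φ ᵥ* ((g⁻¹ : GL (Fin 4) (ZMod 2)) : Matrix (Fin 4) (Fin 4) (ZMod 2))) ᵥ*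
          ((g : GL (Fin 4) (ZMod 2)) : Matrix (Fin 4) (Fin 4) (ZMod 2)) = φ
        rw [Matrix.vecMul_vecMul, ← Units.val_mul, inv_mul_cancel, Units.val_one, Matrix.vecMul_one]
      right_inv := fun φ => by
        show (φ ᵥ* ((g : GL (Fin 4) (ZMod 2)) : Matrix (Fin 4) (Fin 4) (ZMod 2))) ᵥ*
          ((g⁻¹ : GL (Fin 4) (ZMod 2)) : Matrix (Fin 4) (Fin 4) (ZMod 2)) = φ
        rw [Matrix.vecMul_vecMul, ← Units.val_mul, mul_inv_cancel, Units.val_one, Matrix.vecMul_one] }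
  map_one' := by
    ext φ : 1
    show φ ᵥ* (((1 : GL (Fin 4) (ZMod 2))⁻¹ : GL (Fin 4) (ZMod 2)) : Matrix (Fin 4) (Fin 4) (ZMod 2)) = φ
    rw [inv_one, Units.val_one, Matrix.vecMul_one]
  map_mul' := fun g h => by
    ext φ : 1
    show φ ᵥ* (((g * h)⁻¹ : GL (Fin 4) (ZMod 2)) : Matrix (Fin 4) (Fin 4) (ZMod 2)) =
      (φ ᵥ* ((h⁻¹ : GL (Fin 4) (ZMod 2)) : Matrix (Fin 4) (Fin 4) (ZMod 2))) ᵥ*
        ((g⁻¹ : GL (Fin 4) (ZMod 2)) : Matrix (Fin 4) (Fin 4) (ZMod 2))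
    rw [Matrix.vecMul_vecMul, ← Units.val_mul, _root_.mul_inv_rev]

theorem x1344fix_rho_apply (g : GL (Fin 4) (ZMod 2)) (φ : Fin 4 → ZMod 2) :
    x1344fix_rho g φ = φ ᵥ* ((g⁻¹ : GL (Fin 4) (ZMod 2)) : Matrix (Fin 4) (Fin 4) (ZMod 2)) := rfl

theorem x1344fix_inv_fix (g : GL (Fin 4) (ZMod 2)) (v : Fin 4 → ZMod 2)
    (h : (g : Matrix (Fin 4) (Fin 4) (ZMod 2)) *ᵥ v = v) :
    ((g⁻¹ : GL (Fin 4) (ZMod 2)) : Matrix (Fin 4) (Fin 4) (ZMod 2)) *ᵥ v = v := by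
  conv_lhs => rw [← h]
  rw [Matrix.mulVec_mulVec, ← Units.val_mul, inv_mul_cancel, Units.val_one, Matrix.one_mulVec]

theorem x1344fix_rho_mem (g : GL (Fin 4) (ZMod 2)) (v : Fin 4 → ZMod 2)
    (h : (g : Matrix (Fin 4) (Fin 4) (ZMod 2)) *ᵥ v = v) (φ : Fin 4 → ZMod 2) :
    (x1344fix_rho g φ ≠ 0 ∧ x1344fix_rho g φ ⬝ᵥ v = 0) ↔ (φ ≠ 0 ∧ φ ⬝ᵥ v = 0) := by
  have h1 : x1344fix_rho g φ ⬝ᵥ v = φ ⬝ᵥ v := by
    rw [x1344fix_rho_apply, ← Matrix.dotProduct_mulVec, x1344fix_inv_fix g v h]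
  have h2 : x1344fix_rho g φ = 0 ↔ φ = 0 := by
    constructor
    · intro h0
      have := (x1344fix_rho g).injective (h0.trans (show (0 : Fin 4 → ZMod 2) = x1344fix_rho g 0 by
        rw [x1344fix_rho_apply, Matrix.zero_vecMul]))
      exact this
    · intro h0
      rw [h0, x1344fix_rho_apply, Matrix.zero_vecMul]
  rw [h1, Ne, h2]

/-- the action of `H` on the non-zero functionals vanishing on the fixed vector `v` -/
def x1344fix_f (H : Subgroup (GL (Fin 4) (ZMod 2))) (v : Fin 4 → ZMod 2)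
    (hfix : ∀ g ∈ H, (g : Matrix (Fin 4) (Fin 4) (ZMod 2)).mulVec v = v) :
    H →* Equiv.Perm {φ : Fin 4 → ZMod 2 // φ ≠ 0 ∧ φ ⬝ᵥ v = 0} where
  toFun g := (x1344fix_rho g.1).subtypePerm (fun φ => x1344fix_rho_mem g.1 v (hfix g.1 g.2) φ)
  map_one' := by
    ext φ : 2
    simp
  map_mul' := fun g h => by
    ext φ : 2
    simp only [Subgroup.coe_mul, map_mul, Equiv.Perm.subtypePerm_apply, Equiv.Perm.coe_mul,
      Function.comp_apply]

/-- an element of the kernel moves every vector by `0` or `v` -/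
theorem x1344fix_ker (H : Subgroup (GL (Fin 4) (ZMod 2))) (v : Fin 4 → ZMod 2)
    (hfix : ∀ g ∈ H, (g : Matrix (Fin 4) (Fin 4) (ZMod 2)).mulVec v = v) (g : H)
    (hg : g ∈ (x1344fix_f H v hfix).ker) (w : Fin 4 → ZMod 2) :
    ((g.1⁻¹ : GL (Fin 4) (ZMod 2)) : Matrix (Fin 4) (Fin 4) (ZMod 2)) *ᵥ w = w ∨
      ((g.1⁻¹ : GL (Fin 4) (ZMod 2)) : Matrix (Fin 4) (Fin 4) (ZMod 2)) *ᵥ w = w + v := by
  rw [MonoidHom.mem_ker] at hg
  have key : ∀ φ : Fin 4 → ZMod 2, φ ⬝ᵥ v = 0 →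
      φ ⬝ᵥ (((g.1⁻¹ : GL (Fin 4) (ZMod 2)) : Matrix (Fin 4) (Fin 4) (ZMod 2)) *ᵥ w - w) = 0 := by
    intro φ hφ
    rw [dotProduct_sub, sub_eq_zero, Matrix.dotProduct_mulVec]
    by_cases h0 : φ = 0
    · rw [h0, Matrix.zero_vecMul]
    · have := congrArg (fun σ => ((σ ⟨φ, h0, hφ⟩ : {φ : Fin 4 → ZMod 2 // φ ≠ 0 ∧ φ ⬝ᵥ v = 0}) : Fin 4 → ZMod 2)) hg
      simp only [x1344fix_f, MonoidHom.coe_mk, OneHom.coe_mk, Equiv.Perm.subtypePerm_apply,
        Equiv.Perm.coe_one, id_eq] at this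
      rw [x1344fix_rho_apply] at this
      rw [this]
  rcases x1344fix_perp v _ key with h | h
  · left; exact sub_eq_zero.1 h
  · right; rw [sub_eq_iff_eq_add] at h; rw [h, add_comm]

/-- an element of the kernel is an involution -/
theorem x1344fix_ker_sq (H : Subgroup (GL (Fin 4) (ZMod 2))) (v : Fin 4 → ZMod 2)
    (hfix : ∀ g ∈ H, (g : Matrix (Fin 4) (Fin 4) (ZMod 2)).mulVec v = v) (g : H)
    (hg : g ∈ (x1344fix_f H v hfix).ker) : g * g = 1 := by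
  have hv := x1344fix_inv_fix g.1 v (hfix g.1 g.2)
  have h1 : (g.1⁻¹ * g.1⁻¹ : GL (Fin 4) (ZMod 2)) = 1 := by
    apply Units.ext
    rw [Units.val_mul, Units.val_one, Matrix.ext_iff_mulVec]
    intro w
    rw [← Matrix.mulVec_mulVec, Matrix.one_mulVec]
    rcases x1344fix_ker H v hfix g hg w with h | h
    · rw [h, h]
    · rw [h, Matrix.mulVec_add, h, hv, add_assoc, x1344fix_add_self, add_zero]
  apply Subtype.ext
  show g.1 * g.1 = 1
  have h2 : (g.1 * g.1)⁻¹ = 1 := by rw [_root_.mul_inv_rev, h1]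
  exact inv_eq_one.1 h2

/-- G42-X1344, the case of a fixed vector. -/
theorem x1344fix_main (H : Subgroup (GL (Fin 4) (ZMod 2))) (h : Nat.card H = 1344) (v : Fin 4 → ZMod 2)
    (hv : v ≠ 0) (hfix : ∀ g ∈ H, (g : Matrix (Fin 4) (Fin 4) (ZMod 2)).mulVec v = v) : ¬ RadFree H := by
  refine x1344fix_abs h (x1344fix_card v hv) (x1344fix_f H v hfix) ?_
  intro a b ha hb
  have h1 := x1344fix_ker_sq H v hfix a ha
  have h2 := x1344fix_ker_sq H v hfix b hb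
  have h3 := x1344fix_ker_sq H v hfix (a * b) (mul_mem ha hb)
  calc a * b = a * (a * b * (a * b)) * b := by rw [h3, mul_one]
    _ = (a * a) * b * a * (b * b) := by group
    _ = b * a := by rw [h1, h2, one_mul, mul_one]

end Cfsg.Agent.Lib.Helper47.G42
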