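import Mathlib
import Cfsg.Agent.Lib.Helper47.G42Defs
import Cfsg.Agent.Lib.Helper3.Burnside
import Cfsg.Agent.Lib.Helper95.G42X1344fix

/-! # G42 hive (S2553, helper47): leaf G42-X1344 under a private name `x1344orb_main` (helper95)

A Sylow 2-subgroup of `H` fixes one of the 15 non-zero vectors; its `H`-orbit has size 1, 3 or 7; for 3 and 7 the kernel of
the action on the orbit is a non-trivial solvable (Burnside) normal subgroup; for 1 see `x1344fix_main`. -/

set_option autoImplicit false

namespace Cfsg.Agent.Lib.Helper47.G42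

theorem x1344orb_div192 : ∀ c ∈ Nat.divisors 192, ∃ a ∈ Finset.range 7, ∃ b ∈ Finset.range 2,
    c = 2 ^ a * 3 ^ b := by
  decide

/-- the kernel of the action on an orbit of size `3` or `7` is a non-trivial solvable normal subgroup -/
theorem x1344orb_ker {H : Type*} [Group H] [Finite H] (hcard : Nat.card H = 1344) {Y : Type*}
    [MulAction H Y] (y : Y) (h37 : (MulAction.orbit H y).ncard = 3 ∨ (MulAction.orbit H y).ncard = 7) :
    ¬ RadFree H := by
  classical
  intro hR
  have hfinO : (MulAction.orbit H y).Finite := Set.finite_range _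
  have : Finite (MulAction.orbit H y) := hfinO
  set f : H →* Equiv.Perm (MulAction.orbit H y) := MulAction.toPermHom H (MulAction.orbit H y) with hf
  have hKle : f.ker ≤ MulAction.stabilizer H y := by
    intro k hk
    rw [MonoidHom.mem_ker] at hk
    rw [MulAction.mem_stabilizer_iff]
    have := congrArg (fun σ => ((σ ⟨y, MulAction.mem_orbit_self y⟩ : MulAction.orbit H y) : Y)) hk
    simpa [hf] using this
  have h1 : (MulAction.orbit H y).ncard ∣ f.ker.index := by
    rw [← MulAction.index_stabilizer]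
    exact Subgroup.index_dvd_of_le hKle
  have h2 : f.ker.index ∣ ((MulAction.orbit H y).ncard).factorial := by
    rw [Subgroup.index_ker, ← Nat.card_coe_set_eq, ← Nat.card_perm]
    exact Subgroup.card_subgroup_dvd_card _
  have h3 : f.ker.index * Nat.card f.ker = 1344 := by rw [← hcard]; exact Subgroup.index_mul_card _
  have hsol : Group.IsSolvable f.ker := by
    rcases h37 with h | h
    · rw [h] at h1 h2
      have h4 : f.ker.index = 3 ∨ f.ker.index = 6 := by
        have : f.ker.index ∈ Nat.divisors 6 := Nat.mem_divisors.2 ⟨h2, by norm_num⟩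
        have h6 : Nat.divisors 6 = {1, 2, 3, 6} := by decide
        rw [h6] at this
        simp only [Finset.mem_insert, Finset.mem_singleton] at this
        rcases this with h' | h' | h' | h'
        · rw [h'] at h1; norm_num at h1
        · rw [h'] at h1; norm_num at h1
        · exact Or.inl h'
        · exact Or.inr h'
      rcases h4 with h' | h'
      · rw [h'] at h3
        exact Cfsg.Agent.Lib.Helper3.isSolvable_of_card_eq_prime_pow_mul 2 7 6 1 Nat.prime_two (by norm_num)
          (by omega)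
      · rw [h'] at h3
        exact Cfsg.Agent.Lib.Helper3.isSolvable_of_card_eq_prime_pow_mul 2 7 5 1 Nat.prime_two (by norm_num)
          (by omega)
    · rw [h] at h1
      obtain ⟨d, hd⟩ := h1
      rw [hd] at h3
      have h5 : Nat.card f.ker ∣ 192 := ⟨d, by nlinarith⟩
      obtain ⟨a, _, b, _, hab⟩ := x1344orb_div192 _ (Nat.mem_divisors.2 ⟨h5, by norm_num⟩)
      exact Cfsg.Agent.Lib.Helper3.isSolvable_of_card_eq_prime_pow_mul 2 3 a b Nat.prime_two Nat.prime_three hab
  have hbot : f.ker = ⊥ := hR f.ker inferInstance hsol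
  have hc1 : Nat.card f.ker = 1 := by rw [hbot]; exact Subgroup.card_bot
  rw [hc1, mul_one] at h3
  rw [h3] at h2
  rcases h37 with h | h
  · rw [h] at h2; norm_num [Nat.factorial] at h2
  · rw [h] at h2; norm_num [Nat.factorial] at h2

/-- a group of order `1344` acting on `15` points is not `RadFree`, or fixes a point -/
theorem x1344orb_abs {H : Type*} [Group H] [Finite H] (hcard : Nat.card H = 1344) {Y : Type*} [Fintype Y]
    [MulAction H Y] (hY : Fintype.card Y = 15) : ¬ RadFree H ∨ ∃ y : Y, ∀ h : H, h • y = y := by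
  classical
  have : Fact (Nat.Prime 2) := ⟨Nat.prime_two⟩
  obtain ⟨S⟩ : Nonempty (Sylow 2 H) := inferInstance
  have hS : IsPGroup 2 (S : Subgroup H) := S.isPGroup'
  obtain ⟨y, hy⟩ := hS.nonempty_fixed_point_of_prime_not_dvd_card Y
    (by rw [Nat.card_eq_fintype_card, hY]; norm_num)
  have hle : (S : Subgroup H) ≤ MulAction.stabilizer H y := fun s hs => by
    rw [MulAction.mem_stabilizer_iff]; exact hy ⟨s, hs⟩
  have hidx : (MulAction.orbit H y).ncard ∣ 21 := by
    rw [← MulAction.index_stabilizer]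
    have h1 : (MulAction.stabilizer H y).index ∣ (S : Subgroup H).index := Subgroup.index_dvd_of_le hle
    have h2 : ¬ 2 ∣ (S : Subgroup H).index := S.not_dvd_index
    have h3 : (S : Subgroup H).index ∣ 64 * 21 := by
      have := Subgroup.index_dvd_card (S : Subgroup H)
      rw [hcard] at this
      exact this
    have h4 : Nat.Coprime (S : Subgroup H).index 64 := by
      have : Nat.Coprime (S : Subgroup H).index 2 :=
        (Nat.Coprime.symm ((Nat.Prime.coprime_iff_not_dvd Nat.prime_two).2 h2))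
      exact Nat.Coprime.pow_right 6 this
    exact h1.trans (h4.dvd_of_dvd_mul_left h3)
  have hle15 : (MulAction.orbit H y).ncard ≤ 15 := by
    calc (MulAction.orbit H y).ncard ≤ Nat.card Y := Set.ncard_le_card _
      _ = 15 := by rw [Nat.card_eq_fintype_card, hY]
  have hcases : (MulAction.orbit H y).ncard = 1 ∨ (MulAction.orbit H y).ncard = 3 ∨
      (MulAction.orbit H y).ncard = 7 := by
    have : (MulAction.orbit H y).ncard ∈ Nat.divisors 21 := Nat.mem_divisors.2 ⟨hidx, by norm_num⟩
    have h21 : Nat.divisors 21 = {1, 3, 7, 21} := by decide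
    rw [h21] at this
    simp only [Finset.mem_insert, Finset.mem_singleton] at this
    omega
  rcases hcases with h | h | h
  · right
    refine ⟨y, fun g => ?_⟩
    obtain ⟨a, ha⟩ := Set.ncard_eq_one.1 h
    have h1 : g • y ∈ MulAction.orbit H y := MulAction.mem_orbit y g
    have h2 : y ∈ MulAction.orbit H y := MulAction.mem_orbit_self y
    rw [ha, Set.mem_singleton_iff] at h1 h2
    rw [h1, h2]
  · exact Or.inl (x1344orb_ker hcard y (Or.inl h))
  · exact Or.inl (x1344orb_ker hcard y (Or.inr h))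

open Matrix

/-- the action of `GL₄(2)` on column vectors -/
def x1344orb_sigV : GL (Fin 4) (ZMod 2) →* Equiv.Perm (Fin 4 → ZMod 2) where
  toFun g :=
    { toFun := fun w => ((g : GL (Fin 4) (ZMod 2)) : Matrix (Fin 4) (Fin 4) (ZMod 2)) *ᵥ w
      invFun := fun w => ((g⁻¹ : GL (Fin 4) (ZMod 2)) : Matrix (Fin 4) (Fin 4) (ZMod 2)) *ᵥ w
      left_inv := fun w => by
        show ((g⁻¹ : GL (Fin 4) (ZMod 2)) : Matrix (Fin 4) (Fin 4) (ZMod 2)) *ᵥ
          (((g : GL (Fin 4) (ZMod 2)) : Matrix (Fin 4) (Fin 4) (ZMod 2)) *ᵥ w) = w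
        rw [Matrix.mulVec_mulVec, ← Units.val_mul, inv_mul_cancel, Units.val_one, Matrix.one_mulVec]
      right_inv := fun w => by
        show ((g : GL (Fin 4) (ZMod 2)) : Matrix (Fin 4) (Fin 4) (ZMod 2)) *ᵥ
          (((g⁻¹ : GL (Fin 4) (ZMod 2)) : Matrix (Fin 4) (Fin 4) (ZMod 2)) *ᵥ w) = w
        rw [Matrix.mulVec_mulVec, ← Units.val_mul, mul_inv_cancel, Units.val_one, Matrix.one_mulVec] }
  map_one' := by
    ext w : 1
    show ((1 : GL (Fin 4) (ZMod 2)) : Matrix (Fin 4) (Fin 4) (ZMod 2)) *ᵥ w = w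
    rw [Units.val_one, Matrix.one_mulVec]
  map_mul' := fun g h => by
    ext w : 1
    show ((g * h : GL (Fin 4) (ZMod 2)) : Matrix (Fin 4) (Fin 4) (ZMod 2)) *ᵥ w =
      ((g : GL (Fin 4) (ZMod 2)) : Matrix (Fin 4) (Fin 4) (ZMod 2)) *ᵥ
        (((h : GL (Fin 4) (ZMod 2)) : Matrix (Fin 4) (Fin 4) (ZMod 2)) *ᵥ w)
    rw [Matrix.mulVec_mulVec, ← Units.val_mul]

theorem x1344orb_sigV_apply (g : GL (Fin 4) (ZMod 2)) (w : Fin 4 → ZMod 2) :
    x1344orb_sigV g w = ((g : GL (Fin 4) (ZMod 2)) : Matrix (Fin 4) (Fin 4) (ZMod 2)) *ᵥ w := rfl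

theorem x1344orb_sigV_ne (g : GL (Fin 4) (ZMod 2)) (w : Fin 4 → ZMod 2) :
    x1344orb_sigV g w ≠ 0 ↔ w ≠ 0 := by
  have h0 : x1344orb_sigV g 0 = 0 := by rw [x1344orb_sigV_apply, Matrix.mulVec_zero]
  constructor
  · intro h hw
    exact h (by rw [hw, h0])
  · intro h hw
    exact h ((x1344orb_sigV g).injective (hw.trans h0.symm))

/-- the action of `GL₄(2)` on the non-zero column vectors -/
def x1344orb_sig : GL (Fin 4) (ZMod 2) →* Equiv.Perm {w : Fin 4 → ZMod 2 // w ≠ 0} where
  toFun g := (x1344orb_sigV g).subtypePerm (fun w => x1344orb_sigV_ne g w)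
  map_one' := by
    ext w : 2
    simp
  map_mul' := fun g h => by
    ext w : 2
    simp only [map_mul, Equiv.Perm.subtypePerm_apply, Equiv.Perm.coe_mul, Function.comp_apply]

/-- LEAF G42-X1344 (inside GL4(2), linear algebra), under a private name. -/
theorem x1344orb_main (H : Subgroup (GL (Fin 4) (ZMod 2))) (h : Nat.card H = 1344) :
    ¬ RadFree H := by
  let _ : MulAction H {w : Fin 4 → ZMod 2 // w ≠ 0} :=
    MulAction.compHom _ (x1344orb_sig.comp H.subtype)
  have hY : Fintype.card {w : Fin 4 → ZMod 2 // w ≠ 0} = 15 := by decide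
  rcases x1344orb_abs h hY with h1 | ⟨y, hy⟩
  · exact h1
  · refine x1344fix_main H h y.1 y.2 (fun g hg => ?_)
    have := congrArg Subtype.val (hy ⟨g, hg⟩)
    exact this

end Cfsg.Agent.Lib.Helper47.G42
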