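import Mathlib
import Cfsg.Prelude.Def_Sporadic_a
import Cfsg.Agent.Lib.Helper95.BigChain
import Cfsg.Agent.Lib.Helper95.BigEnum
import Cfsg.Agent.Lib.Helper95.BigSearch

set_option autoImplicit false

/-! Independent sets (arcs) of a set system: transport along bijections and enumeration by
bit masks. -/

namespace Cfsg.Agent.Lib.Helper95.Big

open Cfsg.Agent.Lib.Helper95.FinMask Cfsg.Agent.Lib.Helper95.ExactCover
open Cfsg.Agent.Lib.Helper26 (pc)
open scoped Pointwise

/-! ### the enumeration has no repetitions -/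

theorem lor_two_pow_inj {m x y : ℕ} (hx : x < 2 ^ m) (hy : y < 2 ^ m)
    (h : x ||| 2 ^ m = y ||| 2 ^ m) : x = y := by
  apply Nat.eq_of_testBit_eq
  intro j
  by_cases hj : j = m
  · rw [hj, testBit_of_lt_two_pow hx (le_refl _), testBit_of_lt_two_pow hy (le_refl _)]
  · have h1 := congrArg (fun z => z.testBit j) h
    simp only [Nat.testBit_lor, Nat.testBit_two_pow] at h1
    have h2 : decide (m = j) = false := by
      simp only [decide_eq_false_iff_not]
      exact fun h => hj h.symm
    rw [h2, Bool.or_false, Bool.or_false] at h1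
    exact h1

theorem nodup_dpL (blocks : List ℕ) (t K n : ℕ) (hn : n ≤ 24) : (dpL blocks t K n).Nodup := by
  induction n with
  | zero =>
    rw [dpL]
    exact List.nodup_singleton _
  | succ m ih =>
    have ihm := ih (by omega)
    have hlt : ∀ p ∈ dpL blocks t K m, p.2 < 2 ^ m := by
      rintro ⟨k, x⟩ hp
      exact ((mem_dpL blocks t K m (by omega) k x).mp hp).2.1
    rw [dpL]
    apply List.Nodup.append ihm
    · apply List.Nodup.filter
      apply List.Nodup.map_on _ (ihm.filter _)
      rintro ⟨k, x⟩ hp ⟨k', x'⟩ hp' heq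
      have hx := hlt _ (List.mem_of_mem_filter hp)
      have hx' := hlt _ (List.mem_of_mem_filter hp')
      simp only [Prod.mk.injEq, Nat.add_right_cancel_iff] at heq
      rw [Prod.mk.injEq]
      exact ⟨heq.1, lor_two_pow_inj hx hx' heq.2⟩
    · intro p hp hp'
      have h1 := hlt p hp
      obtain ⟨q, hq, rfl⟩ := List.mem_map.mp (List.mem_of_mem_filter hp')
      have h2 : 2 ^ m ≤ q.2 ||| 2 ^ m := Nat.right_le_or
      exact absurd h1 (by simpa using h2)

theorem nodup_rowOf (l : List (ℕ × ℕ)) (hl : l.Nodup) (k : ℕ) : (rowOf l k).Nodup := by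
  rw [rowOf]
  apply List.Nodup.filterMap _ hl
  rintro ⟨k1, x1⟩ ⟨k2, x2⟩ b h1 h2
  by_cases hk1 : k1 = k
  · by_cases hk2 : k2 = k
    · simp only [hk1, hk2, if_true, Option.mem_def, Option.some.injEq] at h1 h2
      rw [hk1, hk2, h1, h2]
    · simp [hk2] at h2
  · simp [hk1] at h1

/-! ### independent sets -/

section indep

variable {α β : Type*} [DecidableEq α] [DecidableEq β]

/-- a `K`-set meeting every member of `L` in at most two points -/
def Indep (L : Set (Finset α)) (K : ℕ) (S : Finset α) : Prop :=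
  S.card = K ∧ ∀ l ∈ L, (l ∩ S).card ≤ 2

theorem indep_image (e : α ≃ β) (L : Set (Finset α)) (K : ℕ) (S : Finset α) :
    Indep (imgSys e L) K (S.image e) ↔ Indep L K S := by
  unfold Indep
  rw [Finset.card_image_of_injective _ e.injective]
  constructor
  · rintro ⟨h1, h2⟩
    refine ⟨h1, fun l hl => ?_⟩
    have := h2 (l.image e) ⟨l, hl, rfl⟩
    rwa [← Finset.image_inter _ _ e.injective,
      Finset.card_image_of_injective _ e.injective] at this
  · rintro ⟨h1, h2⟩
    refine ⟨h1, ?_⟩
    rintro _ ⟨l, hl, rfl⟩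
    show ((l.image e) ∩ (S.image e)).card ≤ 2
    rw [← Finset.image_inter _ _ e.injective, Finset.card_image_of_injective _ e.injective]
    exact h2 l hl

theorem image_symm_image (e : α ≃ β) (T : Finset β) : (T.image e.symm).image e = T := by
  rw [Finset.image_image]
  have : (e ∘ e.symm : β → β) = id := by
    funext b
    simp
  rw [this, Finset.image_id]

theorem setOf_indep_image (e : α ≃ β) (L : Set (Finset α)) (K : ℕ) :
    {T | Indep (imgSys e L) K T} = (fun S : Finset α => S.image e) '' {S | Indep L K S} := by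
  ext T
  constructor
  · intro hT
    refine ⟨T.image e.symm, ?_, image_symm_image e T⟩
    show Indep L K (T.image e.symm)
    rw [← indep_image e, image_symm_image]
    exact hT
  · rintro ⟨S, hS, rfl⟩
    exact (indep_image e L K S).mpr hS

theorem ncard_indep_image (e : α ≃ β) (L : Set (Finset α)) (K : ℕ) :
    {T | Indep (imgSys e L) K T}.ncard = {S | Indep L K S}.ncard := by
  rw [setOf_indep_image, Set.ncard_image_of_injective _ (Finset.image_injective e.injective)]

/-- the statement on arcs and hyperovals -/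
def ArcStmt (L : Set (Finset α)) : Prop :=
  {S : Finset α | Indep L 4 S}.ncard = 2520 ∧ {H : Finset α | Indep L 6 H}.ncard = 168 ∧
    ∀ S : Finset α, Indep L 4 S → ∃! H : Finset α, Indep L 6 H ∧ S ⊆ H

theorem arcStmt_of_image (e : α ≃ β) (L : Set (Finset α)) (h : ArcStmt (imgSys e L)) :
    ArcStmt L := by
  obtain ⟨h1, h2, h3⟩ := h
  refine ⟨by rw [← ncard_indep_image e, h1], by rw [← ncard_indep_image e, h2], ?_⟩
  intro S hS
  obtain ⟨T, ⟨hT1, hT2⟩, hT3⟩ := h3 (S.image e) ((indep_image e L 4 S).mpr hS)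
  refine ⟨T.image e.symm, ⟨?_, ?_⟩, ?_⟩
  · rw [← indep_image e, image_symm_image]
    exact hT1
  · intro a ha
    rw [Finset.mem_image]
    exact ⟨e a, hT2 (Finset.mem_image_of_mem e ha), e.symm_apply_apply a⟩
  · rintro H ⟨hH1, hH2⟩
    have := hT3 (H.image e) ⟨(indep_image e L 6 H).mpr hH1, Finset.image_subset_image hH2⟩
    rw [← this, Finset.image_image]
    have h4 : (e.symm ∘ e : α → α) = id := by
      funext a
      simp
    rw [h4, Finset.image_id]

end indep

/-! ### independent sets by masks -/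

section masks

variable {N : ℕ}

theorem indep_iff_mem_row (hN : N ≤ 24) (X : Set (Finset (Fin N))) (blocks : List ℕ)
    (hX : enc '' X = {m | m ∈ blocks}) (K K' : ℕ) (hK : K ≤ K') (S : Finset (Fin N)) :
    Indep X K S ↔ enc S ∈ rowOf (dpL blocks 2 K' N) K := by
  have memB : ∀ s, s ∈ blocks ↔ ∃ d ∈ X, enc d = s := by
    intro s
    have : s ∈ enc '' X ↔ s ∈ {m | m ∈ blocks} := by rw [hX]
    exact this.symm
  rw [mem_rowOf, mem_dpL _ _ _ _ hN]
  unfold Indep GoodMask
  constructor
  · rintro ⟨h1, h2⟩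
    refine ⟨hK, enc_lt S, ?_, ?_⟩
    · rw [← card_eq_pc' S hN, h1]
    · intro b hb
      obtain ⟨d, hd, rfl⟩ := (memB b).mp hb
      rw [pc_inter hN, Finset.inter_comm]
      exact h2 d hd
  · rintro ⟨-, -, h1, h2⟩
    refine ⟨?_, ?_⟩
    · rw [card_eq_pc' S hN, h1]
    · intro l hl
      have := h2 (enc l) ((memB _).mpr ⟨l, hl, rfl⟩)
      rwa [pc_inter hN, Finset.inter_comm] at this

theorem lt_of_mem_row (hN : N ≤ 24) (blocks : List ℕ) (t K' K m : ℕ)
    (hm : m ∈ rowOf (dpL blocks t K' N) K) : m < 2 ^ N := by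
  rw [mem_rowOf, mem_dpL _ _ _ _ hN] at hm
  exact hm.2.1

theorem ncard_indep (hN : N ≤ 24) (X : Set (Finset (Fin N))) (blocks : List ℕ)
    (hX : enc '' X = {m | m ∈ blocks}) (K K' : ℕ) (hK : K ≤ K') :
    {S : Finset (Fin N) | Indep X K S}.ncard = (rowOf (dpL blocks 2 K' N) K).length := by
  have h1 : enc '' {S : Finset (Fin N) | Indep X K S} =
      ((rowOf (dpL blocks 2 K' N) K).toFinset : Set ℕ) := by
    ext m
    rw [List.coe_toFinset]
    constructor
    · rintro ⟨S, hS, rfl⟩
      exact (indep_iff_mem_row hN X blocks hX K K' hK S).mp hS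
    · intro hm
      have hm' : m ∈ rowOf (dpL blocks 2 K' N) K := hm
      have hlt := lt_of_mem_row hN blocks 2 K' K m hm'
      refine ⟨dec N m, ?_, enc_dec hlt⟩
      show Indep X K (dec N m)
      rw [indep_iff_mem_row hN X blocks hX K K' hK, enc_dec hlt]
      exact hm'
  rw [← Set.ncard_image_of_injective _ enc_injective, h1, Set.ncard_coe_finset,
    List.toFinset_card_of_nodup (nodup_rowOf _ (nodup_dpL blocks 2 K' N hN) K)]

/-- the check that every independent 4-set lies in exactly one independent 6-set -/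
def uniqChk (dp : List (ℕ × ℕ)) : Bool :=
  (rowOf dp 4).all (fun s => ((rowOf dp 6).filter (fun h => coversF h s)).length == 1)

theorem existsUnique_hyper (hN : N ≤ 24) (X : Set (Finset (Fin N))) (blocks : List ℕ)
    (hX : enc '' X = {m | m ∈ blocks}) (hchk : uniqChk (dpL blocks 2 6 N) = true)
    (S : Finset (Fin N)) (hS : Indep X 4 S) :
    ∃! H : Finset (Fin N), Indep X 6 H ∧ S ⊆ H := by
  have hs := (indep_iff_mem_row hN X blocks hX 4 6 (by norm_num) S).mp hS
  rw [uniqChk, List.all_eq_true] at hchk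
  have h1 := hchk _ hs
  rw [beq_iff_eq, List.length_eq_one_iff] at h1
  obtain ⟨h, hh⟩ := h1
  have hmem : ∀ x, (x ∈ rowOf (dpL blocks 2 6 N) 6 ∧ covers x (enc S) = true) ↔ x = h := by
    intro x
    have : x ∈ (rowOf (dpL blocks 2 6 N) 6).filter (fun h => coversF h (enc S)) ↔ x ∈ [h] := by
      rw [hh]
    rw [List.mem_filter, List.mem_singleton, coversF_eq] at this
    exact this
  obtain ⟨hh1, hh2⟩ := (hmem h).mpr rfl
  have hlt := lt_of_mem_row hN blocks 2 6 6 h hh1
  refine ⟨dec N h, ⟨?_, ?_⟩, ?_⟩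
  · rw [indep_iff_mem_row hN X blocks hX 6 6 (le_refl _), enc_dec hlt]
    exact hh1
  · rw [← covers_enc, enc_dec hlt]
    exact hh2
  · rintro H ⟨hH1, hH2⟩
    have h2 := (indep_iff_mem_row hN X blocks hX 6 6 (le_refl _) H).mp hH1
    have h3 : covers (enc H) (enc S) = true := (covers_enc H S).mpr hH2
    have h4 := (hmem (enc H)).mp ⟨h2, h3⟩
    rw [← h4, dec_enc]

end masks

end Cfsg.Agent.Lib.Helper95.Big
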