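import Mathlib
import Cfsg.Agent.Lib.Helper95.Hyper
import Cfsg.Agent.Lib.Helper95.HyperData
import Cfsg.Agent.Lib.Helper95.BigData
import Cfsg.Agent.Lib.Helper95.BigTab

set_option autoImplicit false

/-! Kernel-checked facts on the arcs and hyperovals of the standard projective plane of order 4. -/

namespace Cfsg.Agent.Lib.Helper95.Big

open Cfsg.Agent.Lib.Helper26 (pc)

/-- the counts of independent sets and the uniqueness of the hyperoval through a 4-arc -/
def arcChk (dp : List (ℕ × ℕ)) : Bool :=
  (rowOf dp 4).length == 2520 && (rowOf dp 6).length == 168 && uniqChk dp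

theorem arcChk_lvl2 : arcChk (dpL lvl2 2 6 21) = true := by decide +kernel

/-- a table pair is an automorphism of the block list -/
def autTab (n : ℕ) (S : List ℕ) (tab : List ℕ × List ℕ) : Bool :=
  tabOk n tab.1 tab.2 && S.all (fun s => S.contains (applyTab n tab.2 s)) &&
    S.all (fun s => S.contains (applyTab n tab.1 s))

/-- every hyperoval is carried to the standard one by one of the tables -/
def hypChk (dp : List (ℕ × ℕ)) : Bool :=
  hypTabs.all (autTab 21 lvl2) &&
    (rowOf dp 6).all (fun h => hypTabs.any (fun tab => applyTab 21 tab.2 h == hyp0))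

theorem hypChk_lvl2 : hypChk (dpL lvl2 2 6 21) = true := by decide +kernel

/-- every transposition of the standard hyperoval is induced by one of the tables -/
def swapChk : Bool :=
  hyp0Pts.all (fun x => hyp0Pts.all (fun y => x == y ||
    swapTabs.any (fun s => s.1 == x && s.2.1 == y && autTab 21 lvl2 (s.2.2.1, s.2.2.2) &&
      hyp0Pts.all (fun p =>
        tabFun 21 s.2.2.1 p == (if p = x then y else if p = y then x else p)))))

theorem swapChk_true : swapChk = true := by decide +kernel

/-- every point outside the standard hyperoval is the meet of two secants -/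
def secChk : Bool :=
  (List.range 21).all (fun P => hyp0.testBit P ||
    secants.any (fun s => s.1 == P && lvl2.contains s.2.1 && lvl2.contains s.2.2 &&
      (s.2.1 &&& s.2.2 == 2 ^ P) && (pc 24 (s.2.1 &&& hyp0) == 2) &&
      (pc 24 (s.2.2 &&& hyp0) == 2)))

theorem secChk_true : secChk = true := by decide +kernel

theorem lvl2_lt : ∀ m ∈ lvl2, m < 2 ^ 21 := by decide +kernel

theorem hyp0_lt : hyp0 < 2 ^ 21 := by decide +kernel

theorem mem_hyp0Pts : ∀ x : Fin 21, hyp0.testBit x.val = true ↔ x.val ∈ hyp0Pts := by
  decide +kernel

end Cfsg.Agent.Lib.Helper95.Big
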