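import Mathlib
import Cfsg.Agent.Lib.Helper95.HyperCheck
import Cfsg.Agent.Lib.Helper95.BigNorm

set_option autoImplicit false

/-! Arcs and hyperovals of every projective plane of order 4. -/

namespace Cfsg.Agent.Lib.Helper95.Big

open Cfsg.Agent.Lib.Helper95.FinMask Cfsg.Agent.Lib.Helper95.ExactCover
open scoped Pointwise

theorem enc_image_setOf {N : ℕ} (S : List ℕ) (hS : ∀ m ∈ S, m < 2 ^ N) :
    enc '' {b : Finset (Fin N) | enc b ∈ S} = {m | m ∈ S} := by
  ext m
  constructor
  · rintro ⟨b, hb, rfl⟩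
    exact hb
  · intro hm
    have hm' : m ∈ S := hm
    refine ⟨dec N m, ?_, enc_dec (hS m hm')⟩
    show enc (dec N m) ∈ S
    rw [enc_dec (hS m hm')]
    exact hm'

theorem enc_image_std21 : enc '' Std21 = {m | m ∈ lvl2} := enc_image_setOf lvl2 lvl2_lt

theorem arcStmt_std21 : ArcStmt Std21 := by
  have h := arcChk_lvl2
  simp only [arcChk, Bool.and_eq_true, beq_iff_eq] at h
  obtain ⟨⟨h1, h2⟩, h3⟩ := h
  refine ⟨?_, ?_, ?_⟩
  · rw [ncard_indep (by norm_num) Std21 lvl2 enc_image_std21 4 6 (by norm_num), h1]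
  · rw [ncard_indep (by norm_num) Std21 lvl2 enc_image_std21 6 6 (by norm_num), h2]
  · exact existsUnique_hyper (by norm_num) Std21 lvl2 enc_image_std21 h3

/-- every projective plane of order 4 is carried to the standard one by a bijection -/
theorem exists_equiv_std21 {α : Type*} [Fintype α] [DecidableEq α] (hα : Fintype.card α = 21)
    (L : Set (Finset α)) (hL : Cfsg.IsSteinerSystem 2 5 L) :
    ∃ e : α ≃ Fin 21, imgSys e L = Std21 := by
  obtain ⟨τ, hτ⟩ := norm21 _ (steiner_imgSys (Fintype.equivFinOfCardEq hα) hL)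
  refine ⟨(Fintype.equivFinOfCardEq hα).trans τ, ?_⟩
  rw [imgSys_trans, ← smul_eq_imgSys]
  exact hτ

theorem arcStmt {α : Type*} [Fintype α] [DecidableEq α] (hα : Fintype.card α = 21)
    (L : Set (Finset α)) (hL : Cfsg.IsSteinerSystem 2 5 L) : ArcStmt L := by
  obtain ⟨e, he⟩ := exists_equiv_std21 hα L hL
  apply arcStmt_of_image e L
  rw [he]
  exact arcStmt_std21

end Cfsg.Agent.Lib.Helper95.Big
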