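import Mathlib
import Cfsg.Agent.Lib.Helper95.HyperStd
import Cfsg.Agent.Lib.Helper95.BigAut

set_option autoImplicit false

/-! The stabiliser of a hyperoval of a projective plane of order 4 induces the full symmetric
group on it, faithfully. -/

namespace Cfsg.Agent.Lib.Helper95.Big

open Cfsg.Agent.Lib.Helper95.FinMask Cfsg.Agent.Lib.Helper95.ExactCover
open Cfsg.Agent.Lib.Helper26 (pc)
open scoped Pointwise
open MulAction

/-- the standard hyperoval -/
def Hyp0 : Finset (Fin 21) := dec 21 hyp0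

theorem mem_Hyp0 (x : Fin 21) : x ∈ Hyp0 ↔ x.val ∈ hyp0Pts := by
  rw [Hyp0, mem_dec]
  exact mem_hyp0Pts x

theorem enc_Hyp0 : enc Hyp0 = hyp0 := enc_dec hyp0_lt

/-- table automorphisms of the standard plane -/
theorem tabPerm_mem_aut (tab : List ℕ × List ℕ) (h : autTab 21 lvl2 tab = true) :
    ∃ hok : tabOk 21 tab.1 tab.2 = true,
      tabPerm (N := 21) 21 tab.1 tab.2 hok (le_refl _) ∈ Cfsg.setSystemAut Std21 := by
  simp only [autTab, Bool.and_eq_true, List.all_eq_true, List.contains_eq_mem,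
    decide_eq_true_eq] at h
  obtain ⟨⟨hok, h1⟩, h2⟩ := h
  refine ⟨hok, ?_⟩
  rw [mem_stabilizer_iff]
  have h3 := enc_image_smul_tab 21 tab.1 tab.2 hok (le_refl _) (by norm_num) Std21 lvl2 lvl2
    enc_image_std21 h1 h2 lvl2_lt
  exact enc_injective.image_injective (h3.trans enc_image_std21.symm)

/-- the automorphism group of the standard plane is transitive on hyperovals -/
theorem exists_aut_hyp0 (H : Finset (Fin 21)) (hH : Indep Std21 6 H) :
    ∃ g ∈ Cfsg.setSystemAut Std21, g • H = Hyp0 := by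
  have hrow := (indep_iff_mem_row (by norm_num) Std21 lvl2 enc_image_std21 6 6 (le_refl _) H).mp hH
  have hchk := hypChk_lvl2
  simp only [hypChk, Bool.and_eq_true, List.all_eq_true, List.any_eq_true, beq_iff_eq] at hchk
  obtain ⟨hall, hrows⟩ := hchk
  obtain ⟨tab, htab, happ⟩ := hrows _ hrow
  obtain ⟨hok, hmem⟩ := tabPerm_mem_aut tab (hall tab htab)
  refine ⟨_, hmem, ?_⟩
  apply enc_injective
  rw [enc_smul_tabPerm 21 tab.1 tab.2 hok (le_refl _) (by norm_num), happ, enc_Hyp0]

/-- transposition automorphisms -/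
theorem exists_swap_aut (x y : ↥Hyp0) (hxy : x ≠ y) :
    ∃ g ∈ Cfsg.setSystemAut Std21,
      ∀ p : ↥Hyp0, g (p : Fin 21) = ((Equiv.swap x y) p : ↥Hyp0) := by
  have hx := (mem_Hyp0 x.1).mp x.2
  have hy := (mem_Hyp0 y.1).mp y.2
  have hchk := swapChk_true
  simp only [swapChk, Bool.and_eq_true, Bool.or_eq_true, List.all_eq_true, List.any_eq_true,
    beq_iff_eq] at hchk
  rcases hchk _ hx _ hy with h | ⟨s, hs, ⟨⟨⟨h1, h2⟩, h3⟩, h4⟩⟩
  · exact absurd (Subtype.ext (Fin.ext h)) hxy
  · obtain ⟨hok, hmem⟩ := tabPerm_mem_aut (s.2.2.1, s.2.2.2) h3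
    refine ⟨_, hmem, ?_⟩
    intro p
    apply Fin.ext
    rw [tabPerm_apply]
    have hp := (mem_Hyp0 p.1).mp p.2
    have h5 := h4 _ hp
    rw [h5, Equiv.swap_apply_def]
    by_cases hpx : p = x
    · rw [if_pos hpx, if_pos (by rw [hpx])]
    · have hpx' : ¬ (p.1.val = x.1.val) := fun h => hpx (Subtype.ext (Fin.ext h))
      rw [if_neg hpx, if_neg hpx']
      by_cases hpy : p = y
      · rw [if_pos hpy, if_pos (by rw [hpy])]
      · have hpy' : ¬ (p.1.val = y.1.val) := fun h => hpy (Subtype.ext (Fin.ext h))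
        rw [if_neg hpy, if_neg hpy']

/-- every permutation of the standard hyperoval is induced by an automorphism -/
theorem ext_std (σ : Equiv.Perm ↥Hyp0) :
    ∃ g ∈ Cfsg.setSystemAut Std21, ∀ p : ↥Hyp0, g (p : Fin 21) = (σ p : ↥Hyp0) := by
  refine Equiv.Perm.swap_induction_on σ ?_ ?_
  · exact ⟨1, Subgroup.one_mem _, fun p => rfl⟩
  · intro f x y hxy ih
    obtain ⟨g1, hg1, h1⟩ := ih
    obtain ⟨g2, hg2, h2⟩ := exists_swap_aut x y hxy
    refine ⟨g2 * g1, Subgroup.mul_mem _ hg2 hg1, fun p => ?_⟩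
    rw [Equiv.Perm.mul_apply, h1 p, h2 (f p), Equiv.Perm.mul_apply]

/-- an automorphism fixing the standard hyperoval pointwise is trivial -/
theorem rigid_std (hStd : Cfsg.IsSteinerSystem 2 5 Std21) (g : Equiv.Perm (Fin 21))
    (hg : g ∈ Cfsg.setSystemAut Std21) (hfix : ∀ p ∈ Hyp0, g p = p) : g = 1 := by
  have hgS : g • Std21 = Std21 := mem_stabilizer_iff.mp hg
  have hline : ∀ l ∈ lvl2, pc 24 (l &&& hyp0) = 2 → g • dec 21 l = dec 21 l := by
    intro l hl hpc
    have hlt := lvl2_lt l hl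
    have hb : dec 21 l ∈ Std21 := by
      show enc (dec 21 l) ∈ lvl2
      rw [enc_dec hlt]
      exact hl
    have hcard : (dec 21 l ∩ Hyp0).card = 2 := by
      rw [← pc_inter (by norm_num), enc_dec hlt, enc_Hyp0]
      exact hpc
    obtain ⟨a, c, hac, hs⟩ := Finset.card_eq_two.mp hcard
    have ha : a ∈ dec 21 l ∩ Hyp0 := by rw [hs]; simp
    have hc : c ∈ dec 21 l ∩ Hyp0 := by rw [hs]; simp
    rw [Finset.mem_inter] at ha hc
    have hsc : ({a, c} : Finset (Fin 21)).card = 2 := Finset.card_pair hac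
    obtain ⟨b0, -, huniq⟩ := hStd.2 {a, c} hsc
    have h1 : dec 21 l = b0 := by
      apply huniq _ ⟨hb, ?_⟩
      intro z hz
      simp only [Finset.mem_insert, Finset.mem_singleton] at hz
      rcases hz with rfl | rfl
      · exact ha.1
      · exact hc.1
    have h2 : g • dec 21 l = b0 := by
      apply huniq _ ⟨?_, ?_⟩
      · rw [← hgS]
        exact Set.smul_mem_smul_set hb
      · intro z hz
        simp only [Finset.mem_insert, Finset.mem_singleton] at hz
        rcases hz with rfl | rfl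
        · have := Finset.smul_mem_smul_finset (a := g) ha.1
          rwa [Equiv.Perm.smul_def, hfix _ ha.2] at this
        · have := Finset.smul_mem_smul_finset (a := g) hc.1
          rwa [Equiv.Perm.smul_def, hfix _ hc.2] at this
    rw [h2, h1]
  apply Equiv.ext
  intro P
  show g P = P
  by_cases hP : P ∈ Hyp0
  · exact hfix P hP
  · have hchk := secChk_true
    simp only [secChk, Bool.and_eq_true, Bool.or_eq_true, List.all_eq_true, List.any_eq_true,
      beq_iff_eq, List.contains_eq_mem, decide_eq_true_eq, List.mem_range] at hchk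
    have hPb : ¬ (hyp0.testBit P.val = true) := by
      rw [Hyp0, mem_dec] at hP
      exact hP
    rcases hchk P.val P.isLt with h | ⟨s, hs, ⟨⟨⟨⟨⟨h1, h2⟩, h3⟩, h4⟩, h5⟩, h6⟩⟩
    · exact absurd h hPb
    · have hl1 := hline _ h2 h5
      have hl2 := hline _ h3 h6
      have hbit : ∀ z : ℕ, (s.2.1.testBit z = true ∧ s.2.2.testBit z = true) ↔ z = P.val := by
        intro z
        have h7 := congrArg (fun w => w.testBit z) h4
        simp only [Nat.testBit_land, Nat.testBit_two_pow] at h7
        constructor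
        · rintro ⟨ha, hb⟩
          rw [ha, hb] at h7
          have h9 : decide (P.val = z) = true := h7.symm
          exact (of_decide_eq_true h9).symm
        · intro hz
          have h8 : decide (P.val = z) = true := by simp [hz]
          rw [h8] at h7
          simpa using h7
      have hP1 := (hbit P.val).mpr rfl
      have hg1 : g P ∈ dec 21 s.2.1 := by
        rw [← hl1]
        have := Finset.smul_mem_smul_finset (a := g) (mem_dec.mpr hP1.1)
        rwa [Equiv.Perm.smul_def] at this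
      have hg2 : g P ∈ dec 21 s.2.2 := by
        rw [← hl2]
        have := Finset.smul_mem_smul_finset (a := g) (mem_dec.mpr hP1.2)
        rwa [Equiv.Perm.smul_def] at this
      exact Fin.ext ((hbit _).mp ⟨mem_dec.mp hg1, mem_dec.mp hg2⟩)

/-- every permutation of a hyperoval of a projective plane of order 4 is the restriction of
exactly one automorphism of the plane -/
theorem hyperoval_ext {α : Type*} [Fintype α] [DecidableEq α] (hα : Fintype.card α = 21)
    (L : Set (Finset α)) (hL : Cfsg.IsSteinerSystem 2 5 L) (H : Finset α) (hH : Indep L 6 H)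
    (σ : Equiv.Perm ↥H) :
    ∃! g : Equiv.Perm α, g ∈ Cfsg.setSystemAut L ∧ ∀ p : ↥H, g p = σ p := by
  obtain ⟨e1, he1⟩ := exists_equiv_std21 hα L hL
  have hH1 : Indep Std21 6 (H.image e1) := by
    rw [← he1]
    exact (indep_image e1 L 6 H).mpr hH
  obtain ⟨t, ht, htH⟩ := exists_aut_hyp0 _ hH1
  obtain ⟨e, hedef⟩ : ∃ e : α ≃ Fin 21, e = e1.trans t := ⟨_, rfl⟩
  have he : imgSys e L = Std21 := by
    rw [hedef, imgSys_trans, he1, ← smul_eq_imgSys]
    exact mem_stabilizer_iff.mp ht
  have heH : H.image e = Hyp0 := by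
    rw [← htH, hedef, Equiv.coe_trans, ← Finset.image_image]
    rfl
  have hmemH : ∀ a, a ∈ H ↔ e a ∈ Hyp0 := by
    intro a
    rw [← heH, Finset.mem_image]
    constructor
    · intro h
      exact ⟨a, h, rfl⟩
    · rintro ⟨b, hb, hbe⟩
      rwa [← e.injective hbe]
  have hStd : Cfsg.IsSteinerSystem 2 5 Std21 := by
    rw [← he]
    exact steiner_imgSys e hL
  -- rigidity
  have hrigid : ∀ k : Equiv.Perm α, k ∈ Cfsg.setSystemAut L → (∀ p ∈ H, k p = p) → k = 1 := by
    intro k hk hfix
    have hk' : ((e.symm.trans k).trans e : Equiv.Perm (Fin 21)) ∈ Cfsg.setSystemAut Std21 := by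
      rw [← he]
      exact conj_mem e L k hk
    have hfix' : ∀ q ∈ Hyp0, ((e.symm.trans k).trans e : Equiv.Perm (Fin 21)) q = q := by
      intro q hq
      show e (k (e.symm q)) = q
      have : e.symm q ∈ H := by
        rw [hmemH, Equiv.apply_symm_apply]
        exact hq
      rw [hfix _ this, Equiv.apply_symm_apply]
    have h1 := rigid_std hStd _ hk' hfix'
    apply Equiv.ext
    intro a
    have h2 := DFunLike.congr_fun h1 (e a)
    have h3 : e (k (e.symm (e a))) = e a := h2
    rw [Equiv.symm_apply_apply] at h3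
    exact e.injective h3
  -- existence
  obtain ⟨g', hg', hg'σ⟩ := ext_std (((e.subtypeEquiv hmemH).symm.trans σ).trans
    (e.subtypeEquiv hmemH))
  have hg'2 : g' ∈ Cfsg.setSystemAut (imgSys e L) := by
    rw [he]
    exact hg'
  have hgσ : ∀ p : ↥H, ((e.trans g').trans e.symm : Equiv.Perm α) p = σ p := by
    intro p
    show e.symm (g' (e p)) = σ p
    have h1 := hg'σ ((e.subtypeEquiv hmemH) p)
    rw [Equiv.symm_apply_eq]
    simpa using h1
  refine ⟨(e.trans g').trans e.symm, ⟨conj_mem' e L g' hg'2, hgσ⟩, ?_⟩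
  rintro g2 ⟨hg2, hg2σ⟩
  have hk : ((e.trans g').trans e.symm : Equiv.Perm α)⁻¹ * g2 ∈ Cfsg.setSystemAut L :=
    Subgroup.mul_mem _ (Subgroup.inv_mem _ (conj_mem' e L g' hg'2)) hg2
  have h1 := hrigid _ hk (by
    intro p hp
    rw [Equiv.Perm.mul_apply, Equiv.Perm.inv_eq_iff_eq]
    exact (hg2σ ⟨p, hp⟩).trans (hgσ ⟨p, hp⟩).symm)
  rw [inv_mul_eq_one] at h1
  exact h1.symm

end Cfsg.Agent.Lib.Helper95.Big
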