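import Mathlib
import Cfsg.Agent.Lib.Helper71.LbA1Defs

/-! # Lb hive (S1301, helper22), LB-A1 sub-hive (helper71): sub-leaf A1-S4 `lba1_step4` (helper95) -/

set_option autoImplicit false

namespace Cfsg.Agent.Lib.Helper22.Lb

open Subgroup

section lba1

variable {H : Type*} [Group H] [Finite H]

/-- a subgroup conjugated into another one is not bigger -/
theorem lba1s4_card_le (A B : Subgroup H) (x : H) (h : ∀ a ∈ A, x⁻¹ * a * x ∈ B) :
    Nat.card A ≤ Nat.card B := by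
  apply Nat.card_le_card_of_injective (fun a : A => (⟨x⁻¹ * a.1 * x, h a.1 a.2⟩ : B))
  intro a b hab
  have h1 : x⁻¹ * a.1 * x = x⁻¹ * b.1 * x := congrArg Subtype.val hab
  apply Subtype.ext
  have h2 : a.1 = x * (x⁻¹ * a.1 * x) * x⁻¹ := by group
  have h3 : b.1 = x * (x⁻¹ * b.1 * x) * x⁻¹ := by group
  rw [h2, h1, ← h3]

/-- an element centralizing `D` normalizes `D` -/
theorem lba1s4_mem_normalizer (D : Subgroup H) (x : H) (hx : ∀ d ∈ D, x * d = d * x) :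
    x ∈ normalizer (D : Set H) := by
  rw [Subgroup.mem_normalizer_iff]
  intro d
  constructor
  · intro hd
    have : x * d * x⁻¹ = d := by rw [hx d hd]; group
    rw [this]; exact hd
  · intro hd
    have h1 := hx _ hd
    have h3 : d = x * d * x⁻¹ := by
      calc d = x⁻¹ * ((x * d * x⁻¹) * x) := by group
        _ = x⁻¹ * (x * (x * d * x⁻¹)) := by rw [h1]
        _ = x * d * x⁻¹ := by group
    rw [h3]; exact hd

/-- Sublemma 3': a 2-subgroup `A` of order `> m` centralizing the conjugate `w` of `u`, conjugated into `P` by `x`,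
forces `x⁻¹ w x = u`. -/
theorem lba1s4_sub3 {K P R : Subgroup H} {u : H} (v : H)
    (hmax : ∀ w ∈ P, (∃ g : H, g * u * g⁻¹ = w) → w ≠ u →
      Nat.card ↥(P ⊓ centralizer ({w} : Set H)) ≤ Nat.card ↥(P ⊓ centralizer ({v} : Set H)))
    (A : Subgroup H) (hA : Nat.card ↥(P ⊓ centralizer ({v} : Set H)) < Nat.card A)
    (w : H) (hw : ∃ g : H, g * u * g⁻¹ = w) (hAw : ∀ a ∈ A, a * w = w * a)
    (x : H) (hAx : ∀ a ∈ A, x⁻¹ * a * x ∈ P) (hwx : x⁻¹ * w * x ∈ P) :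
    x⁻¹ * w * x = u := by
  by_contra hne
  obtain ⟨g, hg⟩ := hw
  have h1 := hmax (x⁻¹ * w * x) hwx ⟨x⁻¹ * g, by rw [← hg]; group⟩ hne
  have h2 : Nat.card A ≤ Nat.card ↥(P ⊓ centralizer ({x⁻¹ * w * x} : Set H)) := by
    apply lba1s4_card_le A _ x
    intro a ha
    refine ⟨hAx a ha, mem_centralizer_singleton_iff.2 ?_⟩
    have h3 := hAw a ha
    calc x⁻¹ * a * x * (x⁻¹ * w * x) = x⁻¹ * (a * w) * x := by group
      _ = x⁻¹ * (w * a) * x := by rw [h3]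
      _ = x⁻¹ * w * x * (x⁻¹ * a * x) := by group
  omega

/-- SUB-LEAF A1-S4 (Sublemma 3' + Step 4). -/
theorem lba1_step4 {K P R : Subgroup H} [K.Normal] {u : H} (hyp : lba1_Hyp K P R u)
    (v : H) (hvP : v ∈ P) (hvu : v ≠ u)
    (hmax : ∀ w ∈ P, (∃ g : H, g * u * g⁻¹ = w) → w ≠ u →
      Nat.card ↥(P ⊓ centralizer ({w} : Set H)) ≤ Nat.card ↥(P ⊓ centralizer ({v} : Set H)))
    (g : H) (hg : g * u * g⁻¹ = v)
    (hD1g : ∀ d ∈ P ⊓ centralizer ({v} : Set H), g⁻¹ * d * g ∈ P)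
    (hA : Nat.card ↥(P ⊓ centralizer ({v} : Set H)) <
        Nat.card ↥(P ⊓ normalizer ((R ⊓ centralizer ({v} : Set H) : Subgroup H) : Set H)))
    (hA1 : Nat.card ↥(P ⊓ centralizer ({v} : Set H)) <
        Nat.card ↥(P.map (MulAut.conj g).toMonoidHom ⊓
          normalizer ((R ⊓ centralizer ({v} : Set H) : Subgroup H) : Set H))) :
    ∃ (S : Subgroup H) (h n : H),
      P ⊓ normalizer ((R ⊓ centralizer ({v} : Set H) : Subgroup H) : Set H) ≤ S ∧
      S ≤ normalizer ((R ⊓ centralizer ({v} : Set H) : Subgroup H) : Set H) ∧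
      (∀ B : Subgroup H, B ≤ normalizer ((R ⊓ centralizer ({v} : Set H) : Subgroup H) : Set H) →
        IsPGroup 2 B → ∃ n' ∈ normalizer ((R ⊓ centralizer ({v} : Set H) : Subgroup H) : Set H),
          ∀ b ∈ B, n'⁻¹ * b * n' ∈ S) ∧
      (∀ s ∈ S, h⁻¹ * s * h ∈ P) ∧ h * u * h⁻¹ = u ∧
      n ∈ normalizer ((R ⊓ centralizer ({v} : Set H) : Subgroup H) : Set H) ∧ n * u * n⁻¹ = v := by
  have : Fact (Nat.Prime 2) := ⟨Nat.prime_two⟩
  set N : Subgroup H := normalizer ((R ⊓ centralizer ({v} : Set H) : Subgroup H) : Set H) with hN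
  have hRP : R ≤ P := by rw [← hyp.hPK]; exact inf_le_left
  -- `u ∈ N`, `v ∈ N`
  have huN : u ∈ N := by
    rw [hN]
    apply lba1s4_mem_normalizer
    intro d hd
    exact (hyp.hcen d (hRP hd.1)).symm
  have hvN : v ∈ N := by
    rw [hN]
    apply lba1s4_mem_normalizer
    intro d hd
    exact (mem_centralizer_singleton_iff.1 hd.2).symm
  -- `S`
  obtain ⟨S, hAS, hSN, hS2, hSconj⟩ := lba1_sylow 2 N (P ⊓ N) inf_le_right (hyp.hP2.to_le inf_le_left)
  -- `h`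
  obtain ⟨S0, hPS0, -, hS02, hS0conj⟩ := lba1_sylow 2 (⊤ : Subgroup H) P le_top hyp.hP2
  have hS0P : S0 ≤ P := hyp.hPmax S0 hS02 hPS0
  obtain ⟨h, -, hh⟩ := hS0conj S le_top hS2
  have hSh : ∀ s ∈ S, h⁻¹ * s * h ∈ P := fun s hs => hS0P (hh s hs)
  -- `h` centralizes `u`
  have huS : u ∈ S := hAS ⟨hyp.huP, huN⟩
  have hhu' : h⁻¹ * u * h = u := by
    apply lba1s4_sub3 (K := K) (R := R) v hmax (P ⊓ N) hA u ⟨1, by group⟩
    · intro a ha
      exact hyp.hcen a ha.1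
    · intro a ha
      exact hSh a (hAS ha)
    · exact hSh u huS
  have hhu : h * u * h⁻¹ = u := by
    have : h * u * h⁻¹ = h * (h⁻¹ * u * h) * h⁻¹ := by rw [hhu']
    rw [this]; group
  -- `n`
  set P1 : Subgroup H := P.map (MulAut.conj g).toMonoidHom with hP1
  have hP12 : IsPGroup 2 P1 := hyp.hP2.map _
  obtain ⟨n0, hn0N, hn0⟩ := hSconj (P1 ⊓ N) inf_le_right (hP12.to_le inf_le_left)
  have hvP1 : v ∈ P1 := by
    rw [hP1, Subgroup.mem_map]
    exact ⟨u, hyp.huP, by rw [← hg]; rfl⟩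
  have hP1v : ∀ b ∈ P1, b * v = v * b := by
    intro b hb
    rw [hP1, Subgroup.mem_map] at hb
    obtain ⟨a, ha, rfl⟩ := hb
    have h1 := hyp.hcen a ha
    show g * a * g⁻¹ * v = v * (g * a * g⁻¹)
    rw [← hg]
    calc g * a * g⁻¹ * (g * u * g⁻¹) = g * (a * u) * g⁻¹ := by group
      _ = g * (u * a) * g⁻¹ := by rw [h1]
      _ = g * u * g⁻¹ * (g * a * g⁻¹) := by group
  have hkey : (n0 * h)⁻¹ * v * (n0 * h) = u := by
    apply lba1s4_sub3 (K := K) (R := R) v hmax (P1 ⊓ N) hA1 v ⟨g, hg⟩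
    · intro a ha
      exact hP1v a ha.1
    · intro a ha
      have := hSh _ (hn0 a ha)
      have e : (n0 * h)⁻¹ * a * (n0 * h) = h⁻¹ * (n0⁻¹ * a * n0) * h := by group
      rw [e]; exact this
    · have := hSh _ (hn0 v ⟨hvP1, hvN⟩)
      have e : (n0 * h)⁻¹ * v * (n0 * h) = h⁻¹ * (n0⁻¹ * v * n0) * h := by group
      rw [e]; exact this
  have hnu : n0 * u * n0⁻¹ = v := by
    have e1 : v = (n0 * h) * ((n0 * h)⁻¹ * v * (n0 * h)) * (n0 * h)⁻¹ := by group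
    rw [hkey] at e1
    have e2 : (n0 * h) * u * (n0 * h)⁻¹ = n0 * (h * u * h⁻¹) * n0⁻¹ := by group
    rw [e2, hhu] at e1
    exact e1.symm
  exact ⟨S, h, n0, hAS, hSN, hSconj, hSh, hhu, hn0N, hnu⟩

end lba1

end Cfsg.Agent.Lib.Helper22.Lb
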