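import Mathlib
import Cfsg.Agent.Lib.Helper27.GolayRank
import Cfsg.Agent.Lib.Helper26.Rigid
import Cfsg.Agent.Lib.Helper26.M24Order
import Cfsg.Agent.Lib.Helper26.OctadMeet
import Cfsg.Agent.Lib.Helper26.MaxTools
import Cfsg.Agent.Lib.Helper7.GolayChain

set_option autoImplicit false

/-! The stabiliser of an octad in `M24`: the pointwise stabiliser is regular of order 16 on the
complement, and the stabiliser induces the alternating group on the octad. -/

namespace Cfsg.Agent.Lib.Helper95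

open Cfsg Cfsg.Agent.Lib.Helper26
open scoped Pointwise

/-! ### the base octad -/

def octRigidSteps : List (ℕ × ℕ) :=
  [(185603, 351362), (95313, 210955), (95313, 421910), (5279, 57883), (5279, 75309),
   (5279, 63108), (10558, 18147), (10558, 133817), (10558, 15777), (18147, 36294),
   (18147, 21116), (36294, 39257), (525274, 530245), (1050548, 1053483), (2101096, 2106966)]

theorem octRigid_check : runSteps 13062147 octRigidSteps = 16777215 := by
  decide +kernel

theorem perm_inv_self (f : Equiv.Perm GolayPt) (x : GolayPt) : f⁻¹ (f x) = x :=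
  f.symm_apply_apply x

theorem perm_self_inv (f : Equiv.Perm GolayPt) (x : GolayPt) : f (f⁻¹ x) = x :=
  f.apply_symm_apply x

theorem base_rigid {g : Equiv.Perm GolayPt} (hg : g ∈ M24) (hfix : ∀ x ∈ dec oct0, g x = x)
    (hp : g (pt 1) = pt 1) : g = 1 := by
  refine rigid_cert 13062147 octRigidSteps octRigid_check hg ?_
  intro p hp'
  have h1 : (13062147 : ℕ) = oct0 ||| 2 ^ 1 := by decide
  rw [h1, dec_lor, Finset.mem_union, dec_two_pow 1 (by norm_num), Finset.mem_singleton] at hp'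
  rcases hp' with h | h
  · exact hfix p h
  · rw [h]; exact hp

def octKGens : List PermData :=
  [⟨[0, 8, 11, 4, 3, 13, 7, 6, 1, 19, 15, 2, 12, 5, 14, 10, 16, 17, 18, 9, 21, 20, 22, 23],
    [0, 8, 11, 4, 3, 13, 7, 6, 1, 19, 15, 2, 12, 5, 14, 10, 16, 17, 18, 9, 21, 20, 22, 23]⟩,
   ⟨[0, 10, 6, 20, 21, 19, 2, 11, 15, 13, 1, 7, 12, 9, 14, 8, 16, 17, 18, 5, 3, 4, 22, 23],
    [0, 10, 6, 20, 21, 19, 2, 11, 15, 13, 1, 7, 12, 9, 14, 8, 16, 17, 18, 5, 3, 4, 22, 23]⟩,
   ⟨[0, 9, 21, 7, 6, 15, 4, 3, 19, 1, 13, 20, 12, 10, 14, 5, 16, 17, 18, 8, 11, 2, 22, 23],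
    [0, 9, 21, 7, 6, 15, 4, 3, 19, 1, 13, 20, 12, 10, 14, 5, 16, 17, 18, 8, 11, 2, 22, 23]⟩,
   ⟨[0, 3, 5, 1, 8, 2, 19, 9, 4, 7, 20, 13, 12, 11, 14, 21, 16, 17, 18, 6, 10, 15, 22, 23],
    [0, 3, 5, 1, 8, 2, 19, 9, 4, 7, 20, 13, 12, 11, 14, 21, 16, 17, 18, 6, 10, 15, 22, 23]⟩]

def octPts : List ℕ := [0, 12, 14, 16, 17, 18, 22, 23]

theorem octKGens_mem :
    octKGens.all (fun d => Cfsg.Agent.Lib.Helper27.inStabK d octPts []) = true := by
  decide +kernel

def octKTargets : List ℕ :=
  [2, 4, 8, 16, 32, 64, 128, 256, 512, 1024, 2048, 8192, 32768, 524288, 1048576, 2097152]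

def octKWords : List (List ℕ) :=
  [[], [3, 2, 1, 0], [3], [3, 0], [2, 1, 0], [3, 2, 0], [3, 2], [0], [2], [1], [3, 2, 1], [2, 1],
   [1, 0], [2, 0], [3, 1], [3, 1, 0]]

theorem octKPaths : checkPaths octKGens (2 ^ 1) octKTargets octKWords = true := by
  decide +kernel

theorem base_trans (y : GolayPt) (hy : y ∉ dec oct0) :
    ∃ k ∈ M24, (∀ x ∈ dec oct0, k x = x) ∧ k (pt 1) = y := by
  have horb := Cfsg.Agent.Lib.Helper27.stabK_orbit_cert octKGens octPts [] octKGens_mem
    (2 ^ 1) octKTargets octKWords octKPaths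
  have hcomp := Cfsg.Agent.Lib.Helper27.point_orbit_compl
    (K := Cfsg.Agent.Lib.Helper27.stabK octPts []) (j₀ := 1) (by norm_num) (M := oct0)
    (tg := octKTargets) horb (by decide +kernel)
  obtain ⟨k, hk, hky⟩ := hcomp y hy
  rw [Cfsg.Agent.Lib.Helper27.mem_stabK] at hk
  obtain ⟨hkM, hkf, -⟩ := hk
  refine ⟨k, hkM, ?_, hky⟩
  intro x hx
  rw [mem_dec] at hx
  have hmem : ∀ i < 24, oct0.testBit i = true → i ∈ octPts := by decide +kernel
  have := hkf (idx x) (hmem _ (idx_lt x) hx)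
  rwa [pt_idx] at this

/-! ### arbitrary octads -/

/-- An element of `M24` fixing an octad pointwise and a further point is the identity. -/
theorem octad_rigid {o : Finset GolayPt} (ho : o ∈ octads) {p : GolayPt} (hp : p ∉ o)
    {g : Equiv.Perm GolayPt} (hg : g ∈ M24) (hfix : ∀ x ∈ o, g x = x) (hgp : g p = p) : g = 1 := by
  obtain ⟨h, hh, rfl⟩ := octads_transitive o ho
  have hp' : h⁻¹ p ∉ dec oct0 := by
    intro hmem
    apply hp
    have : h (h⁻¹ p) ∈ h • dec oct0 := Finset.smul_mem_smul_finset hmem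
    rwa [perm_self_inv] at this
  obtain ⟨k, hk, hkfix, hkp⟩ := base_trans _ hp'
  have hkinv : ∀ x ∈ dec oct0, k⁻¹ x = x := by
    intro x hx
    rw [Equiv.Perm.inv_eq_iff_eq, hkfix x hx]
  have key : (h * k)⁻¹ * g * (h * k) = 1 := by
    apply base_rigid (M24.mul_mem (M24.mul_mem (M24.inv_mem (M24.mul_mem hh hk)) hg)
      (M24.mul_mem hh hk))
    · intro x hx
      have hx' : h x ∈ h • dec oct0 := Finset.smul_mem_smul_finset hx
      simp only [mul_inv_rev, Equiv.Perm.mul_apply]
      rw [hkfix x hx, hfix _ hx', perm_inv_self, hkinv x hx]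
    · simp only [mul_inv_rev, Equiv.Perm.mul_apply]
      rw [hkp, perm_self_inv, hgp, ← hkp, perm_inv_self]
  have h3 : g = (h * k) * ((h * k)⁻¹ * g * (h * k)) * (h * k)⁻¹ := by group
  rw [h3, key]
  group

/-- The pointwise stabiliser of an octad is transitive on the complement. -/
theorem octad_trans {o : Finset GolayPt} (ho : o ∈ octads) {p q : GolayPt} (hp : p ∉ o)
    (hq : q ∉ o) : ∃ k ∈ M24, (∀ x ∈ o, k x = x) ∧ k p = q := by
  obtain ⟨h, hh, rfl⟩ := octads_transitive o ho
  have hp' : h⁻¹ p ∉ dec oct0 := by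
    intro hmem
    apply hp
    have : h (h⁻¹ p) ∈ h • dec oct0 := Finset.smul_mem_smul_finset hmem
    rwa [perm_self_inv] at this
  have hq' : h⁻¹ q ∉ dec oct0 := by
    intro hmem
    apply hq
    have : h (h⁻¹ q) ∈ h • dec oct0 := Finset.smul_mem_smul_finset hmem
    rwa [perm_self_inv] at this
  obtain ⟨k1, hk1, hk1fix, hk1p⟩ := base_trans _ hp'
  obtain ⟨k2, hk2, hk2fix, hk2q⟩ := base_trans _ hq'
  have hk1inv : ∀ x ∈ dec oct0, k1⁻¹ x = x := by
    intro x hx
    rw [Equiv.Perm.inv_eq_iff_eq, hk1fix x hx]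
  refine ⟨h * k2 * k1⁻¹ * h⁻¹,
    M24.mul_mem (M24.mul_mem (M24.mul_mem hh hk2) (M24.inv_mem hk1)) (M24.inv_mem hh), ?_, ?_⟩
  · intro x hx
    obtain ⟨y, hy, rfl⟩ := Finset.mem_smul_finset.mp hx
    simp only [Equiv.Perm.mul_apply, Equiv.Perm.smul_def]
    rw [perm_inv_self, hk1inv y hy, hk2fix y hy]
  · simp only [Equiv.Perm.mul_apply]
    rw [← hk1p, perm_inv_self, hk2q, perm_self_inv]

/-! ### the restriction homomorphism -/

/-- the setwise stabiliser of `o` in `M24`, as a group of permutations of the 24 points -/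
def stabO (o : Finset GolayPt) : Subgroup (Equiv.Perm GolayPt) :=
  M24 ⊓ MulAction.stabilizer (Equiv.Perm GolayPt) o

theorem mem_stabO {o : Finset GolayPt} {g : Equiv.Perm GolayPt} :
    g ∈ stabO o ↔ g ∈ M24 ∧ g • o = o := by
  unfold stabO
  rw [Subgroup.mem_inf]
  exact Iff.rfl

theorem apply_mem_iff_of_smul_eq {g : Equiv.Perm GolayPt} {o : Finset GolayPt} (h : g • o = o)
    (x : GolayPt) : g x ∈ o ↔ x ∈ o := by
  have : g x ∈ g • o ↔ x ∈ o := Finset.smul_mem_smul_finset_iff g
  rwa [h] at this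

theorem smul_eq_of_apply_mem_iff {g : Equiv.Perm GolayPt} {o : Finset GolayPt}
    (h : ∀ x, g x ∈ o ↔ x ∈ o) : g • o = o := by
  ext x
  rw [← Finset.inv_smul_mem_iff]
  have := h (g⁻¹ x)
  rw [perm_self_inv] at this
  exact this.symm

theorem smul_eq_of_fixes {g : Equiv.Perm GolayPt} {o : Finset GolayPt}
    (h : ∀ x ∈ o, g x = x) : g • o = o := by
  apply smul_eq_of_apply_mem_iff
  intro x
  constructor
  · intro hx
    by_contra hx'
    have h1 := h _ hx
    have h2 : g x = x := g.injective h1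
    rw [h2] at hx
    exact hx' hx
  · intro hx
    rw [h x hx]; exact hx

/-- restriction of the octad stabiliser to the octad -/
def restrictHom (o : Finset GolayPt) : ↥(stabO o) →* Equiv.Perm ↥o where
  toFun g := g.1.subtypePerm (apply_mem_iff_of_smul_eq (mem_stabO.mp g.2).2)
  map_one' := by apply Equiv.ext; intro x; rfl
  map_mul' a b := by apply Equiv.ext; intro x; rfl

theorem restrictHom_apply (o : Finset GolayPt) (g : ↥(stabO o)) (x : ↥o) :
    ((restrictHom o g) x : GolayPt) = g.1 x.1 := rfl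

theorem mem_ker_restrictHom {o : Finset GolayPt} (g : ↥(stabO o)) :
    g ∈ (restrictHom o).ker ↔ ∀ x ∈ o, g.1 x = x := by
  rw [MonoidHom.mem_ker]
  constructor
  · intro h x hx
    have := congrArg (fun e : Equiv.Perm ↥o => ((e ⟨x, hx⟩ : ↥o) : GolayPt)) h
    exact this
  · intro h
    apply Equiv.ext
    intro x
    apply Subtype.ext
    exact h x.1 x.2

theorem orbit_octad (o : Finset GolayPt) (ho : o ∈ octads) : MulAction.orbit M24 o = octads := by
  ext o'
  rw [mem_orbit_M24_iff]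
  constructor
  · rintro ⟨g, hg, rfl⟩
    exact (smul_mem_octads_iff hg o).mpr ho
  · intro ho'
    obtain ⟨g, hg, hgo⟩ := octads_transitive o ho
    obtain ⟨g', hg', hgo'⟩ := octads_transitive o' ho'
    refine ⟨g' * g⁻¹, M24.mul_mem hg' (M24.inv_mem hg), ?_⟩
    rw [mul_smul, ← hgo, inv_smul_smul, hgo']

theorem card_stabO (o : Finset GolayPt) (ho : o ∈ octads) : Nat.card (stabO o) = 322560 := by
  have h1 := Subgroup.card_mul_index (MulAction.stabilizer M24 o)
  rw [MulAction.index_stabilizer, orbit_octad o ho, ncard_octads, card_M24,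
    Cfsg.Agent.Lib.Helper7.card_stabilizer_subgroup] at h1
  have : Nat.card ↥(stabO o) * 759 = 244823040 := h1
  omega

theorem card_compl (o : Finset GolayPt) (ho : o ∈ octads) : Nat.card {q : GolayPt // q ∉ o} = 16 := by
  have hc : o.card = 8 := ho.2
  rw [Nat.card_eq_fintype_card, Fintype.card_subtype_compl, Fintype.card_coe, hc]
  have : Fintype.card GolayPt = 24 := by
    simp [GolayPt, Fintype.card_option, ZMod.card]
  rw [this]

theorem card_ker_restrictHom (o : Finset GolayPt) (ho : o ∈ octads) :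
    Nat.card (restrictHom o).ker = 16 := by
  have hc : o.card = 8 := ho.2
  obtain ⟨p, hp⟩ : ∃ p, p ∉ o := by
    by_contra hcon
    push Not at hcon
    have : o = Finset.univ := Finset.eq_univ_iff_forall.mpr hcon
    have h24 : Fintype.card GolayPt = 24 := by
      simp [GolayPt, Fintype.card_option, ZMod.card]
    rw [this, Finset.card_univ, h24] at hc
    omega
  rw [← card_compl o ho]
  apply Nat.card_congr
  have hmaps : ∀ k : ↥(restrictHom o).ker, k.1.1 p ∉ o := by
    intro k hk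
    apply hp
    exact (apply_mem_iff_of_smul_eq (mem_stabO.mp k.1.2).2 p).mp hk
  refine Equiv.ofBijective (fun k => ⟨k.1.1 p, hmaps k⟩) ⟨fun a b hab => ?_, fun q => ?_⟩
  · have hab' : a.1.1 p = b.1.1 p := congrArg Subtype.val hab
    have ha := (mem_ker_restrictHom a.1).mp a.2
    have hb := (mem_ker_restrictHom b.1).mp b.2
    have hbinv : ∀ x ∈ o, b.1.1⁻¹ x = x := by
      intro x hx
      rw [Equiv.Perm.inv_eq_iff_eq, hb x hx]
    have key : b.1.1⁻¹ * a.1.1 = 1 := by
      apply octad_rigid ho hp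
        (M24.mul_mem (M24.inv_mem (mem_stabO.mp b.1.2).1) (mem_stabO.mp a.1.2).1)
      · intro x hx
        rw [Equiv.Perm.mul_apply, ha x hx, hbinv x hx]
      · rw [Equiv.Perm.mul_apply, hab', perm_inv_self]
    apply Subtype.ext
    apply Subtype.ext
    exact (inv_mul_eq_one.mp key).symm
  · obtain ⟨k, hk, hkfix, hkp⟩ := octad_trans ho hp q.2
    have hkS : k ∈ stabO o := mem_stabO.mpr ⟨hk, smul_eq_of_fixes hkfix⟩
    refine ⟨⟨⟨k, hkS⟩, (mem_ker_restrictHom _).mpr hkfix⟩, ?_⟩
    exact Subtype.ext hkp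

theorem card_range_restrictHom (o : Finset GolayPt) (ho : o ∈ octads) :
    Nat.card (restrictHom o).range = 20160 := by
  have h1 := Subgroup.card_mul_index (restrictHom o).ker
  rw [Subgroup.index_ker, card_ker_restrictHom o ho, card_stabO o ho] at h1
  omega

/-- The octad stabiliser induces the alternating group on the octad. -/
theorem range_restrictHom (o : Finset GolayPt) (ho : o ∈ octads) :
    (restrictHom o).range = alternatingGroup ↥o := by
  apply Equiv.Perm.eq_alternatingGroup_of_index_eq_two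
  have h1 := Subgroup.card_mul_index (restrictHom o).range
  have hc : o.card = 8 := ho.2
  have h2 : Nat.card (Equiv.Perm ↥o) = 40320 := by
    rw [Nat.card_eq_fintype_card, Fintype.card_perm, Fintype.card_coe, hc]
    rfl
  rw [card_range_restrictHom o ho, h2] at h1
  omega

end Cfsg.Agent.Lib.Helper95
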