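import Mathlib
import Cfsg.Agent.Lib.Helper39.OoDefs
import Cfsg.Agent.Lib.Helper95.OoCONJcore
import Cfsg.Agent.Lib.Helper13.OoMONO

/-!
# S2547 hive (OO), leaf CONJA : `conjA`
-/

set_option autoImplicit false

namespace Cfsg.Agent.Lib.Helper39.OoBN

open Matrix Cfsg

variable {F : Type*} [Field F] {m : ℕ}

/-- LEAF CONJA -/
theorem conjA (h2 : (2 : F) ≠ 0) {k k' : Fin m} (hkk : k ≠ k') :
    ∀ n ∈ No F m, (∀ x ∈ XA F m k k', n⁻¹ * x * n ∈ Bo F m) ∨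
      (∀ y ∈ XA F m k' k, n⁻¹ * y * n ∈ Bo F m) := by
  rintro n ⟨π, d, hn⟩
  exact conja_core hkk n hn (mono_orth h2 n hn).2.1

end Cfsg.Agent.Lib.Helper39.OoBN
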