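import Cfsg.Agent.Lib.Helper38.RhDefsB

set_option autoImplicit false

namespace Cfsg.Agent.Lib.Helper38.Rh

open Cfsg.Agent.Lib.Helper12.Rt

section partB
variable {K : Type*} [Field K] [Fintype K] {G : Type*} [Group G] {m : ℕ} (D : RtData K G m)

/-- the action of a torus element on the point `u p n B` -/
theorem fixh_smul (s : Kˣ) (p : K × K × K) :
    D.R.h s • ((D.R.u p * D.R.n : G) : G ⧸ D.R.B) =
      ((D.R.h s * D.R.u p * (D.R.h s)⁻¹ * D.R.n : G) : G ⧸ D.R.B) := by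
  rw [MulAction.Quotient.smul_mk, QuotientGroup.eq, smul_eq_mul]
  have : (D.R.h s * (D.R.u p * D.R.n))⁻¹ * (D.R.h s * D.R.u p * (D.R.h s)⁻¹ * D.R.n) =
      D.R.n⁻¹ * D.R.h s⁻¹ * D.R.n := by
    rw [map_inv]
    group
  rw [this, D.n_inv]
  exact D.R.h_mem_B _

theorem fixh_smul_one (s : Kˣ) : D.R.h s • ((1 : G) : G ⧸ D.R.B) = ((1 : G) : G ⧸ D.R.B) := by
  rw [MulAction.Quotient.smul_mk, QuotientGroup.eq, smul_eq_mul, mul_one, mul_one, ← map_inv]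
  exact D.R.h_mem_B s⁻¹

theorem fixh_fixed_iff
    (hinj : ∀ p p' : K × K × K, ((D.R.u p * D.R.n : G) : G ⧸ D.R.B) = ((D.R.u p' * D.R.n : G) : G ⧸ D.R.B) → p = p')
    (s : Kˣ) (p : K × K × K) :
    D.R.h s • ((D.R.u p * D.R.n : G) : G ⧸ D.R.B) = ((D.R.u p * D.R.n : G) : G ⧸ D.R.B) ↔
      D.R.h s * D.R.u p * (D.R.h s)⁻¹ = D.R.u p := by
  rw [fixh_smul]
  constructor
  · intro h
    rw [D.R.conj_hu] at h ⊢
    rw [hinj _ _ h]
  · intro h
    rw [h]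

theorem fixh_core_h
    (hpts : ∀ c : G ⧸ D.R.B, c = ((1 : G) : G ⧸ D.R.B) ∨
      ∃ p : K × K × K, c = ((D.R.u p * D.R.n : G) : G ⧸ D.R.B))
    (hinj : ∀ p p' : K × K × K, ((D.R.u p * D.R.n : G) : G ⧸ D.R.B) = ((D.R.u p' * D.R.n : G) : G ⧸ D.R.B) → p = p')
    (hne : ∀ p : K × K × K, ((D.R.u p * D.R.n : G) : G ⧸ D.R.B) ≠ ((1 : G) : G ⧸ D.R.B))
    (hfixu : ∀ s : Kˣ, s ≠ 1 → ∀ p : K × K × K,
      (D.R.h s * D.R.u p * (D.R.h s)⁻¹ = D.R.u p ↔ (p = 0 ∨ (s = -1 ∧ p.1 = 0 ∧ p.2.2 = 0))))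
    (s : Kˣ) (hs : s ≠ 1) (hs' : s ≠ -1) : fixN D (D.R.h s) = 2 := by
  unfold fixN
  have hset : {c : G ⧸ D.R.B | D.R.h s • c = c} =
      {((1 : G) : G ⧸ D.R.B), ((D.R.u 0 * D.R.n : G) : G ⧸ D.R.B)} := by
    ext c
    simp only [Set.mem_ofPred_eq, Set.mem_insert_iff, Set.mem_singleton_iff]
    constructor
    · intro hc
      rcases hpts c with rfl | ⟨p, rfl⟩
      · exact Or.inl rfl
      · right
        rw [fixh_fixed_iff D hinj] at hc
        rcases (hfixu s hs p).1 hc with h0 | ⟨h1, _⟩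
        · rw [h0]
        · exact absurd h1 hs'
    · rintro (rfl | rfl)
      · exact fixh_smul_one D s
      · rw [fixh_fixed_iff D hinj]
        exact (hfixu s hs 0).2 (Or.inl rfl)
  have : Nat.card {c : G ⧸ D.R.B // D.R.h s • c = c} =
      Set.ncard {c : G ⧸ D.R.B | D.R.h s • c = c} := Nat.card_coe_set_eq _
  rw [this, hset]
  exact Set.ncard_pair (hne 0).symm

theorem fixh_neg_one_ne_one (hK : Fintype.card K = 3 ^ (2 * m + 1)) : (-1 : Kˣ) ≠ 1 := by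
  intro h
  have h3 : (3 : K) = 0 := Cfsg.Agent.Lib.Helper12.ReeOut.fact_three hK
  have h1 : (-1 : K) = 1 := by
    have := congrArg (fun x : Kˣ => (x : K)) h
    simpa using this
  have h2 : (2 : K) = 0 := by linear_combination -h1
  have : (1 : K) = 0 := by linear_combination h3 - h2
  exact one_ne_zero this

theorem fixh_core_a
    (hpts : ∀ c : G ⧸ D.R.B, c = ((1 : G) : G ⧸ D.R.B) ∨
      ∃ p : K × K × K, c = ((D.R.u p * D.R.n : G) : G ⧸ D.R.B))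
    (hinj : ∀ p p' : K × K × K, ((D.R.u p * D.R.n : G) : G ⧸ D.R.B) = ((D.R.u p' * D.R.n : G) : G ⧸ D.R.B) → p = p')
    (hne : ∀ p : K × K × K, ((D.R.u p * D.R.n : G) : G ⧸ D.R.B) ≠ ((1 : G) : G ⧸ D.R.B))
    (hfixu : ∀ s : Kˣ, s ≠ 1 → ∀ p : K × K × K,
      (D.R.h s * D.R.u p * (D.R.h s)⁻¹ = D.R.u p ↔ (p = 0 ∨ (s = -1 ∧ p.1 = 0 ∧ p.2.2 = 0)))) :
    fixN D (D.R.h (-1)) = qq m + 1 := by
  unfold fixN
  have hs : (-1 : Kˣ) ≠ 1 := fixh_neg_one_ne_one D.R.hK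
  set f : K → G ⧸ D.R.B := fun x => ((D.R.u (0, x, 0) * D.R.n : G) : G ⧸ D.R.B) with hf
  have hfinj : Function.Injective f := by
    intro x y hxy
    have := hinj _ _ hxy
    exact (Prod.mk.inj (Prod.mk.inj this).2).1
  have hset : {c : G ⧸ D.R.B | D.R.h (-1) • c = c} =
      insert ((1 : G) : G ⧸ D.R.B) (f '' Set.univ) := by
    ext c
    simp only [Set.mem_ofPred_eq, Set.mem_insert_iff, Set.image_univ, Set.mem_range]
    constructor
    · intro hc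
      rcases hpts c with rfl | ⟨p, rfl⟩
      · exact Or.inl rfl
      · right
        rw [fixh_fixed_iff D hinj] at hc
        rcases (hfixu (-1) hs p).1 hc with h0 | ⟨_, h1, h2⟩
        · exact ⟨0, by rw [hf, h0]; rfl⟩
        · refine ⟨p.2.1, ?_⟩
          rw [hf]
          obtain ⟨p1, p2, p3⟩ := p
          simp only at h1 h2
          subst h1 h2
          rfl
    · rintro (rfl | ⟨x, rfl⟩)
      · exact fixh_smul_one D _
      · rw [hf, fixh_fixed_iff D hinj]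
        exact (hfixu (-1) hs _).2 (Or.inr ⟨rfl, rfl, rfl⟩)
  have : Nat.card {c : G ⧸ D.R.B // D.R.h (-1) • c = c} =
      Set.ncard {c : G ⧸ D.R.B | D.R.h (-1) • c = c} := Nat.card_coe_set_eq _
  have hfin : Finite G := D.finite
  rw [this, hset, Set.ncard_insert_of_notMem, Set.ncard_image_of_injective _ hfinj, Set.ncard_univ,
    Nat.card_eq_fintype_card, D.R.hK]
  · rfl
  · rintro ⟨x, _, hx⟩
    exact hne _ hx

end partB

end Cfsg.Agent.Lib.Helper38.Rh
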