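import Cfsg.Agent.Lib.Helper76.SlDefs
import Cfsg.Agent.Lib.Helper3.CharOps

set_option autoImplicit false

/-! Definitions for the `SL-K3` sub-hive (owner helper95) of the `Sl` hive (helper76, S2332):
the Heisenberg group `H = {h(a,b,z)}` inside `SL_{m+3}(F)` and the multiplicity function `mu`. -/

namespace Cfsg.Agent.Lib.Helper76.Sl

open Matrix Cfsg

variable {F : Type*} [Field F] [Fintype F] [DecidableEq F]

/-- `h(a,b,z)`: row `0` is `(1, a, z)`, last column is `(z, b, 1)`, identity elsewhere.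
The middle index `k : Fin (m+1)` sits at position `k.castSucc.succ : Fin (m+3)`. -/
def hmatM (m : ℕ) (a b : Fin (m + 1) → F) (z : F) : Matrix (Fin (m + 3)) (Fin (m + 3)) F :=
  fun i j => if i = 0 then (Fin.cons 1 (Fin.snoc a z) : Fin (m + 3) → F) j
    else if j = Fin.last (m + 2) then (Fin.cons z (Fin.snoc b 1) : Fin (m + 3) → F) i
    else (1 : Matrix (Fin (m + 3)) (Fin (m + 3)) F) i j

omit [Fintype F] [DecidableEq F] in
theorem hmatM_blockTriangular (m : ℕ) (a b : Fin (m + 1) → F) (z : F) :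
    (hmatM m a b z).BlockTriangular id := by
  intro i j hij
  have hij' : j < i := hij
  have hi0 : i ≠ 0 := by
    intro h; subst h; exact absurd hij' (Fin.not_lt_zero _)
  have hjl : j ≠ Fin.last (m + 2) := by
    intro h; subst h; exact absurd hij' (not_lt.mpr (Fin.le_last _))
  unfold hmatM
  rw [if_neg hi0, if_neg hjl]
  exact Matrix.one_apply_ne (ne_of_gt hij')

omit [Fintype F] [DecidableEq F] in
theorem hmatM_diag (m : ℕ) (a b : Fin (m + 1) → F) (z : F) (i : Fin (m + 3)) :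
    hmatM m a b z i i = 1 := by
  unfold hmatM
  by_cases hi0 : i = 0
  · subst hi0; simp
  · rw [if_neg hi0]
    by_cases hil : i = Fin.last (m + 2)
    · subst hil
      rw [if_pos rfl]
      have : (Fin.last (m + 2) : Fin (m + 3)) = Fin.succ (Fin.last (m + 1)) := rfl
      rw [this, Fin.cons_succ, Fin.snoc_last]
    · rw [if_neg hil, Matrix.one_apply_eq]

omit [Fintype F] in
theorem det_hmatM (m : ℕ) (a b : Fin (m + 1) → F) (z : F) : (hmatM m a b z).det = 1 := by
  rw [Matrix.det_of_isUpperTriangular (hmatM_blockTriangular m a b z)]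
  exact Finset.prod_eq_one (fun i _ => hmatM_diag m a b z i)

/-- `h(a,b,z)` as an element of `SL_{m+3}(F) = Gm F (m+1)`. -/
def hmat (m : ℕ) (a b : Fin (m + 1) → F) (z : F) : Gm F (m + 1) :=
  ⟨hmatM m a b z, det_hmatM m a b z⟩

/-- Fourier coefficient of a function on the Heisenberg triples at the pair `(α, β)`
(for `f = χ ∘ h` this is the multiplicity of the linear character `h(a,b,z) ↦ e(α·a + β·b)`). -/
noncomputable def muF (m : ℕ) (e : AddChar F ℂ)
    (f : (Fin (m + 1) → F) → (Fin (m + 1) → F) → F → ℂ) (α β : Fin (m + 1) → F) : ℂ :=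
  ((Fintype.card F : ℂ) ^ (2 * m + 3))⁻¹ *
    ∑ a : Fin (m + 1) → F, ∑ b : Fin (m + 1) → F, ∑ z : F, f a b z * e (-(α ⬝ᵥ a + β ⬝ᵥ b))

/-- the multiplicity function of a class function `χ` of `SL_{m+3}(F)` on `H`. -/
noncomputable def mu (m : ℕ) (e : AddChar F ℂ) (χ : Gm F (m + 1) → ℂ) (α β : Fin (m + 1) → F) : ℂ :=
  muF m e (fun a b z => χ (hmat m a b z)) α β

/-- the equivariance property of a function `μ(α, β)` under the Levi elements `diag(r, A, s)`,
`r * det A * s = 1`. -/
def Eqv (m : ℕ) {X : Type*} (μ : (Fin (m + 1) → F) → (Fin (m + 1) → F) → X) : Prop :=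
  ∀ (A : Matrix (Fin (m + 1)) (Fin (m + 1)) F) (r s : F), r * A.det * s = 1 →
    ∀ α β, μ α β = μ (r⁻¹ • (A *ᵥ α)) (s • ((A⁻¹)ᵀ *ᵥ β))

end Cfsg.Agent.Lib.Helper76.Sl
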