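import Mathlib
import Cfsg.Prelude.Def_Characters

set_option autoImplicit false

/-! K3-MODB-ABS (Sl hive S2332): the abstract fixed-space dichotomy. -/

namespace Cfsg.Agent.Lib.Helper76.Sl

open Cfsg

/-- the fixed space of a subgroup -/
noncomputable def k3mbabs_fix {G : Type*} [Group G] {n : ℕ} (ρ : Representation ℂ G (Fin n → ℂ))
    (A : Subgroup G) : Submodule ℂ (Fin n → ℂ) :=
  Representation.invariants (ρ.comp A.subtype)

theorem k3mbabs_mem_fix {G : Type*} [Group G] {n : ℕ} (ρ : Representation ℂ G (Fin n → ℂ))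
    (A : Subgroup G) (w : Fin n → ℂ) : w ∈ k3mbabs_fix ρ A ↔ ∀ x ∈ A, ρ x w = w := by
  unfold k3mbabs_fix
  rw [Representation.mem_invariants]
  constructor
  · intro h x hx
    exact h ⟨x, hx⟩
  · intro h x
    exact h x.1 x.2

open Classical in
theorem k3mbabs_finrank_fix {G : Type*} [Group G] [Fintype G] {n : ℕ}
    (ρ : Representation ℂ G (Fin n → ℂ)) (A : Subgroup G) :
    (Nat.card A : ℂ)⁻¹ * ∑ x ∈ Finset.univ.filter (fun x : G => x ∈ A), ρ.character x =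
      (Module.finrank ℂ (k3mbabs_fix ρ A) : ℂ) := by
  have hA : (Nat.card A : ℂ) ≠ 0 := Nat.cast_ne_zero.mpr Nat.card_pos.ne'
  have : Invertible (Nat.card A : ℂ) := invertibleOfNonzero hA
  have h1 := Representation.card_inv_mul_sum_char_eq_finrank (ρ := ρ.comp A.subtype)
  unfold k3mbabs_fix
  rw [← h1]
  congr 1
  rw [Finset.sum_subtype (Finset.univ.filter (fun x : G => x ∈ A)) (p := fun x => x ∈ A)
    (fun x => by simp) (fun x => ρ.character x)]
  rfl

open Classical in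
/-- K3-MODB-ABS -/
theorem fix_dichotomy {G : Type*} [Group G] [Fintype G] (χ : G → ℂ) (hχ : IsIrrCharacter G χ)
    (Q Q' H : Subgroup G) (hQH : Q ≤ H) (hQ'H : Q' ≤ H)
    (h1 : (Nat.card Q : ℂ)⁻¹ * ∑ x ∈ Finset.univ.filter (fun x : G => x ∈ Q), χ x =
      (Nat.card H : ℂ)⁻¹ * ∑ x ∈ Finset.univ.filter (fun x : G => x ∈ H), χ x)
    (h2 : (Nat.card Q' : ℂ)⁻¹ * ∑ x ∈ Finset.univ.filter (fun x : G => x ∈ Q'), χ x =
      (Nat.card H : ℂ)⁻¹ * ∑ x ∈ Finset.univ.filter (fun x : G => x ∈ H), χ x)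
    (S : Set G) (hS : Subgroup.closure S = ⊤)
    (hN : ∀ s ∈ S, (∀ x ∈ Q, s⁻¹ * x * s ∈ Q) ∨ (∀ x ∈ Q', s⁻¹ * x * s ∈ Q')) :
    (Nat.card Q : ℂ)⁻¹ * ∑ x ∈ Finset.univ.filter (fun x : G => x ∈ Q), χ x = 0 ∨
      ∀ x ∈ Q, χ x = χ 1 := by
  obtain ⟨n, ρ, hirr, rfl⟩ := hχ
  have hfQ := k3mbabs_finrank_fix ρ Q
  have hfQ' := k3mbabs_finrank_fix ρ Q'
  have hfH := k3mbabs_finrank_fix ρ H
  have hle1 : k3mbabs_fix ρ H ≤ k3mbabs_fix ρ Q := fun w hw =>
    (k3mbabs_mem_fix ρ Q w).2 (fun x hx => (k3mbabs_mem_fix ρ H w).1 hw x (hQH hx))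
  have hle2 : k3mbabs_fix ρ H ≤ k3mbabs_fix ρ Q' := fun w hw =>
    (k3mbabs_mem_fix ρ Q' w).2 (fun x hx => (k3mbabs_mem_fix ρ H w).1 hw x (hQ'H hx))
  have hr1 : Module.finrank ℂ (k3mbabs_fix ρ H) = Module.finrank ℂ (k3mbabs_fix ρ Q) := by
    have : (Module.finrank ℂ (k3mbabs_fix ρ H) : ℂ) = (Module.finrank ℂ (k3mbabs_fix ρ Q) : ℂ) := by
      rw [← hfH, ← hfQ, h1]
    exact_mod_cast this
  have hr2 : Module.finrank ℂ (k3mbabs_fix ρ H) = Module.finrank ℂ (k3mbabs_fix ρ Q') := by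
    have : (Module.finrank ℂ (k3mbabs_fix ρ H) : ℂ) = (Module.finrank ℂ (k3mbabs_fix ρ Q') : ℂ) := by
      rw [← hfH, ← hfQ', h2]
    exact_mod_cast this
  have heq1 : k3mbabs_fix ρ H = k3mbabs_fix ρ Q := Submodule.eq_of_le_of_finrank_eq hle1 hr1
  have heq2 : k3mbabs_fix ρ H = k3mbabs_fix ρ Q' := Submodule.eq_of_le_of_finrank_eq hle2 hr2
  have hQQ' : k3mbabs_fix ρ Q = k3mbabs_fix ρ Q' := heq1.symm.trans heq2
  -- stability under `S`
  have hconj : ∀ (A : Subgroup G) (s : G), (∀ x ∈ A, s⁻¹ * x * s ∈ A) →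
      ∀ w ∈ k3mbabs_fix ρ A, ρ s w ∈ k3mbabs_fix ρ A := by
    intro A s hs w hw
    rw [k3mbabs_mem_fix] at hw ⊢
    intro x hx
    have h3 := hw _ (hs x hx)
    have h4 : ρ x (ρ s w) = ρ s (ρ (s⁻¹ * x * s) w) := by
      rw [← Module.End.mul_apply, ← Module.End.mul_apply, ← map_mul, ← map_mul]
      congr 2
      group
    rw [h4, h3]
  have hstabS : ∀ s ∈ S, ∀ w ∈ k3mbabs_fix ρ Q, ρ s w ∈ k3mbabs_fix ρ Q := by
    intro s hs w hw
    rcases hN s hs with h | h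
    · exact hconj Q s h w hw
    · rw [hQQ'] at hw ⊢
      exact hconj Q' s h w hw
  have hall : ∀ g : G, ∀ w ∈ k3mbabs_fix ρ Q, ρ g w ∈ k3mbabs_fix ρ Q := by
    intro g
    have hg : g ∈ Subgroup.closure S := by rw [hS]; exact Subgroup.mem_top g
    induction hg using Subgroup.closure_induction with
    | mem s hs => exact hstabS s hs
    | one => intro w hw; simpa using hw
    | mul a b _ _ iha ihb =>
      intro w hw
      rw [map_mul, Module.End.mul_apply]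
      exact iha _ (ihb w hw)
    | inv a _ iha =>
      have hpow : ∀ k : ℕ, ∀ w ∈ k3mbabs_fix ρ Q, ρ (a ^ k) w ∈ k3mbabs_fix ρ Q := by
        intro k
        induction k with
        | zero => intro w hw; simpa using hw
        | succ k ih =>
          intro w hw
          rw [pow_succ, map_mul, Module.End.mul_apply]
          exact ih _ (iha w hw)
      have hpos := orderOf_pos a
      have : a⁻¹ = a ^ (orderOf a - 1) := by
        apply inv_eq_of_mul_eq_one_right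
        rw [← pow_succ', Nat.sub_add_cancel hpos, pow_orderOf_eq_one]
      rw [this]
      exact hpow _
  let σ : Subrepresentation ρ := ⟨k3mbabs_fix ρ Q, fun g w hw => hall g w hw⟩
  rcases hirr.eq_bot_or_eq_top σ with h | h
  · left
    have h0 : k3mbabs_fix ρ Q = ⊥ := congrArg Subrepresentation.toSubmodule h
    rw [hfQ, h0, finrank_bot, Nat.cast_zero]
  · right
    have h0 : k3mbabs_fix ρ Q = ⊤ := congrArg Subrepresentation.toSubmodule h
    intro x hx
    have hx1 : ρ x = 1 := by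
      apply LinearMap.ext
      intro w
      have hw : w ∈ k3mbabs_fix ρ Q := by rw [h0]; exact Submodule.mem_top
      exact (k3mbabs_mem_fix ρ Q w).1 hw x hx
    show LinearMap.trace ℂ (Fin n → ℂ) (ρ x) = LinearMap.trace ℂ (Fin n → ℂ) (ρ 1)
    rw [hx1, map_one ρ]

end Cfsg.Agent.Lib.Helper76.Sl
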