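import Cfsg.Agent.Lib.Helper95.SlK3MODBcore
import Cfsg.Agent.Lib.Helper95.SlK3MBABS
import Cfsg.Agent.Lib.Helper96.SlK3MBGEN
import Cfsg.Agent.Lib.Helper34.SlK3PARB

set_option autoImplicit false
set_option linter.unusedSectionVars false

/-! K3-MODB (Sl hive S2332, K3 sub-hive of helper9): `k3_modB`. -/

namespace Cfsg.Agent.Lib.Helper76.Sl

open Matrix Cfsg

variable (F : Type*) [Field F] [Fintype F] [DecidableEq F]

open Classical in
theorem k3modb_card_H (m : ℕ) : Nat.card (K3H F m) = Fintype.card F ^ (2 * m + 3) := by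
  have h := k3_sum_H F m (fun _ => (1 : ℂ))
  simp only [Finset.sum_const, Finset.card_univ, nsmul_eq_mul, mul_one, Fintype.card_pi,
    Finset.prod_const, Fintype.card_fin] at h
  have h2 : Nat.card (K3H F m) = (Finset.univ.filter (fun g : Gm F (m + 1) => g ∈ K3H F m)).card := by
    rw [Nat.card_eq_fintype_card, Fintype.card_subtype]
  rw [h2]
  have h3 : (((Finset.univ.filter (fun g : Gm F (m + 1) => g ∈ K3H F m)).card : ℕ) : ℂ) =
      ((Fintype.card F ^ (2 * m + 3) : ℕ) : ℂ) := by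
    rw [h]
    push_cast
    ring
  exact_mod_cast h3

open Classical in
theorem k3modb_card_Qp (m : ℕ) : Nat.card (K3Qp F m) = Fintype.card F ^ (m + 2) := by
  have h := k3_sum_Qp F m (fun _ => (1 : ℂ))
  simp only [Finset.sum_const, Finset.card_univ, nsmul_eq_mul, mul_one, Fintype.card_pi,
    Finset.prod_const, Fintype.card_fin] at h
  have h2 : Nat.card (K3Qp F m) = (Finset.univ.filter (fun g : Gm F (m + 1) => g ∈ K3Qp F m)).card := by
    rw [Nat.card_eq_fintype_card, Fintype.card_subtype]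
  rw [h2]
  have h3 : (((Finset.univ.filter (fun g : Gm F (m + 1) => g ∈ K3Qp F m)).card : ℕ) : ℂ) =
      ((Fintype.card F ^ (m + 2) : ℕ) : ℂ) := by
    rw [h]
    push_cast
    ring
  exact_mod_cast h3

open Classical in
/-- K3-MODB -/
theorem k3_modB (m : ℕ) (χ : Gm F (m + 1) → ℂ) (hχ : IsIrrCharacter (Gm F (m + 1)) χ)
    (hne : χ (tv F (m + 1)) ≠ χ 1) (h1 : avgQ F (m + 1) χ 1 = k3avgH F m χ)
    (h2 : k3avgQp F m χ = k3avgH F m χ) : avgQ F (m + 1) χ 1 = 0 := by
  have hcQ : Nat.card (k3modb_QG F m) = Fintype.card F ^ (m + 2) := card_Qset (F := F) (m + 1)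
  have hcQp' : Nat.card (k3modb_QpG F m) = Fintype.card F ^ (m + 2) := k3modb_card_Qp F m
  have hcH' : Nat.card (k3modb_HG F m) = Fintype.card F ^ (2 * m + 3) := k3modb_card_H F m
  have eQ : (Nat.card (k3modb_QG F m) : ℂ)⁻¹ *
      ∑ x ∈ Finset.univ.filter (fun x : Gm F (m + 1) => x ∈ k3modb_QG F m), χ x =
      avgQ F (m + 1) χ 1 := by
    rw [hcQ]
    unfold avgQ
    push_cast
    simp only [mul_one]
    rfl
  have eQp : (Nat.card (k3modb_QpG F m) : ℂ)⁻¹ *
      ∑ x ∈ Finset.univ.filter (fun x : Gm F (m + 1) => x ∈ k3modb_QpG F m), χ x =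
      k3avgQp F m χ := by
    rw [hcQp']
    unfold k3avgQp
    push_cast
    rfl
  have eH : (Nat.card (k3modb_HG F m) : ℂ)⁻¹ *
      ∑ x ∈ Finset.univ.filter (fun x : Gm F (m + 1) => x ∈ k3modb_HG F m), χ x =
      k3avgH F m χ := by
    rw [hcH']
    unfold k3avgH
    push_cast
    rfl
  have := fix_dichotomy χ hχ (k3modb_QG F m) (k3modb_QpG F m) (k3modb_HG F m)
    (fun g hg => k3modb_Q_sub_H F m g hg) (fun g hg => k3modb_Qp_sub_H F m g hg)
    (by rw [eQ, eH, h1]) (by rw [eQp, eH, h2]) _ (closure_NQ_NQ' (F := F) m)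
    (by
      intro s hs
      rcases hs with hs | hs
      · left
        intro x hx
        exact k3modb_NQ F m s hs x hx
      · right
        intro x hx
        exact k3modb_NQp F m s hs x hx)
  rcases this with h | h
  · rw [← eQ]; exact h
  · exact absurd (h (tv F (m + 1)) (k3modb_tv_mem F m)) hne

end Cfsg.Agent.Lib.Helper76.Sl
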