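import Cfsg.Agent.Lib.Helper9.SlK3Defs
import Cfsg.Agent.Lib.Helper3.CharOps
import Cfsg.Agent.Lib.Helper96.SlQCARD

set_option autoImplicit false
set_option linter.unusedSectionVars false

/-! K3-MODB (Sl hive S2332, K3 sub-hive of helper9): the group-theoretic part of `k3_modB`:
`Q`, `Q'`, `H` are subgroups, `Q, Q' ≤ H`, the two normaliser lemmas, and the instantiation of the abstract
fixed-space dichotomy (taken here as a hypothesis). -/

namespace Cfsg.Agent.Lib.Helper76.Sl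

open Matrix Cfsg

variable (F : Type*) [Field F] [Fintype F] [DecidableEq F]

/-- a subset of a finite group containing `1` and closed under multiplication is a subgroup -/
def k3modb_mk {G : Type*} [Group G] [Finite G] (A : Set G) (h1 : (1 : G) ∈ A)
    (hmul : ∀ x y, x ∈ A → y ∈ A → x * y ∈ A) : Subgroup G where
  carrier := A
  one_mem' := h1
  mul_mem' := fun hx hy => hmul _ _ hx hy
  inv_mem' := by
    intro x hx
    have hpow : ∀ n : ℕ, x ^ n ∈ A := by
      intro n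
      induction n with
      | zero => simpa using h1
      | succ n ih => rw [pow_succ]; exact hmul _ _ ih hx
    have hpos := orderOf_pos x
    have : x⁻¹ = x ^ (orderOf x - 1) := by
      apply inv_eq_of_mul_eq_one_right
      rw [← pow_succ', Nat.sub_add_cancel hpos, pow_orderOf_eq_one]
    rw [this]
    exact hpow _

omit [Fintype F] in
theorem k3modb_Q_one (m : ℕ) : (1 : Gm F (m + 1)) ∈ Qset F (m + 1) := by
  intro i j _
  rfl

omit [Fintype F] in
theorem k3modb_Q_mul (m : ℕ) (x y : Gm F (m + 1)) (hx : x ∈ Qset F (m + 1))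
    (hy : y ∈ Qset F (m + 1)) : x * y ∈ Qset F (m + 1) := by
  intro i j hi
  have : (x * y).1 = x.1 * y.1 := rfl
  rw [this, Matrix.mul_apply]
  simp_rw [hx i _ hi]
  rw [← Matrix.mul_apply, Matrix.one_mul]
  exact hy i j hi

omit [Fintype F] in
theorem k3modb_Qp_one (m : ℕ) : (1 : Gm F (m + 1)) ∈ K3Qp F m := by
  intro i j _
  rfl

omit [Fintype F] in
theorem k3modb_Qp_mul (m : ℕ) (x y : Gm F (m + 1)) (hx : x ∈ K3Qp F m)
    (hy : y ∈ K3Qp F m) : x * y ∈ K3Qp F m := by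
  intro i j hj
  have : (x * y).1 = x.1 * y.1 := rfl
  rw [this, Matrix.mul_apply]
  simp_rw [hy _ j hj]
  rw [← Matrix.mul_apply, Matrix.mul_one]
  exact hx i j hj

omit [Fintype F] in
theorem k3modb_last_ne_zero (m : ℕ) : (Fin.last (m + 2) : Fin (m + 3)) ≠ 0 := by
  intro h
  have := congrArg Fin.val h
  simp at this

omit [Fintype F] in
theorem k3modb_H_one (m : ℕ) : (1 : Gm F (m + 1)) ∈ K3H F m := by
  refine ⟨fun i j _ _ => rfl, ?_, ?_⟩
  · show (1 : Matrix (Fin (m + 3)) (Fin (m + 3)) F) 0 0 = 1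
    simp
  · show (1 : Matrix (Fin (m + 3)) (Fin (m + 3)) F) (Fin.last (m + 2)) (Fin.last (m + 2)) = 1
    simp

omit [Fintype F] in
theorem k3modb_H_mul (m : ℕ) (x y : Gm F (m + 1)) (hx : x ∈ K3H F m)
    (hy : y ∈ K3H F m) : x * y ∈ K3H F m := by
  obtain ⟨hx1, hx2, hx3⟩ := hx
  obtain ⟨hy1, hy2, hy3⟩ := hy
  have hl0 := k3modb_last_ne_zero m
  have hmul : (x * y).1 = x.1 * y.1 := rfl
  refine ⟨?_, ?_, ?_⟩
  · intro i j hi hj
    rw [hmul, Matrix.mul_apply]
    have hterm : ∀ k, x.1 i k * y.1 k j =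
        (1 : Matrix (Fin (m + 3)) (Fin (m + 3)) F) i k * y.1 k j := by
      intro k
      by_cases hk : k = Fin.last (m + 2)
      · subst hk
        rw [hy1 _ j hl0 hj, Matrix.one_apply_ne (Ne.symm hj), mul_zero, mul_zero]
      · rw [hx1 i k hi hk]
    simp_rw [hterm]
    rw [← Matrix.mul_apply, Matrix.one_mul]
    exact hy1 i j hi hj
  · rw [hmul, Matrix.mul_apply]
    have hterm : ∀ k, x.1 0 k * y.1 k 0 =
        x.1 0 k * (1 : Matrix (Fin (m + 3)) (Fin (m + 3)) F) k 0 := by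
      intro k
      by_cases hk : k = 0
      · subst hk
        rw [hy2, Matrix.one_apply_eq]
      · rw [hy1 k 0 hk (Ne.symm hl0)]
    simp_rw [hterm]
    rw [← Matrix.mul_apply, Matrix.mul_one]
    exact hx2
  · rw [hmul, Matrix.mul_apply]
    have hterm : ∀ k, x.1 (Fin.last (m + 2)) k * y.1 k (Fin.last (m + 2)) =
        (1 : Matrix (Fin (m + 3)) (Fin (m + 3)) F) (Fin.last (m + 2)) k * y.1 k (Fin.last (m + 2)) := by
      intro k
      by_cases hk : k = Fin.last (m + 2)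
      · subst hk
        rw [hx3, Matrix.one_apply_eq]
      · rw [hx1 _ k hl0 hk]
    simp_rw [hterm]
    rw [← Matrix.mul_apply, Matrix.one_mul]
    exact hy3

/-- `Q` as a subgroup -/
def k3modb_QG (m : ℕ) : Subgroup (Gm F (m + 1)) :=
  k3modb_mk (Qset F (m + 1)) (k3modb_Q_one F m) (k3modb_Q_mul F m)

/-- `Q'` as a subgroup -/
def k3modb_QpG (m : ℕ) : Subgroup (Gm F (m + 1)) :=
  k3modb_mk (K3Qp F m) (k3modb_Qp_one F m) (k3modb_Qp_mul F m)

/-- `H` as a subgroup -/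
def k3modb_HG (m : ℕ) : Subgroup (Gm F (m + 1)) :=
  k3modb_mk (K3H F m) (k3modb_H_one F m) (k3modb_H_mul F m)

omit [Fintype F] in
theorem k3modb_Q_sub_H (m : ℕ) (g : Gm F (m + 1)) (hg : g ∈ Qset F (m + 1)) : g ∈ K3H F m := by
  refine ⟨fun i j hi _ => hg i j hi, qcard_zero_zero (m + 1) g hg, ?_⟩
  rw [hg _ _ (k3modb_last_ne_zero m), Matrix.one_apply_eq]

omit [Fintype F] in
theorem k3modb_Qp_last (m : ℕ) (g : Gm F (m + 1)) (hg : g ∈ K3Qp F m) :
    g.1 (Fin.last (m + 2)) (Fin.last (m + 2)) = 1 := by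
  have htri : Matrix.BlockTriangular g.1 id := by
    intro i j hij
    have hij' : j < i := hij
    have hj : j ≠ Fin.last (m + 2) := by
      intro h; subst h; exact absurd hij' (not_lt.mpr (Fin.le_last _))
    rw [hg i j hj]
    exact Matrix.one_apply_ne (ne_of_gt hij')
  have hdet := Matrix.det_of_isUpperTriangular htri
  rw [g.2] at hdet
  rw [Finset.prod_eq_single (Fin.last (m + 2))] at hdet
  · exact hdet.symm
  · intro i _ hi
    rw [hg i i hi, Matrix.one_apply_eq]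
  · intro h; exact absurd (Finset.mem_univ _) h

omit [Fintype F] in
theorem k3modb_Qp_sub_H (m : ℕ) (g : Gm F (m + 1)) (hg : g ∈ K3Qp F m) : g ∈ K3H F m := by
  refine ⟨fun i j _ hj => hg i j hj, ?_, k3modb_Qp_last F m g hg⟩
  rw [hg _ _ (Ne.symm (k3modb_last_ne_zero m)), Matrix.one_apply_eq]

omit [Fintype F] in
/-- entries of the inverse in column `0` -/
theorem k3modb_inv_col (m : ℕ) (g : Gm F (m + 1)) (hg : ∀ i, i ≠ 0 → g.1 i 0 = 0)
    (i : Fin (m + 3)) (hi : i ≠ 0) : (g⁻¹).1 i 0 = 0 := by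
  have : (g⁻¹).1 = Matrix.adjugate g.1 := rfl
  rw [this, Matrix.adjugate_apply]
  apply Matrix.det_eq_zero_of_column_eq_zero 0
  intro k
  by_cases hk : k = 0
  · subst hk
    rw [Matrix.updateRow_self, Pi.single_apply, if_neg (Ne.symm hi)]
  · rw [Matrix.updateRow_ne hk]
    exact hg k hk

omit [Fintype F] in
/-- K3-MODB-NORM (Q) -/
theorem k3modb_NQ (m : ℕ) (g : Gm F (m + 1)) (hg : ∀ i, i ≠ 0 → g.1 i 0 = 0)
    (x : Gm F (m + 1)) (hx : x ∈ Qset F (m + 1)) : g⁻¹ * x * g ∈ Qset F (m + 1) := by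
  intro i j hi
  have hmul : (g⁻¹ * x * g).1 = (g⁻¹).1 * x.1 * g.1 := rfl
  have h1 : ((g⁻¹).1 * x.1) i = (g⁻¹).1 i := by
    funext k
    rw [Matrix.mul_apply]
    have hterm : ∀ l, (g⁻¹).1 i l * x.1 l k =
        (g⁻¹).1 i l * (1 : Matrix (Fin (m + 3)) (Fin (m + 3)) F) l k := by
      intro l
      by_cases hl : l = 0
      · subst hl
        rw [k3modb_inv_col F m g hg i hi, zero_mul, zero_mul]
      · rw [hx l k hl]
    simp_rw [hterm]
    rw [← Matrix.mul_apply, Matrix.mul_one]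
  rw [hmul, Matrix.mul_apply]
  simp_rw [h1]
  rw [← Matrix.mul_apply]
  have : (g⁻¹).1 * g.1 = (g⁻¹ * g).1 := rfl
  rw [this, inv_mul_cancel]
  rfl

omit [Fintype F] in
/-- K3-MODB-NORM (Q') -/
theorem k3modb_NQp (m : ℕ) (g : Gm F (m + 1))
    (hg : ∀ j, j ≠ Fin.last (m + 2) → g.1 (Fin.last (m + 2)) j = 0)
    (x : Gm F (m + 1)) (hx : x ∈ K3Qp F m) : g⁻¹ * x * g ∈ K3Qp F m := by
  intro i j hj
  have hmul : (g⁻¹ * x * g).1 = (g⁻¹).1 * (x.1 * g.1) := by
    rw [mul_assoc]; rfl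
  have h1 : ∀ k, (x.1 * g.1) k j = g.1 k j := by
    intro k
    rw [Matrix.mul_apply]
    have hterm : ∀ l, x.1 k l * g.1 l j =
        (1 : Matrix (Fin (m + 3)) (Fin (m + 3)) F) k l * g.1 l j := by
      intro l
      by_cases hl : l = Fin.last (m + 2)
      · subst hl
        rw [hg j hj, mul_zero, mul_zero]
      · rw [hx k l hl]
    simp_rw [hterm]
    rw [← Matrix.mul_apply, Matrix.one_mul]
  rw [hmul, Matrix.mul_apply]
  simp_rw [h1]
  rw [← Matrix.mul_apply]
  have : (g⁻¹).1 * g.1 = (g⁻¹ * g).1 := rfl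
  rw [this, inv_mul_cancel]
  rfl

omit [Fintype F] in
theorem k3modb_tv_mem (m : ℕ) : tv F (m + 1) ∈ Qset F (m + 1) := by
  intro i j hi
  unfold tv
  rw [Matrix.SpecialLinearGroup.transvection_coe]
  simp [Matrix.transvection, Matrix.add_apply, Matrix.single_apply, hi.symm]

end Cfsg.Agent.Lib.Helper76.Sl
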