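import Mathlib
import Cfsg.Prelude.Def_Sporadic_a
import Cfsg.Agent.Lib.Helper95.SrgC

set_option autoImplicit false

/-! The stabiliser of the extra vertex in the automorphism group of a point-block graph is the
automorphism group of the set system. -/

namespace Cfsg.Agent.Lib.Helper95.Srg

open Finset MulAction
open scoped Pointwise

variable {α : Type*} [DecidableEq α] (B : Set (Finset α))

theorem pbg_adj (p q : Option (α ⊕ ↥B)) :
    (Cfsg.pointBlockGraph B).Adj p q ↔
      p ≠ q ∧ (Cfsg.pointBlockRel B p q ∨ Cfsg.pointBlockRel B q p) := by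
  unfold Cfsg.pointBlockGraph
  rw [SimpleGraph.fromRel_adj]

theorem adj_none_iff (q : Option (α ⊕ ↥B)) :
    (Cfsg.pointBlockGraph B).Adj none q ↔ ∃ a, q = some (Sum.inl a) := by
  rw [pbg_adj]
  rcases q with _ | a | b
  · simp [Cfsg.pointBlockRel]
  · simp [Cfsg.pointBlockRel]
  · simp [Cfsg.pointBlockRel]

theorem adj_pt_blk_iff (a : α) (b : ↥B) :
    (Cfsg.pointBlockGraph B).Adj (some (Sum.inl a)) (some (Sum.inr b)) ↔ a ∈ b.1 := by
  rw [pbg_adj]
  simp [Cfsg.pointBlockRel]

/-- the graph automorphism of an automorphism of the set system -/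
def autOfPerm (g : Equiv.Perm α) (hg : g ∈ Cfsg.setSystemAut B) :
    Cfsg.pointBlockGraph B ≃g Cfsg.pointBlockGraph B :=
  pbgIso g B B (mem_stabilizer_iff.mp hg)

theorem autOfPerm_none (g : Equiv.Perm α) (hg : g ∈ Cfsg.setSystemAut B) :
    autOfPerm B g hg none = none := rfl

theorem autOfPerm_pt (g : Equiv.Perm α) (hg : g ∈ Cfsg.setSystemAut B) (a : α) :
    autOfPerm B g hg (some (Sum.inl a)) = some (Sum.inl (g a)) := rfl

theorem autOfPerm_blk (g : Equiv.Perm α) (hg : g ∈ Cfsg.setSystemAut B) (b : ↥B) :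
    ∃ hb : b.1.image g ∈ B,
      autOfPerm B g hg (some (Sum.inr b)) = some (Sum.inr ⟨b.1.image g, hb⟩) :=
  ⟨_, rfl⟩

section stab

variable {B}
variable (φ : Cfsg.pointBlockGraph B ≃g Cfsg.pointBlockGraph B) (hφ : φ none = none)

include hφ

theorem exists_pt (a : α) : ∃ a', φ (some (Sum.inl a)) = some (Sum.inl a') := by
  have h1 : (Cfsg.pointBlockGraph B).Adj none (some (Sum.inl a)) :=
    (adj_none_iff B _).mpr ⟨a, rfl⟩
  have h2 := φ.map_rel_iff.mpr h1
  rw [hφ] at h2
  exact (adj_none_iff B _).mp h2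

theorem symm_none : φ.symm none = none := by
  rw [RelIso.symm_apply_eq, hφ]

theorem exists_blk (b : ↥B) : ∃ b', φ (some (Sum.inr b)) = some (Sum.inr b') := by
  rcases h : φ (some (Sum.inr b)) with _ | a | b'
  · rw [← hφ] at h
    exact absurd (φ.injective h) (by simp)
  · obtain ⟨a', ha'⟩ := exists_pt φ.symm (symm_none φ hφ) a
    rw [← h, RelIso.symm_apply_apply] at ha'
    exact absurd ha' (by simp)
  · exact ⟨b', rfl⟩

omit hφ in
/-- the point of a vertex, with a default value -/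
def ptOf (B : Set (Finset α)) (d : α) : Option (α ⊕ ↥B) → α
  | some (Sum.inl a) => a
  | _ => d

theorem ptOf_spec (a : α) :
    φ (some (Sum.inl a)) = some (Sum.inl (ptOf B a (φ (some (Sum.inl a))))) := by
  obtain ⟨a', h⟩ := exists_pt φ hφ a
  rw [h]
  rfl

/-- the permutation of the points of a graph automorphism fixing the extra vertex -/
def permOfAut : Equiv.Perm α where
  toFun a := ptOf B a (φ (some (Sum.inl a)))
  invFun a := ptOf B a (φ.symm (some (Sum.inl a)))
  left_inv a := by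
    obtain ⟨a', h⟩ := exists_pt φ hφ a
    show ptOf B _ (φ.symm (some (Sum.inl (ptOf B a (φ (some (Sum.inl a))))))) = a
    rw [h]
    show ptOf B _ (φ.symm (some (Sum.inl a'))) = a
    rw [← h, RelIso.symm_apply_apply]
    rfl
  right_inv a := by
    obtain ⟨a', h⟩ := exists_pt φ.symm (symm_none φ hφ) a
    show ptOf B _ (φ (some (Sum.inl (ptOf B a (φ.symm (some (Sum.inl a))))))) = a
    rw [h]
    show ptOf B _ (φ (some (Sum.inl a'))) = a
    rw [← h, RelIso.apply_symm_apply]
    rfl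

theorem permOfAut_spec (a : α) :
    φ (some (Sum.inl a)) = some (Sum.inl (permOfAut φ hφ a)) :=
  ptOf_spec φ hφ a

theorem blk_image (b b' : ↥B) (h : φ (some (Sum.inr b)) = some (Sum.inr b')) :
    b.1.image (permOfAut φ hφ) = b'.1 := by
  ext x
  rw [Finset.mem_image]
  constructor
  · rintro ⟨a, ha, rfl⟩
    have h1 := (adj_pt_blk_iff B a b).mpr ha
    have h2 := φ.map_rel_iff.mpr h1
    rw [permOfAut_spec φ hφ, h] at h2
    exact (adj_pt_blk_iff B _ b').mp h2
  · intro hx
    refine ⟨(permOfAut φ hφ).symm x, ?_, Equiv.apply_symm_apply _ _⟩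
    have h1 := (adj_pt_blk_iff B x b').mpr hx
    rw [← h, ← Equiv.apply_symm_apply (permOfAut φ hφ) x, ← permOfAut_spec φ hφ,
      φ.map_rel_iff] at h1
    exact (adj_pt_blk_iff B _ b).mp h1

theorem permOfAut_image_mem (b : Finset α) (hb : b ∈ B) : b.image (permOfAut φ hφ) ∈ B := by
  obtain ⟨b', hb'⟩ := exists_blk φ hφ ⟨b, hb⟩
  rw [blk_image φ hφ ⟨b, hb⟩ b' hb']
  exact b'.2

end stab

variable {B}

theorem permOfAut_symm (φ : Cfsg.pointBlockGraph B ≃g Cfsg.pointBlockGraph B)
    (hφ : φ none = none) :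
    permOfAut φ.symm (symm_none φ hφ) = (permOfAut φ hφ).symm := by
  apply Equiv.ext
  intro a
  rw [Equiv.eq_symm_apply]
  have h1 := permOfAut_spec φ.symm (symm_none φ hφ) a
  have h2 := permOfAut_spec φ hφ (permOfAut φ.symm (symm_none φ hφ) a)
  rw [← h1, RelIso.apply_symm_apply] at h2
  simp only [Option.some.injEq, Sum.inl.injEq] at h2
  exact h2.symm

theorem permOfAut_mem (φ : Cfsg.pointBlockGraph B ≃g Cfsg.pointBlockGraph B)
    (hφ : φ none = none) : permOfAut φ hφ ∈ Cfsg.setSystemAut B := by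
  rw [mem_stabilizer_iff]
  apply Set.Subset.antisymm
  · rintro _ ⟨b, hb, rfl⟩
    exact permOfAut_image_mem φ hφ b hb
  · intro b hb
    refine ⟨b.image (permOfAut φ hφ).symm, ?_, ?_⟩
    · rw [← permOfAut_symm φ hφ]
      exact permOfAut_image_mem φ.symm (symm_none φ hφ) b hb
    · show (b.image (permOfAut φ hφ).symm).image (permOfAut φ hφ) = b
      exact image_image_symm' (permOfAut φ hφ) b

theorem autOfPerm_permOfAut (φ : Cfsg.pointBlockGraph B ≃g Cfsg.pointBlockGraph B)
    (hφ : φ none = none) : autOfPerm B (permOfAut φ hφ) (permOfAut_mem φ hφ) = φ := by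
  apply RelIso.ext
  rintro (_ | a | b)
  · rw [autOfPerm_none, hφ]
  · rw [autOfPerm_pt, permOfAut_spec φ hφ]
  · obtain ⟨hb, h1⟩ := autOfPerm_blk B (permOfAut φ hφ) (permOfAut_mem φ hφ) b
    obtain ⟨b', hb'⟩ := exists_blk φ hφ b
    rw [h1, hb']
    congr 2
    exact Subtype.ext (blk_image φ hφ b b' hb')

/-- the stabiliser of the extra vertex has the order of the automorphism group of the system -/
theorem card_stabilizer_none :
    Nat.card (stabilizer (Cfsg.pointBlockGraph B ≃g Cfsg.pointBlockGraph B)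
      (none : Option (α ⊕ ↥B))) = Nat.card (Cfsg.setSystemAut B) := by
  symm
  apply Nat.card_congr
  refine Equiv.ofBijective (fun g => ⟨autOfPerm B g.1 g.2, ?_⟩) ⟨?_, ?_⟩
  · rw [mem_stabilizer_iff]
    exact autOfPerm_none B g.1 g.2
  · intro g g' h
    apply Subtype.ext
    apply Equiv.ext
    intro a
    have h1 := congrArg (fun ψ => (ψ.1 : Cfsg.pointBlockGraph B ≃g Cfsg.pointBlockGraph B)
      (some (Sum.inl a))) h
    simp only [autOfPerm_pt, Option.some.injEq, Sum.inl.injEq] at h1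
    exact h1
  · rintro ⟨φ, hφ⟩
    have hφ' : φ none = none := mem_stabilizer_iff.mp hφ
    exact ⟨⟨permOfAut φ hφ', permOfAut_mem φ hφ'⟩, Subtype.ext (autOfPerm_permOfAut φ hφ')⟩

end Cfsg.Agent.Lib.Helper95.Srg
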