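import Mathlib
import Cfsg.Prelude.Def_Sporadic_a
import Cfsg.Agent.Lib.Helper95.SrgB
import Cfsg.Agent.Lib.Helper95.SrgD
import Cfsg.Agent.Lib.Helper95.BigNorm22
import Cfsg.Agent.S0428

set_option autoImplicit false

/-! Strongly regular graphs with parameters (100, 22, 0, 6) are vertex-transitive; the order of
the automorphism group of a point-block graph of an S(3, 6, 22). -/

namespace Cfsg.Agent.Lib.Helper95.Srg

open MulAction

/-- a strongly regular graph with parameters (100, 22, 0, 6) is vertex-transitive -/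
theorem exists_aut_map {V : Type*} [Fintype V] [DecidableEq V] {G : SimpleGraph V}
    [DecidableRel G.Adj] (F : Facts G) (u v : V) : ∃ ψ : G ≃g G, ψ u = v := by
  obtain ⟨e, he⟩ := Cfsg.Agent.Lib.Helper95.Big.setSystemIso_of_norm
    Cfsg.Agent.Lib.Helper95.Big.Std22 Cfsg.Agent.Lib.Helper95.Big.norm22
    (card_pt F u) (card_pt F v) (steiner F u) (steiner F v)
  refine ⟨(graphIso F u).trans ((pbgIso e _ _ he).trans (graphIso F v).symm), ?_⟩
  show (graphIso F v).symm (pbgIso e _ _ he (graphIso F u u)) = v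
  have h1 : graphIso F u u = none := vmap_base u
  rw [h1]
  have h2 : pbgIso e _ _ he none = none := rfl
  rw [h2, RelIso.symm_apply_eq]
  exact (vmap_base v).symm

/-- the order of the automorphism group of the point-block graph -/
theorem card_aut {α : Type*} [Fintype α] [DecidableEq α] (hα : Fintype.card α = 22)
    {B : Set (Finset α)} (hB : Cfsg.IsSteinerSystem 3 6 B) :
    Nat.card (Cfsg.pointBlockGraph B ≃g Cfsg.pointBlockGraph B) =
      100 * Nat.card (Cfsg.setSystemAut B) := by
  classical
  haveI : Fintype ↥B := Fintype.ofFinite _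
  have hsrg := Cfsg.Agent.S0428.result hα hB
  have F := facts_of_srg hsrg
  have : IsPretransitive (Cfsg.pointBlockGraph B ≃g Cfsg.pointBlockGraph B)
      (Option (α ⊕ ↥B)) := ⟨fun x y => by
    obtain ⟨ψ, hψ⟩ := exists_aut_map F x y
    exact ⟨ψ, hψ⟩⟩
  have h1 := MulAction.index_stabilizer_of_transitive
    (Cfsg.pointBlockGraph B ≃g Cfsg.pointBlockGraph B) (none : Option (α ⊕ ↥B))
  have h2 := Subgroup.card_mul_index
    (stabilizer (Cfsg.pointBlockGraph B ≃g Cfsg.pointBlockGraph B) (none : Option (α ⊕ ↥B)))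
  have h3 : Nat.card (Option (α ⊕ ↥B)) = 100 := by
    rw [Nat.card_eq_fintype_card]
    exact hsrg.card
  rw [h1, card_stabilizer_none, h3] at h2
  omega

end Cfsg.Agent.Lib.Helper95.Srg
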