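import Mathlib
import Cfsg.Prelude.Def_Classical
import Cfsg.Prelude.Def_LieClassical
import Cfsg.Agent.Lib.Helper65.UndDefs
import Cfsg.Agent.Lib.Helper44.HermUnipotent

/-!
# S5954 hive ("Und"), the MODEL + TRANSPORT half of leaf UND-A2 (helper95)

A unitary unipotent matrix of Jordan type `μ` fixes a nondegenerate `m`-space as soon as `μ` has a
sub-multiset of sum `m`.
-/

set_option autoImplicit false
set_option linter.unusedVariables false

namespace Cfsg.Agent.Lib.Helper65.Und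

open Module Matrix Cfsg.Agent.Lib.Helper43 Cfsg.Agent.Lib.Helper99 Cfsg.Agent.Lib.Helper44
  Cfsg.Agent.Lib.Helper44.HU Cfsg.Agent.Lib.Helper44.SUReg

variable {F : Type*} [Field F] [Fintype F] {q : ℕ}

/-- the orthogonal sum of two standard hermitian spaces -/
theorem a2m_isHermSpace_sum (hq : Fintype.card F = q ^ 2) (n₁ n₂ : ℕ) :
    IsHermSpace q (fun x y : (Fin n₁ → F) × (Fin n₂ → F) =>
      Cfsg.hermForm n₁ F q x.1 y.1 + Cfsg.hermForm n₂ F q x.2 y.2) := by
  have hs₁ := isHermSpace_std (q := q) hq n₁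
  have hs₂ := isHermSpace_std (q := q) hq n₂
  exact
    { add_left := by
        intro u u' w
        show Cfsg.hermForm n₁ F q (u + u').1 w.1 + Cfsg.hermForm n₂ F q (u + u').2 w.2 = _
        rw [Prod.fst_add, Prod.snd_add, hs₁.add_left, hs₂.add_left]
        show _ = (Cfsg.hermForm n₁ F q u.1 w.1 + Cfsg.hermForm n₂ F q u.2 w.2) +
          (Cfsg.hermForm n₁ F q u'.1 w.1 + Cfsg.hermForm n₂ F q u'.2 w.2)
        ring
      smul_left := by
        intro c u w
        show Cfsg.hermForm n₁ F q (c • u).1 w.1 + Cfsg.hermForm n₂ F q (c • u).2 w.2 = _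
        rw [Prod.smul_fst, Prod.smul_snd, hs₁.smul_left, hs₂.smul_left]
        show _ = c * (Cfsg.hermForm n₁ F q u.1 w.1 + Cfsg.hermForm n₂ F q u.2 w.2)
        ring
      conj := by
        intro u w
        show (Cfsg.hermForm n₁ F q u.1 w.1 + Cfsg.hermForm n₂ F q u.2 w.2) ^ q = _
        rw [frobK_add hq, hs₁.conj, hs₂.conj]
      nondeg := by
        intro w hw
        apply Prod.ext
        · apply hs₁.nondeg
          intro u
          have := hw (u, 0)
          show Cfsg.hermForm n₁ F q u w.1 = 0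
          have h0 : Cfsg.hermForm n₂ F q 0 w.2 = 0 := hs₂.zero_left _
          simp only [h0, add_zero] at this
          exact this
        · apply hs₂.nondeg
          intro u
          have := hw (0, u)
          show Cfsg.hermForm n₂ F q u w.2 = 0
          have h0 : Cfsg.hermForm n₁ F q 0 w.1 = 0 := hs₁.zero_left _
          simp only [h0, zero_add] at this
          exact this }

theorem a2m_smin_add (ν μ' : Multiset ℕ) (k : ℕ) : smin (ν + μ') k = smin ν k + smin μ' k := by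
  unfold smin
  rw [Multiset.map_add, Multiset.sum_add]

/-- MODEL + TRANSPORT: a unitary unipotent matrix of type `μ` fixes a nondegenerate `m`-space if some
sub-multiset of `μ` has sum `m`. -/
theorem a2m_fixes_of_type (hq : Fintype.card F = q ^ 2) (n m : ℕ)
    (U : Matrix (Fin n) (Fin n) F) (hU : IsU n q U) (hnil : IsNilpotent (U - 1))
    (μ ν : Multiset ℕ) (hμ : ∀ b ∈ μ, 1 ≤ b)
    (hdk : ∀ k, dker (Matrix.toLin' (U - 1)) k = (μ.map (fun b => min b k)).sum)
    (hν : ν ≤ μ) (hνs : ν.sum = m) : FixesNd n q m U := by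
  classical
  have hs := isHermSpace_std (q := q) hq n
  -- the endomorphism
  set T : (Fin n → F) →ₗ[F] (Fin n → F) := Matrix.toLin' U with hTdef
  have hT : ∀ x y, Cfsg.hermForm n F q (T x) (T y) = Cfsg.hermForm n F q x y := by
    intro x y
    rw [hTdef, Matrix.toLin'_apply, Matrix.toLin'_apply]
    exact hU x y
  have hT1 : T - 1 = Matrix.toLin' (U - 1) := by
    rw [hTdef, map_sub, Matrix.toLin'_one]
    rfl
  have hnilT : IsNilpotent (T - 1) := by
    obtain ⟨k, hk⟩ := hnil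
    refine ⟨k, ?_⟩
    rw [hT1, ← Matrix.toLin'_pow, hk, map_zero]
  have hfr : finrank F (Fin n → F) = n := by
    rw [Module.finrank_fintype_fun_eq_card, Fintype.card_fin]
  have hdkT : ∀ k, dker (T - 1) k = smin μ k := by
    intro k; rw [hT1]; exact hdk k
  have hμsum : μ.sum = n := by
    rw [sum_eq_finrank_of_dker (T - 1) hnilT μ hdkT, hfr]
  -- the complementary type
  set μ' : Multiset ℕ := μ - ν with hμ'
  have hμeq : μ = ν + μ' := (add_tsub_cancel_of_le hν).symm
  have hsum' : ν.sum + μ'.sum = n := by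
    rw [← Multiset.sum_add, ← hμeq, hμsum]
  set n₂ : ℕ := μ'.sum with hn₂
  have hmn : m + n₂ = n := by rw [← hνs]; exact hsum'
  have hν1 : ∀ b ∈ ν, 1 ≤ b := fun b hb => hμ b (Multiset.mem_of_le hν hb)
  have hμ'1 : ∀ b ∈ μ', 1 ≤ b := fun b hb => hμ b (Multiset.mem_of_le (Multiset.sub_le_self _ _) hb)
  obtain ⟨A₁, hA₁, hnil₁, hdk₁⟩ := exists_unipotent_of_type (K := F) hq ν hν1 m hνs
  obtain ⟨A₂, hA₂, hnil₂, hdk₂⟩ := exists_unipotent_of_type (K := F) hq μ' hμ'1 n₂ (Eq.refl _)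
  -- the model
  set H' : ((Fin m → F) × (Fin n₂ → F)) → ((Fin m → F) × (Fin n₂ → F)) → F :=
    fun x y => Cfsg.hermForm m F q x.1 y.1 + Cfsg.hermForm n₂ F q x.2 y.2 with hH'def
  have hH' : IsHermSpace q H' := a2m_isHermSpace_sum hq m n₂
  set T' : ((Fin m → F) × (Fin n₂ → F)) →ₗ[F] ((Fin m → F) × (Fin n₂ → F)) :=
    (Matrix.toLin' A₁).prodMap (Matrix.toLin' A₂) with hT'def
  have hT' : ∀ x y, H' (T' x) (T' y) = H' x y := by
    intro x y
    show Cfsg.hermForm m F q (A₁ *ᵥ x.1) (A₁ *ᵥ y.1) + Cfsg.hermForm n₂ F q (A₂ *ᵥ x.2) (A₂ *ᵥ y.2)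
      = Cfsg.hermForm m F q x.1 y.1 + Cfsg.hermForm n₂ F q x.2 y.2
    rw [unitary_isometry hq A₁ hA₁, unitary_isometry hq A₂ hA₂]
  have hfr' : finrank F ((Fin m → F) × (Fin n₂ → F)) = n := by
    rw [Module.finrank_prod, Module.finrank_fintype_fun_eq_card, Module.finrank_fintype_fun_eq_card,
      Fintype.card_fin, Fintype.card_fin, hmn]
  have hT'1 : T' - 1 = (Matrix.toLin' (A₁ - 1)).prodMap (Matrix.toLin' (A₂ - 1)) := by
    apply LinearMap.ext
    intro x
    apply Prod.ext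
    · simp [hT'def]
    · simp [hT'def]
  have hnilT' : IsNilpotent (T' - 1) := by
    obtain ⟨k₁, hk₁⟩ := hnil₁
    obtain ⟨k₂, hk₂⟩ := hnil₂
    refine ⟨k₁ + k₂, ?_⟩
    have e₁ : (Matrix.toLin' (A₁ - 1)) ^ (k₁ + k₂) = 0 := by
      rw [← Matrix.toLin'_pow, pow_add, hk₁, zero_mul, map_zero]
    have e₂ : (Matrix.toLin' (A₂ - 1)) ^ (k₁ + k₂) = 0 := by
      rw [← Matrix.toLin'_pow, pow_add, hk₂, mul_zero, map_zero]
    rw [hT'1, prodMap_pow', e₁, e₂]
    apply LinearMap.ext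
    intro x
    rfl
  have hdkT' : ∀ k, dker (T' - 1) k = dker (T - 1) k := by
    intro k
    rw [hT'1, dker_prodMap, hdk₁, hdk₂, hdkT, hμeq]
    exact (a2m_smin_add ν μ' k).symm
  -- transport
  obtain ⟨Φ, hΦH, hΦT⟩ := unipotent_iso (K := F) hq n ((Fin m → F) × (Fin n₂ → F)) (Fin n → F)
    H' (Cfsg.hermForm n F q) hH' hs T' T hT' hT hnilT' hnilT hfr' hdkT'
  -- the invariant nondegenerate subspace
  refine ⟨(Submodule.fst F (Fin m → F) (Fin n₂ → F)).map (Φ : _ →ₗ[F] (Fin n → F)), ?_, ?_, ?_⟩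
  · rw [LinearEquiv.finrank_map_eq, (Submodule.fstEquiv F (Fin m → F) (Fin n₂ → F)).finrank_eq,
      Module.finrank_fintype_fun_eq_card, Fintype.card_fin]
  · rintro u ⟨x, hx, rfl⟩ hu0
    have hx2 : x.2 = 0 := by simpa [Submodule.fst] using hx
    have hx1 : x.1 ≠ 0 := by
      intro h
      apply hu0
      have : x = 0 := Prod.ext h hx2
      rw [this]
      exact map_zero _
    -- nondegeneracy in the first variable
    have hs₁ := isHermSpace_std (q := q) hq m
    have hex : ∃ y₁ : Fin m → F, Cfsg.hermForm m F q x.1 y₁ ≠ 0 := by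
      by_contra hcon
      simp only [not_exists, not_not] at hcon
      apply hx1
      apply hs₁.nondeg
      intro u
      rw [← hs₁.conj x.1 u, hcon u, zero_pow (q_ne_zero hq)]
    obtain ⟨y₁, hy₁⟩ := hex
    refine ⟨Φ (y₁, 0), ⟨(y₁, 0), by simp [Submodule.fst], Eq.refl _⟩, ?_⟩
    have h1 := hΦH x (y₁, 0)
    rw [show ((Φ : _ →ₗ[F] (Fin n → F)) x) = Φ x from Eq.refl _, h1]
    show Cfsg.hermForm m F q x.1 y₁ + Cfsg.hermForm n₂ F q x.2 0 ≠ 0
    have hs₂ := isHermSpace_std (q := q) hq n₂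
    rw [hs₂.zero_right hq, add_zero]
    exact hy₁
  · rintro _ ⟨_, ⟨x, hx, rfl⟩, rfl⟩
    have hx2 : x.2 = 0 := by simpa [Submodule.fst] using hx
    refine ⟨T' x, ?_, ?_⟩
    · show (T' x) ∈ Submodule.fst F (Fin m → F) (Fin n₂ → F)
      have : (T' x).2 = 0 := by
        show Matrix.toLin' A₂ x.2 = 0
        rw [hx2, map_zero]
      simpa [Submodule.fst] using this
    · show Φ (T' x) = Matrix.toLin' U (Φ x)
      rw [hΦT x]

end Cfsg.Agent.Lib.Helper65.Und
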